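import Cfsg.Agent.H43.Coherence
import Cfsg.Agent.CharInduce.Isometry

/-!
Coherence of equal-degree families and of chains satisfying the degree-sum criterion.
-/

set_option autoImplicit false

namespace Cfsg.Agent.H28.Coh

open Cfsg.Agent

universe u v

open Classical in
/-- The degree-sum criterion for adjoining one irreducible character (any source group). -/
theorem coherence_criterion {L : Type u} [Group L] [Fintype L] {G : Type v} [Group G] [Fintype G] (S₀ : Finset (L → ℂ)) (χ : L → ℂ) (hirr : ∀ ξ ∈ S₀, Cfsg.IsIrrCharacter L ξ) (hχ : Cfsg.IsIrrCharacter L χ) (hχS : χ ∉ S₀) (d : (L → ℂ) → ℕ) (hd : ∀ ξ ∈ insert χ S₀, ξ 1 = (d ξ : ℂ)) (τ : (L → ℂ) → (G → ℂ)) (hτ : Cfsg.IsLinearIsometryOn (Cfsg.zspanOn (↑(insert χ S₀) : Set (L → ℂ)) {1}ᶜ) τ) (hτ1 : ∀ α ∈ Cfsg.zspanOn (↑(insert χ S₀) : Set (L → ℂ)) {1}ᶜ, τ α 1 = 0) (hcoh : Cfsg.IsCoherent (↑S₀ : Set (L → ℂ)) {1}ᶜ τ)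 (ψ : L → ℂ) (hψ : ψ ∈ S₀) (hdvd : d ψ ∣ d χ) (hlt : 2 * d ψ * d χ < ∑ ξ ∈ S₀, d ξ ^ 2) : Cfsg.IsCoherent (↑(insert χ S₀) : Set (L → ℂ)) {1}ᶜ τ := by
  classical
  obtain ⟨-, τ₁, hτ₁, hagr⟩ := hcoh
  set S := insert χ S₀ with hS
  have hirrS : ∀ a ∈ S, Cfsg.IsIrrCharacter L a := by
    intro a ha
    rcases Finset.mem_insert.mp ha with rfl | h
    · exact hχ
    · exact hirr a h
  have hψS : ψ ∈ S := Finset.mem_insert_of_mem hψ
  have hχmem : χ ∈ S := Finset.mem_insert_self _ _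
  have hψχ : ψ ≠ χ := fun e => hχS (e ▸ hψ)
  have hdpos : ∀ a ∈ S, 0 < d a := by
    intro a ha
    obtain ⟨r, hr, hr'⟩ := CharBasic.IsIrr.exists_degree (hirrS a ha)
    have h := (hd a ha).symm.trans hr'
    rw [Nat.cast_inj] at h
    omega
  obtain ⟨m, hm⟩ := hdvd
  set β := χ - (m : ℤ) • ψ with hβdef
  have hβmem : β ∈ Cfsg.zspanOn (↑S : Set (L → ℂ)) {1}ᶜ := by
    rw [H43.zspanOn_compl_one]
    refine ⟨H43.zspan_sub (H43.zspan_mem (Finset.mem_coe.mpr hχmem))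
      (H43.zspan_zsmul (H43.zspan_mem (Finset.mem_coe.mpr hψS)) _), ?_⟩
    simp [hβdef, hd χ hχmem, hd ψ hψS, hm]
    ring
  have hχξ : ∀ ξ ∈ S₀, Cfsg.classInner χ ξ = 0 := fun ξ hξ =>
    CharBasic.classInner_irr_of_ne hχ (hirr ξ hξ) (fun e => hχS (e ▸ hξ))
  have hξχ : ∀ ξ ∈ S₀, Cfsg.classInner ξ χ = 0 := fun ξ hξ =>
    CharBasic.classInner_irr_of_ne (hirr ξ hξ) hχ (fun e => hχS (e ▸ hξ))
  choose g hg using fun ξ : {ξ // ξ ∈ S₀} => H43.gen_inner_int (H43.iso_gen hτ hβmem)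
    (H43.iso_gen hτ₁ (H43.zspan_mem (Finset.mem_coe.mpr ξ.2)))
  let a : (L → ℂ) → ℤ := fun ξ => if h : ξ ∈ S₀ then g ⟨ξ, h⟩ else 0
  have ha : ∀ ξ ∈ S₀, Cfsg.classInner (τ β) (τ₁ ξ) = (a ξ : ℂ) := by
    intro ξ hξ; simp only [a, dif_pos hξ]; exact hg ⟨ξ, hξ⟩
  set k : ℤ := a ψ + m with hk
  have hpairmem : ∀ ξ ∈ S₀, (d ψ : ℤ) • ξ - (d ξ : ℤ) • ψ ∈ Cfsg.zspanOn (↑S₀ : Set (L → ℂ)) {1}ᶜ := by
    intro ξ hξ
    rw [H43.zspanOn_compl_one]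
    refine ⟨H43.zspan_sub (H43.zspan_zsmul (H43.zspan_mem (Finset.mem_coe.mpr hξ)) _)
      (H43.zspan_zsmul (H43.zspan_mem (Finset.mem_coe.mpr hψ)) _), ?_⟩
    simp [hd ξ (Finset.mem_insert_of_mem hξ), hd ψ hψS]
    ring
  have hsub : Cfsg.zspanOn (↑S₀ : Set (L → ℂ)) {1}ᶜ ⊆ Cfsg.zspanOn (↑S : Set (L → ℂ)) {1}ᶜ :=
    fun α hα => ⟨H43.zspan_mono (fun x hx => Finset.mem_coe.mpr (Finset.mem_insert_of_mem (Finset.mem_coe.mp hx))) hα.1, hα.2⟩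
  have hτpair : ∀ ξ ∈ S₀, τ ((d ψ : ℤ) • ξ - (d ξ : ℤ) • ψ) = (d ψ : ℤ) • τ₁ ξ - (d ξ : ℤ) • τ₁ ψ := by
    intro ξ hξ
    have h1 := H43.zspan_zsmul (H43.zspan_mem (S := (↑S₀ : Set (L → ℂ))) (Finset.mem_coe.mpr hξ)) (d ψ : ℤ)
    have h2 := H43.zspan_zsmul (H43.zspan_mem (S := (↑S₀ : Set (L → ℂ))) (Finset.mem_coe.mpr hψ)) (d ξ : ℤ)
    rw [← hagr _ (hpairmem ξ hξ), H43.iso_sub hτ₁ h1 h2 (H43.zspan_sub h1 h2),
      hτ₁.2.1 ξ (H43.zspan_mem (Finset.mem_coe.mpr hξ)), hτ₁.2.1 ψ (H43.zspan_mem (Finset.mem_coe.mpr hψ))]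
  -- the linear relation between the coefficients
  have hrel : ∀ ξ ∈ S₀, (d ψ : ℤ) * (a ξ + if ξ = ψ then (m : ℤ) else 0) = (d ξ : ℤ) * k := by
    intro ξ hξ
    have h := H43.iso_inner hτ hβmem (hsub (hpairmem ξ hξ))
    rw [hτpair ξ hξ] at h
    simp only [hβdef, CharBasic.classInner_sub_left, CharBasic.classInner_sub_right,
      H43.classInner_zsmul_left, H43.classInner_zsmul_right, hχξ ξ hξ, hχξ ψ hψ, ha ξ hξ, ha ψ hψ,
      CharBasic.classInner_irr_self (hirr ψ hψ)] at h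
    rw [← hβdef, ha ξ hξ, ha ψ hψ, CharBasic.classInner_irr (hirr ψ hψ) (hirr ξ hξ)] at h
    have h2 : (((d ψ : ℤ) * (a ξ + if ξ = ψ then (m : ℤ) else 0) : ℤ) : ℂ) = (((d ξ : ℤ) * k : ℤ) : ℂ) := by
      rw [hk]
      push_cast at h ⊢
      by_cases he : ξ = ψ
      · rw [if_pos he]; subst he; simp only [if_true] at h; linear_combination h
      · rw [if_neg he]; rw [if_neg (Ne.symm he)] at h; linear_combination h
    exact_mod_cast h2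
  -- Bessel
  set Γ := τ β - ∑ ξ ∈ S₀, (a ξ : ℂ) • τ₁ ξ with hΓ
  have hsum_inner : ∀ ξ ∈ S₀, Cfsg.classInner (∑ η ∈ S₀, (a η : ℂ) • τ₁ η) (τ₁ ξ) = (a ξ : ℂ) := by
    intro ξ hξ
    rw [CharBasic.classInner_sum_left, Finset.sum_eq_single ξ (fun η hη hne => by
      rw [CharBasic.classInner_smul_left, H43.iso_inner hτ₁ (H43.zspan_mem (Finset.mem_coe.mpr hη))
        (H43.zspan_mem (Finset.mem_coe.mpr hξ)), CharBasic.classInner_irr_of_ne (hirr η hη) (hirr ξ hξ) hne,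
        mul_zero]) (fun h => absurd hξ h), CharBasic.classInner_smul_left,
      H43.iso_inner hτ₁ (H43.zspan_mem (Finset.mem_coe.mpr hξ)) (H43.zspan_mem (Finset.mem_coe.mpr hξ)),
      CharBasic.classInner_irr_self (hirr ξ hξ), mul_one]
  have hΓorth : ∀ ξ ∈ S₀, Cfsg.classInner Γ (τ₁ ξ) = 0 := fun ξ hξ => by
    rw [hΓ, CharBasic.classInner_sub_left, ha ξ hξ, hsum_inner ξ hξ, sub_self]
  have hΓnorm : Cfsg.classInner Γ Γ = ((1 + (m : ℤ) ^ 2 - ∑ ξ ∈ S₀, a ξ ^ 2 : ℤ) : ℂ) := by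
    have hb : Cfsg.classInner (τ β) (τ β) = 1 + (m : ℂ) ^ 2 := by
      rw [H43.iso_inner hτ hβmem hβmem, hβdef]
      simp only [CharBasic.classInner_sub_left, CharBasic.classInner_sub_right,
        H43.classInner_zsmul_left, H43.classInner_zsmul_right, hχξ ψ hψ, hξχ ψ hψ,
        CharBasic.classInner_irr_self hχ, CharBasic.classInner_irr_self (hirr ψ hψ), Int.cast_natCast]
      ring
    have e : Cfsg.classInner Γ Γ = Cfsg.classInner Γ (τ β) := by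
      conv_lhs => arg 2; rw [hΓ]
      rw [CharBasic.classInner_sub_right, CharBasic.classInner_sum_right,
        Finset.sum_eq_zero (fun ξ hξ => by rw [CharBasic.classInner_smul_right, hΓorth ξ hξ, mul_zero]),
        sub_zero]
    rw [e, hΓ, CharBasic.classInner_sub_left, hb, CharBasic.classInner_sum_left]
    push_cast
    congr 1
    refine Finset.sum_congr rfl fun ξ hξ => ?_
    rw [CharBasic.classInner_smul_left, ← CharBasic.classInner_conj_symm, ha ξ hξ, map_intCast, sq]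
  have hΓnn : 0 ≤ 1 + (m : ℤ) ^ 2 - ∑ ξ ∈ S₀, a ξ ^ 2 := by
    have := H43.classInner_self_re_nonneg Γ
    rw [hΓnorm, Complex.intCast_re] at this
    exact_mod_cast this
  set J : ℤ := ∑ ξ ∈ S₀, (a ξ + if ξ = ψ then (m : ℤ) else 0) ^ 2 with hJdef
  have hJ : J = ∑ ξ ∈ S₀, a ξ ^ 2 + 2 * k * m - m ^ 2 := by
    have : ∀ ξ ∈ S₀, (a ξ + if ξ = ψ then (m : ℤ) else 0) ^ 2
        = a ξ ^ 2 + if ξ = ψ then 2 * a ψ * m + m ^ 2 else 0 := by
      intro ξ _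
      split_ifs with h
      · subst h; ring
      · ring
    rw [hJdef, Finset.sum_congr rfl this, Finset.sum_add_distrib, Finset.sum_ite_eq', if_pos hψ, hk]
    ring
  have hJd : (d ψ : ℤ) ^ 2 * J = k ^ 2 * ∑ ξ ∈ S₀, (d ξ : ℤ) ^ 2 := by
    rw [hJdef, Finset.mul_sum, Finset.mul_sum]
    refine Finset.sum_congr rfl fun ξ hξ => ?_
    rw [← mul_pow, hrel ξ hξ]; ring
  have hk0 : k = 0 := by
    by_contra hk0
    have hdψ : (0 : ℤ) < d ψ := by exact_mod_cast hdpos ψ hψS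
    have hlt' : 2 * (d ψ : ℤ) * d χ < ∑ ξ ∈ S₀, (d ξ : ℤ) ^ 2 := by exact_mod_cast hlt
    have hmc : (d χ : ℤ) = d ψ * m := by exact_mod_cast hm
    have hkabs : k * (k - 1) ≥ 0 := by
      rcases Int.lt_or_lt_of_ne hk0 with h | h
      · exact mul_nonneg_of_nonpos_of_nonpos (by omega) (by omega)
      · exact mul_nonneg (by omega) (by omega)
    have hksq : 1 ≤ k ^ 2 := by
      have : 0 < k ^ 2 := by positivity
      omega
    have hJgt : 2 * k * m < J := by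
      have h1 : (d ψ : ℤ) ^ 2 * (2 * k * m) < (d ψ : ℤ) ^ 2 * J := by
        rw [hJd]
        have e1 : k ^ 2 * (2 * (d ψ : ℤ) * (d ψ * m)) < k ^ 2 * ∑ ξ ∈ S₀, (d ξ : ℤ) ^ 2 :=
          mul_lt_mul_of_pos_left (hmc ▸ hlt') (by omega)
        have e2 : 0 ≤ (k * (k - 1)) * (2 * (d ψ : ℤ) ^ 2 * m) := mul_nonneg hkabs (by positivity)
        nlinarith
      exact lt_of_mul_lt_mul_left h1 (by positivity)
    have hΓ0 : Γ = 0 := by
      refine CharBasic.classInner_self_eq_zero.mp ?_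
      rw [hΓnorm]
      have : 1 + (m : ℤ) ^ 2 - ∑ ξ ∈ S₀, a ξ ^ 2 = 0 := by omega
      rw [this]; simp
    have h1 : τ β 1 = 0 := hτ1 _ hβmem
    rw [sub_eq_zero.mp (hΓ ▸ hΓ0 : τ β - ∑ ξ ∈ S₀, (a ξ : ℂ) • τ₁ ξ = 0), Finset.sum_apply] at h1
    have hdψC : (d ψ : ℂ) ≠ 0 := by exact_mod_cast (hdpos ψ hψS).ne'
    have hval : ∀ ξ ∈ S₀, (d ψ : ℂ) * τ₁ ξ 1 = (d ξ : ℂ) * τ₁ ψ 1 := by
      intro ξ hξ
      have h2 := hτ1 _ (hsub (hpairmem ξ hξ))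
      rw [hτpair ξ hξ] at h2
      simpa [sub_eq_zero] using h2
    have hψv : τ₁ ψ 1 ≠ 0 := (H43.iso_signed hτ₁ (H43.zspan_mem (Finset.mem_coe.mpr hψ))
      (CharBasic.classInner_irr_self (hirr ψ hψ))).one_ne_zero
    have h3 : (((∑ ξ ∈ S₀, a ξ * d ξ : ℤ)) : ℂ) * τ₁ ψ 1 = 0 := by
      rw [Int.cast_sum, Finset.sum_mul]
      calc ∑ ξ ∈ S₀, ((a ξ * (d ξ : ℤ) : ℤ) : ℂ) * τ₁ ψ 1
          = ∑ ξ ∈ S₀, (d ψ : ℂ) * ((a ξ : ℂ) • τ₁ ξ) 1 := by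
            refine Finset.sum_congr rfl fun ξ hξ => ?_
            push_cast
            rw [Pi.smul_apply, smul_eq_mul, mul_left_comm, hval ξ hξ]; ring
        _ = 0 := by rw [← Finset.mul_sum, h1, mul_zero]
    have h4 : ∑ ξ ∈ S₀, a ξ * (d ξ : ℤ) = 0 := by
      exact_mod_cast (mul_eq_zero.mp h3).resolve_right hψv
    have h5 : (d ψ : ℤ) * ∑ ξ ∈ S₀, a ξ * (d ξ : ℤ)
        = k * (∑ ξ ∈ S₀, (d ξ : ℤ) ^ 2) - (d ψ : ℤ) ^ 2 * m := by
      have : ∀ ξ ∈ S₀, (d ψ : ℤ) * (a ξ * d ξ)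
          = k * (d ξ : ℤ) ^ 2 - if ξ = ψ then (d ψ : ℤ) ^ 2 * m else 0 := by
        intro ξ hξ
        have := hrel ξ hξ
        split_ifs with h
        · subst h; rw [if_pos rfl] at this; linear_combination (d ξ : ℤ) * this
        · rw [if_neg h] at this; linear_combination (d ξ : ℤ) * this
      rw [Finset.mul_sum, Finset.sum_congr rfl this, Finset.sum_sub_distrib, Finset.sum_ite_eq',
        if_pos hψ, Finset.mul_sum]
    rw [h4, mul_zero] at h5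
    rcases Int.lt_or_lt_of_ne hk0 with h | h
    · have : k * (∑ ξ ∈ S₀, (d ξ : ℤ) ^ 2) < 0 := mul_neg_of_neg_of_pos h (by nlinarith)
      nlinarith
    · have : (∑ ξ ∈ S₀, (d ξ : ℤ) ^ 2) ≤ k * (∑ ξ ∈ S₀, (d ξ : ℤ) ^ 2) :=
        le_mul_of_one_le_left (by positivity) (by omega)
      nlinarith
  have hacoef : ∀ ξ ∈ S₀, a ξ = - if ξ = ψ then (m : ℤ) else 0 := by
    intro ξ hξ
    have h := hrel ξ hξ
    rw [hk0, mul_zero, mul_eq_zero] at h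
    have := h.resolve_left (by exact_mod_cast (hdpos ψ hψS).ne')
    omega
  have hΓ1 : Cfsg.classInner Γ Γ = 1 := by
    have hz : J = 0 := by
      rw [hJdef]
      refine Finset.sum_eq_zero fun ξ hξ => ?_
      rw [hacoef ξ hξ]; simp
    rw [hJ, hk0] at hz
    have : 1 + (m : ℤ) ^ 2 - ∑ ξ ∈ S₀, a ξ ^ 2 = 1 := by linarith
    rw [hΓnorm, this]; simp
  have hΓeq : Γ = τ β + (m : ℤ) • τ₁ ψ := by
    rw [hΓ, sub_eq_add_neg, ← Finset.sum_neg_distrib]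
    congr 1
    rw [Finset.sum_eq_single ψ (fun ξ hξ hne => by rw [hacoef ξ hξ, if_neg hne]; simp)
      (fun h => absurd hψ h), hacoef ψ hψ, if_pos rfl]
    ext x; simp
  let f : (L → ℂ) → (G → ℂ) := fun ξ => if ξ = χ then Γ else τ₁ ξ
  have fS : ∀ ξ ∈ S₀, f ξ = τ₁ ξ := fun ξ hξ => if_neg (fun e : ξ = χ => hχS (e ▸ hξ))
  have fχ : f χ = Γ := if_pos rfl
  refine H43.coherent_of_images S _ subset_rfl τ hτ (fun ξ hξ e => ?_) (fun x hx y hy h =>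
    CharBasic.classInner_irr_of_ne (hirrS x hx) (hirrS y hy) h) (fun ξ => (d ξ : ℤ))
    (fun ξ hξ => by simp [hd ξ hξ]) ψ hψS (by exact_mod_cast (hdpos ψ hψS).ne') f ?_ ?_ ?_
    ⟨χ, hχmem, hψχ.symm⟩
  · have := CharBasic.classInner_irr_self (hirrS ξ hξ)
    rw [e] at this; simp at this
  · intro ξ hξ
    rcases Finset.mem_insert.mp hξ with rfl | h
    · rw [fχ, hΓeq]
      exact H43.gen_add (H43.iso_gen hτ hβmem)
        (H43.gen_zsmul (H43.iso_gen hτ₁ (H43.zspan_mem (Finset.mem_coe.mpr hψ))) _)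
    · rw [fS ξ h]; exact H43.iso_gen hτ₁ (H43.zspan_mem (Finset.mem_coe.mpr h))
  · intro x hx y hy
    rcases Finset.mem_insert.mp hx with hxe | hx <;> rcases Finset.mem_insert.mp hy with hye | hy
    · rw [hxe, hye, fχ, hΓ1, CharBasic.classInner_irr_self hχ]
    · rw [hxe, fχ, fS y hy, hΓorth y hy, hχξ y hy]
    · rw [hye, fχ, fS x hx, ← CharBasic.classInner_conj_symm, hΓorth x hx, map_zero, hξχ x hx]
    · rw [fS x hx, fS y hy]
      exact H43.iso_inner hτ₁ (H43.zspan_mem (Finset.mem_coe.mpr hx)) (H43.zspan_mem (Finset.mem_coe.mpr hy))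
  · intro ξ hξ
    rcases Finset.mem_insert.mp hξ with rfl | h
    · rw [fχ, fS ψ hψ, hΓeq]
      have e : (d ψ : ℤ) • ξ - (d ξ : ℤ) • ψ = (d ψ : ℤ) • β := by
        rw [hβdef, smul_sub, smul_smul, hm, Nat.cast_mul]
      rw [e, hτ.2.1 β hβmem, smul_add, smul_smul, hm, Nat.cast_mul, add_sub_cancel_right]
    · rw [fS ξ h, fS ψ hψ]; exact hτpair ξ h


variable {L : Type u} [Group L] [Fintype L] {G : Type v} [Group G] [Fintype G]

open Classical in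
/-- At least two irreducible characters of one degree always form a coherent family. -/
theorem coherent_equal_degree (S : Finset (L → ℂ)) (T : Set (L → ℂ)) (hST : ↑S ⊆ T)
    (hirr : ∀ ξ ∈ S, Cfsg.IsIrrCharacter L ξ) (e : ℕ) (he : 0 < e) (hd : ∀ ξ ∈ S, ξ 1 = (e : ℂ))
    (hcard : 2 ≤ S.card) (τ : (L → ℂ) → (G → ℂ))
    (hτ : Cfsg.IsLinearIsometryOn (Cfsg.zspanOn T ({1}ᶜ : Set L)) τ)
    (hτ1 : ∀ α ∈ Cfsg.zspanOn T ({1}ᶜ : Set L), τ α 1 = 0) :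
    Cfsg.IsCoherent (↑S : Set (L → ℂ)) ({1}ᶜ : Set L) τ := by
  obtain ⟨χ₁, hχ₁⟩ := Finset.card_pos.1 (show 0 < S.card by omega)
  let ξ : Fin S.card ≃ S := S.equivFin.symm
  set i₀ := ξ.symm ⟨χ₁, hχ₁⟩ with hi₀
  have hξ0 : (ξ i₀ : L → ℂ) = χ₁ := by rw [hi₀, Equiv.apply_symm_apply]
  have hmem : ∀ i, (ξ i : L → ℂ) - χ₁ ∈ Cfsg.zspanOn T ({1}ᶜ : Set L) := fun i => by
    rw [H43.zspanOn_compl_one]
    exact ⟨H43.zspan_sub (H43.zspan_mem (hST (ξ i).2)) (H43.zspan_mem (hST hχ₁)),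
      by simp [hd _ (ξ i).2, hd _ hχ₁]⟩
  obtain ⟨ε, hε, μ, hμ, hμinj, hμτ⟩ := CharInduce.Isometry.exists_signed_family S.card i₀
    (fun i => τ ((ξ i : L → ℂ) - χ₁))
    (by simp only [hξ0, sub_self]; exact H43.iso_zero hτ H43.zspanOn_zero)
    (fun i => H43.iso_gen hτ (hmem i)) (fun i => hτ1 _ (hmem i)) (fun i j hi hj => by
      rw [H43.iso_inner hτ (hmem i) (hmem j)]
      have h1 : (ξ i : L → ℂ) ≠ χ₁ := fun h => hi (ξ.injective (Subtype.ext (h.trans hξ0.symm)))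
      have h2 : (ξ j : L → ℂ) ≠ χ₁ := fun h => hj (ξ.injective (Subtype.ext (h.trans hξ0.symm)))
      rw [CharBasic.classInner_sub_left, CharBasic.classInner_sub_right,
        CharBasic.classInner_sub_right, CharBasic.classInner_irr_of_ne (hirr _ (ξ i).2) (hirr _ hχ₁) h1,
        CharBasic.classInner_irr_of_ne (hirr _ hχ₁) (hirr _ (ξ j).2) h2.symm,
        CharBasic.classInner_irr_self (hirr _ hχ₁)]
      rcases eq_or_ne i j with rfl | hij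
      · rw [if_pos rfl, CharBasic.classInner_irr_self (hirr _ (ξ i).2)]; norm_num
      · rw [if_neg hij, CharBasic.classInner_irr_of_ne (hirr _ (ξ i).2) (hirr _ (ξ j).2)
          (fun h => hij (ξ.injective (Subtype.ext h)))]
        norm_num)
  let f : (L → ℂ) → (G → ℂ) := fun α => if h : α ∈ S then ε • μ (ξ.symm ⟨α, h⟩) else 0
  have hf : ∀ (α : L → ℂ) (h : α ∈ S), f α = ε • μ (ξ.symm ⟨α, h⟩) := fun α h => dif_pos h
  obtain ⟨β, hβ, hne⟩ := S.exists_mem_ne (by omega) χ₁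
  refine H43.coherent_of_images S T hST τ hτ (fun a ha h => ?_)
    (fun a ha b hb h => CharBasic.classInner_irr_of_ne (hirr a ha) (hirr b hb) h)
    (fun _ => (e : ℤ)) (fun a ha => by simp [hd a ha]) χ₁ hχ₁ (by exact_mod_cast he.ne') f ?_ ?_ ?_
    ⟨β, hβ, hne⟩
  · have := hd a ha
    rw [h, Pi.zero_apply, eq_comm, Nat.cast_eq_zero] at this
    omega
  · intro a ha
    rw [hf a ha]
    rcases hε with rfl | rfl
    · rw [one_smul]; exact H43.gen_of_irr (hμ _)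
    · rw [neg_one_smul]; exact H43.gen_neg (H43.gen_of_irr (hμ _))
  · intro a ha b hb
    rw [hf a ha, hf b hb, CharBasic.classInner_smul_left, CharBasic.classInner_smul_right,
      CharBasic.classInner_irr (hμ _) (hμ _), CharBasic.classInner_irr (hirr a ha) (hirr b hb)]
    simp only [hμinj.eq_iff, Equiv.apply_eq_iff_eq, Subtype.mk.injEq]
    rcases hε with rfl | rfl <;> simp
  · intro a ha
    rw [hf a ha, hf χ₁ hχ₁, ← hi₀, ← smul_sub]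
    have hm := hmem (ξ.symm ⟨a, ha⟩)
    have ha' : ((ξ (ξ.symm ⟨a, ha⟩)) : L → ℂ) = a := by rw [Equiv.apply_symm_apply]
    rw [ha'] at hm
    rw [hτ.2.1 _ hm, ← smul_sub, ← smul_sub]
    congr 1
    have := hμτ (ξ.symm ⟨a, ha⟩)
    rwa [ha'] at this

open Classical in
/-- Coherence propagates from a base family through every degree satisfying the criterion. -/
theorem coherent_chain (S B : Finset (L → ℂ)) (hBS : B ⊆ S)
    (hirr : ∀ ξ ∈ S, Cfsg.IsIrrCharacter L ξ) (d : (L → ℂ) → ℕ)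
    (hd : ∀ ξ ∈ S, ξ 1 = (d ξ : ℂ)) (τ : (L → ℂ) → (G → ℂ))
    (hτ : Cfsg.IsLinearIsometryOn (Cfsg.zspanOn (↑S : Set (L → ℂ)) ({1}ᶜ : Set L)) τ)
    (hτ1 : ∀ α ∈ Cfsg.zspanOn (↑S : Set (L → ℂ)) ({1}ᶜ : Set L), τ α 1 = 0)
    (hB : Cfsg.IsCoherent (↑B : Set (L → ℂ)) ({1}ᶜ : Set L) τ) (ψ : L → ℂ) (hψ : ψ ∈ B)
    (hlow : ∀ χ ∈ S, χ ∉ B → (∀ ξ ∈ B, d ξ < d χ) ∧ d ψ ∣ d χ ∧
      2 * d ψ * d χ < ∑ ξ ∈ S.filter (fun ξ => d ξ < d χ), d ξ ^ 2) :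
    Cfsg.IsCoherent (↑S : Set (L → ℂ)) ({1}ᶜ : Set L) τ := by
  suffices ∀ n, ∀ T : Finset (L → ℂ), T.card = n → B ⊆ T → T ⊆ S →
      (∀ χ ∈ T, χ ∉ B → ∀ ξ ∈ S, d ξ < d χ → ξ ∈ T) →
      Cfsg.IsCoherent (↑T : Set (L → ℂ)) ({1}ᶜ : Set L) τ from
    this _ S rfl hBS subset_rfl fun _ _ _ ξ hξ _ => hξ
  intro n
  induction n with
  | zero =>
    intro T hT hBT _ _
    have := hBT hψ
    rw [Finset.card_eq_zero.1 hT] at this
    simp at this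
  | succ n ih =>
    intro T hT hBT hTS hdown
    by_cases hTB : T ⊆ B
    · rwa [Finset.Subset.antisymm hTB hBT]
    have hne : (T \ B).Nonempty := Finset.sdiff_nonempty.2 hTB
    obtain ⟨χ, hχ, hmax⟩ := (T \ B).exists_max_image d hne
    obtain ⟨hχT, hχB⟩ := Finset.mem_sdiff.1 hχ
    obtain ⟨hbase, hdvd, hsum⟩ := hlow χ (hTS hχT) hχB
    have hsub : T.erase χ ⊆ S := (Finset.erase_subset _ _).trans hTS
    have hcoh := ih (T.erase χ) (by rw [Finset.card_erase_of_mem hχT, hT]; rfl)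
      (fun x hx => Finset.mem_erase.2 ⟨fun h => hχB (h ▸ hx), hBT hx⟩) hsub
      (fun η hη hηB ξ hξ hlt => Finset.mem_erase.2 ⟨fun h => by
        have := hmax η (Finset.mem_sdiff.2 ⟨(Finset.mem_erase.1 hη).2, hηB⟩)
        rw [h] at hlt
        omega, hdown η (Finset.mem_erase.1 hη).2 hηB ξ hξ hlt⟩)
    have hins : insert χ (T.erase χ) = T := Finset.insert_erase hχT
    have hsubT : Cfsg.zspanOn (↑T : Set (L → ℂ)) ({1}ᶜ : Set L) ⊆
        Cfsg.zspanOn (↑S : Set (L → ℂ)) ({1}ᶜ : Set L) :=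
      fun α hα => ⟨H43.zspan_mono (Finset.coe_subset.2 hTS) hα.1, hα.2⟩
    rw [← hins] at hsubT ⊢
    refine coherence_criterion (T.erase χ) χ (fun ξ hξ => hirr ξ (hsub hξ)) (hirr χ (hTS hχT))
      (Finset.notMem_erase _ _) d (fun ξ hξ => hd ξ (hTS (hins ▸ hξ))) τ ?_
      (fun α hα => hτ1 α (hsubT hα)) hcoh ψ
      (Finset.mem_erase.2 ⟨fun h => hχB (h ▸ hψ), hBT hψ⟩) hdvd ?_
    · exact ⟨fun α hα β hβ => hτ.1 α (hsubT hα) β (hsubT hβ), fun α hα k => hτ.2.1 α (hsubT hα) k,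
        fun α hα β hβ => hτ.2.2.1 α (hsubT hα) β (hsubT hβ), fun α hα => hτ.2.2.2 α (hsubT hα)⟩
    · refine lt_of_lt_of_le hsum (Finset.sum_le_sum_of_subset fun ξ hξ => ?_)
      obtain ⟨hξS, hξd⟩ := Finset.mem_filter.1 hξ
      exact Finset.mem_erase.2 ⟨fun h => by rw [h] at hξd; omega, hdown χ hχT hχB ξ hξS hξd⟩

end Cfsg.Agent.H28.Coh
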