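import Cfsg.Agent.H28.FrobDegree
import Cfsg.Agent.H28.CoherenceChain
import Cfsg.Agent.H84.UniquePSingular
import Cfsg.Agent.Frobenius.FPFAut

/-!
Feit's coherence theorem for Frobenius groups.
-/

set_option autoImplicit false

namespace Cfsg.Agent.H28.Frob

open Cfsg.Agent Finset

universe u v

variable {N : Type u} [Group N] [Fintype N] {H : Subgroup N} [H.Normal]

theorem two_le_index (h : H ≠ ⊤) : 2 ≤ H.index := by
  have h0 : H.index ≠ 0 := Subgroup.index_ne_zero_of_finite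
  have h1 : H.index ≠ 1 := fun e => h (Subgroup.index_eq_one.1 e)
  omega

theorem coprime_index (hC : IsFrobKer H) : (Nat.card H).Coprime H.index := by
  rw [Nat.coprime_comm]
  by_contra hne
  obtain ⟨p, hp, hpi, hph⟩ := Nat.Prime.not_coprime_iff_dvd.1 hne
  have := Fact.mk hp
  obtain ⟨P⟩ : Nonempty (Sylow p N) := inferInstance
  obtain ⟨⟨u, hu⟩, huo⟩ := exists_prime_orderOf_dvd_card' p hph
  rw [Subgroup.orderOf_mk] at huo
  have hpu : IsPGroup p (Subgroup.zpowers u) :=
    IsPGroup.of_card (n := 1) (by rw [Nat.card_zpowers, huo, pow_one])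
  obtain ⟨P, hP⟩ := hpu.exists_le_sylow
  have hPH : ¬ (P : Subgroup N) ≤ H := fun hle =>
    P.not_dvd_index (hpi.trans (Subgroup.index_dvd_of_le hle))
  have hPne : Nontrivial (P : Subgroup N) :=
    ⟨⟨⟨u, hP (Subgroup.mem_zpowers u)⟩, 1, fun h => by
      have h' : u = 1 := congrArg Subtype.val h
      rw [h', orderOf_one] at huo
      exact hp.ne_one huo.symm⟩⟩
  have := P.isPGroup'.center_nontrivial
  obtain ⟨⟨z, hz⟩, hz1⟩ := exists_ne (1 : Subgroup.center (P : Subgroup N))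
  have hzc : ∀ x ∈ (P : Subgroup N), x * (z : N) = (z : N) * x := fun x hx =>
    congrArg Subtype.val (Subgroup.mem_center_iff.1 hz ⟨x, hx⟩)
  have hz1' : (z : N) ≠ 1 := fun h => hz1 (Subtype.ext (Subtype.ext h))
  have hu1 : u ≠ 1 := fun h' => by rw [h', orderOf_one] at huo; exact hp.ne_one huo.symm
  have hzH : (z : N) ∈ H := hC u hu hu1 (Subgroup.mem_centralizer_singleton_iff.2
    (hzc u (hP (Subgroup.mem_zpowers u))).symm)
  exact hPH fun x hx => hC z hzH hz1' (Subgroup.mem_centralizer_singleton_iff.2 (hzc x hx))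

theorem isNilpotent (hC : IsFrobKer H) (h : H ≠ ⊤) : Group.IsNilpotent H := by
  obtain ⟨p, hp, hpi⟩ := Nat.exists_prime_and_dvd (n := H.index)
    (fun e => h (Subgroup.index_eq_one.1 e))
  have := Fact.mk hp
  obtain ⟨x, hxo⟩ := exists_prime_orderOf_dvd_card' p
    (hpi.trans (Subgroup.index_dvd_card H))
  have hxH : x ∉ H := fun hx => by
    have h1 : p ∣ Nat.card H := hxo ▸ Subgroup.orderOf_dvd_natCard H hx
    exact hp.not_dvd_one ((coprime_index hC).gcd_eq_one ▸ Nat.dvd_gcd h1 hpi)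
  have hmap : H.map ((MulAut.conj x : N ≃* N) : N →* N) = H := by
    ext u
    constructor
    · rintro ⟨w, hw, rfl⟩
      exact (inferInstance : H.Normal).conj_mem w hw x
    · intro hu
      exact ⟨x⁻¹ * u * x, by simpa using (inferInstance : H.Normal).conj_mem u hu x⁻¹,
        by simp [MulAut.conj_apply, mul_assoc]⟩
  refine Frobenius.isNilpotent_of_fpf (Nat.card H) hp H
    (Frobenius.restrictEquiv (MulAut.conj x) H hmap) rfl ?_ ?_
  · intro u hu
    have h1 : x * (u : N) * x⁻¹ = u := congrArg Subtype.val hu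
    by_contra hu1
    exact hxH (hC u u.2 (fun h' => hu1 (Subtype.ext h'))
      (Subgroup.mem_centralizer_singleton_iff.2 (mul_inv_eq_iff_eq_mul.1 h1)))
  · intro u
    refine Subtype.ext ?_
    rw [Frobenius.iterate_restrictEquiv]
    have hiter : ∀ (n : ℕ) (g : N), (⇑(MulAut.conj x))^[n] g = x ^ n * g * (x ^ n)⁻¹ := by
      intro n
      induction n with
      | zero => intro g; simp
      | succ n ih =>
        intro g
        rw [Function.iterate_succ_apply', ih, MulAut.conj_apply, pow_succ']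
        group
    rw [hiter, ← hxo, pow_orderOf_eq_one]
    simp

theorem orbit_degree (τ : Cfsg.IrrCharacter H) (q : N ⧸ H) :
    Cfsg.charDegree (orbit τ q : H → ℂ) = Cfsg.charDegree (τ : H → ℂ) := by
  induction q using QuotientGroup.induction_on
  rename_i x
  simp [orbit_mk, Cfsg.charDegree, CharInduce.conjFun]
  rfl

theorem orbit_ne_one {τ : Cfsg.IrrCharacter H} (hτ : (τ : H → ℂ) ≠ fun _ => 1) (q : N ⧸ H) :
    (orbit τ q : H → ℂ) ≠ fun _ => 1 := by
  induction q using QuotientGroup.induction_on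
  rename_i x
  intro h
  apply hτ
  funext n
  have := congrFun h ((MulAut.conjNormal x : H ≃* H).symm n)
  rw [orbit_mk, CharInduce.conjFun_eq_comp] at this
  simpa using this

theorem ind_orbit (hC : IsFrobKer H) {φ : Cfsg.IrrCharacter H}
    (hφ : (φ : H → ℂ) ≠ fun _ => 1) (q : N ⧸ H) :
    Cfsg.indFun H (orbit φ q : H → ℂ) = Cfsg.indFun H (φ : H → ℂ) := by
  classical
  have := Fintype.ofFinite H
  have hi := ind_isIrr hC φ.2 hφ
  have hj := ind_isIrr hC (orbit φ q).2 (orbit_ne_one hφ q)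
  by_contra hne
  have h0 := CharBasic.classInner_irr_of_ne hi hj (Ne.symm hne)
  rw [CharInduce.classInner_indFun_right H _ _ (CharBasic.IsIrr.isClassFunction hi)] at h0
  induction q using QuotientGroup.induction_on
  rename_i x
  rw [orbit_mk, CharInduce.classInner_res_conjFun H (CharBasic.IsIrr.isClassFunction hi),
    ← CharInduce.classInner_indFun_right H _ _ (CharBasic.IsIrr.isClassFunction hi),
    CharBasic.classInner_irr_self hi] at h0
  exact one_ne_zero h0

theorem exists_decomp [Group.IsNilpotent H] {p : ℕ} (hp : p.Prime)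
    (hne : ¬ IsPGroup p H) :
    ∃ (A B : Type u) (_ : Group A) (_ : Group B) (_ : Fintype A) (_ : Fintype B)
      (_ : H ≃* A × B), IsPGroup p A ∧ (Nat.card B).Coprime p ∧ Nontrivial B ∧
        Group.IsNilpotent B := by
  classical
  have := Fact.mk hp
  obtain ⟨K, P, hK, hP, e, hA, hB⟩ := H84.exists_prod_of_nilpotent (G := H) p
  refine ⟨H ⧸ K, H ⧸ P, inferInstance, inferInstance, Fintype.ofFinite _, Fintype.ofFinite _, e,
    hA, hB, ?_, inferInstance⟩
  by_contra hn
  rw [not_nontrivial_iff_subsingleton] at hn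
  exact hne (hA.of_injective ((MonoidHom.fst _ _).comp e.toMonoidHom) fun u v h =>
    e.injective (Prod.ext h (Subsingleton.elim _ _)))

theorem degree_le_pow (hC : IsFrobKer H) (htop : H ≠ ⊤) {θ : H → ℂ}
    (hθ : Cfsg.IsIrrCharacter H θ) (hm : 1 < Cfsg.charDegree θ) [Fintype H]
    (hne : ∀ p : ℕ, p.Prime → IsPGroup p H → 4 * H.index ^ 2 + 1 < (commutator H).index) :
    2 * H.index * Cfsg.charDegree θ + 1 < lowSum H (Cfsg.charDegree θ) := by
  classical
  have he := two_le_index htop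
  set m := Cfsg.charDegree θ with hm'
  obtain ⟨p, hp, hpm⟩ := Nat.exists_prime_and_dvd (n := m) (by omega)
  by_cases hpg : IsPGroup p H
  · have h1 := hne p hp hpg
    have h2 := pGroup_sq_le_lowSum hp hpg hθ hm
    have h3 := card_hom_le_lowSum (H := H) hm
    rw [card_hom_eq] at h3
    rw [← hm'] at h2
    rcases le_or_gt m (2 * H.index) with h | h
    · nlinarith
    · nlinarith
  have := isNilpotent hC htop
  obtain ⟨A, B, _, _, _, _, e, hA, hB, hBn, hBnil⟩ := exists_decomp hp hpg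
  have hθ' : Cfsg.IsIrrCharacter (A × B) (θ ∘ e.symm) :=
    CharInduce.IsIrr.comp hθ e.symm.toMonoidHom e.symm.surjective
  obtain ⟨α, β, hα, hβ, hαβ⟩ := CharInduce.exists_outer_of_isIrr hθ'
  have hθe : θ = outer e α β := funext fun u => by simpa [outer] using congrFun hαβ (e u)
  have hab : m = Cfsg.charDegree α * Cfsg.charDegree β := by
    rw [hm', hθe, degree_outer e hα hβ]
  have ha : 1 < Cfsg.charDegree α := by
    rcases (Nat.Prime.dvd_mul hp).1 (hab ▸ hpm) with h | h
    · exact hp.one_lt.trans_le (Nat.le_of_dvd (degree_spec hα).2 h)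
    · exact absurd (Nat.dvd_gcd (h.trans (degree_dvd_card hβ)) dvd_rfl)
        (by rw [hB.gcd_eq_one]; exact hp.not_dvd_one)
  -- a nontrivial character of `B` of degree `deg β`
  obtain ⟨β₀, hβ₀, hβ₀1, hβ₀d⟩ : ∃ β₀ : B → ℂ, Cfsg.IsIrrCharacter B β₀ ∧ β₀ ≠ (fun _ => 1) ∧
      Cfsg.charDegree β₀ = Cfsg.charDegree β := by
    by_cases hβ1 : β = fun _ => 1
    · obtain ⟨l, hl⟩ := exists_hom_ne_one (H := B)
      refine ⟨fun g => (l g : ℂ), CharInduce.isIrrCharacter_hom l,
        fun h => hl (hom_injective (h.trans (by funext g; simp))), ?_⟩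
      rw [degree_hom, hβ1]; simp [Cfsg.charDegree]
    · exact ⟨β, hβ, hβ1, rfl⟩
  let τ : Cfsg.IrrCharacter H := ⟨_, isIrr_outer e (CharBasic.isIrrCharacter_one (G := A)) hβ₀⟩
  have hτ : (τ : H → ℂ) ≠ fun _ => 1 := by
    intro h
    apply hβ₀1
    funext y
    simpa [τ, outer] using congrFun h (e.symm (1, y))
  have hdesc : ∀ q : N ⧸ H, ∃ β' : Cfsg.IrrCharacter B,
      Cfsg.charDegree (β' : B → ℂ) = Cfsg.charDegree β ∧
      (orbit τ q : H → ℂ) = fun u => (β' : B → ℂ) (e u).2 := by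
    intro q
    induction q using QuotientGroup.induction_on
    rename_i x
    obtain ⟨β', hd, hβ'⟩ := descend e hp hA hB (MulAut.conjNormal x : H ≃* H) hβ₀
    refine ⟨β', hd.trans hβ₀d, funext fun u => ?_⟩
    rw [orbit_mk, CharInduce.conjFun_eq_comp]
    show (1 : ℂ) * β₀ (e ((MulAut.conjNormal x : H ≃* H) u)).2 = _
    rw [one_mul]
    exact hβ' u
  choose g hgd hg using hdesc
  have hginj : Function.Injective g := fun q r h =>
    orbit_injective hC hτ (Subtype.ext (by rw [hg, hg, h]))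
  let one : Cfsg.IrrCharacter B := ⟨_, CharBasic.isIrrCharacter_one⟩
  have := Fintype.ofFinite (N ⧸ H)
  have hnot : one ∉ Finset.univ.image g := by
    intro h
    obtain ⟨q, -, hq⟩ := mem_image.1 h
    refine orbit_ne_one hτ q ?_
    rw [hg, hq]
  have hlow := lowSum_prod e (a := Cfsg.charDegree α) (b := Cfsg.charDegree β)
    (insert one (Finset.univ.image g)) (degree_spec hβ).2 (fun φ hφ => by
      rcases mem_insert.1 hφ with rfl | hφ
      · simpa [one, Cfsg.charDegree, Nat.one_le_iff_ne_zero] using (degree_spec hβ).2.ne'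
      · obtain ⟨q, -, rfl⟩ := mem_image.1 hφ
        exact (hgd q).le)
  rw [← hab, Finset.sum_insert hnot, Finset.sum_image fun q _ r _ h => hginj h,
    Finset.sum_congr rfl (fun q _ => by rw [hgd q]), Finset.sum_const, Finset.card_univ,
    ← Nat.card_eq_fintype_card, ← Subgroup.index_eq_card, smul_eq_mul,
    show Cfsg.charDegree (one : B → ℂ) = 1 by simp [one, Cfsg.charDegree]] at hlow
  have hsq := pGroup_sq_le_lowSum hp hA hα ha
  set a := Cfsg.charDegree α
  set b := Cfsg.charDegree β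
  have h1 : a ^ 2 * (1 ^ 2 + H.index * b ^ 2) ≤ lowSum H m :=
    le_trans (Nat.mul_le_mul_right _ hsq) hlow
  rw [hab] at h1 hm ⊢
  nlinarith [Nat.mul_le_mul_left (H.index * (a * b)) (show 2 ≤ a * b by omega),
    Nat.mul_le_mul ha.le ha.le]

theorem exists_two_linear (hC : IsFrobKer H) (htop : H ≠ ⊤) [Fintype H] (hbot : H ≠ ⊥)
    (hne : ∀ p : ℕ, p.Prime → IsPGroup p H → H.index + 1 < (commutator H).index) :
    ∃ l l' : H →* ℂˣ, l ≠ 1 ∧ l' ≠ 1 ∧
      Cfsg.indFun H (fun g => (l g : ℂ)) ≠ Cfsg.indFun H (fun g => (l' g : ℂ)) := by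
  classical
  obtain ⟨p, hp, hpd⟩ := Nat.exists_prime_and_dvd (n := Nat.card H)
    (fun h => hbot (Subgroup.card_eq_one.1 h))
  have := Fact.mk hp
  by_cases hpg : IsPGroup p H
  · by_contra hcon
    push Not at hcon
    have h1 := hne p hp hpg
    rw [← card_hom_eq] at h1
    have hnil := isNilpotent hC htop
    have : Nontrivial H := (Subgroup.nontrivial_iff_ne_bot H).2 hbot
    obtain ⟨l, hl⟩ := exists_hom_ne_one (H := H)
    have hne1 : ∀ l' : H →* ℂˣ, l' ≠ 1 → (fun g => (l' g : ℂ)) ≠ fun _ => 1 :=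
      fun l' hl' h => hl' (hom_injective (h.trans (by funext g; simp)))
    have := Fintype.ofFinite (H →* ℂˣ)
    let T : Finset (Cfsg.IrrCharacter H) :=
      (Finset.univ.erase (1 : H →* ℂˣ)).image fun l' => ⟨_, CharInduce.isIrrCharacter_hom l'⟩
    have hT : T.card = Nat.card (H →* ℂˣ) - 1 := by
      rw [Finset.card_image_of_injective _ (fun a b h => hom_injective (congrArg Subtype.val h)),
        Finset.card_erase_of_mem (mem_univ _), card_univ, Nat.card_eq_fintype_card]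
    have hle := card_fibre_le hC T (fun φ hφ => by
      obtain ⟨l', hl', rfl⟩ := mem_image.1 hφ
      exact hne1 l' (mem_erase.1 hl').1) (Cfsg.indFun H (fun g => (l g : ℂ)))
    rw [Finset.filter_true_of_mem (fun φ hφ => by
      obtain ⟨l', hl', rfl⟩ := mem_image.1 hφ
      exact hcon l' l (mem_erase.1 hl').1 hl)] at hle
    omega
  have hnil := isNilpotent hC htop
  obtain ⟨A, B, _, _, _, _, e, hA, hB, hBn, hBnil⟩ := exists_decomp hp hpg
  have hAn : Nontrivial A := by
    by_contra hn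
    rw [not_nontrivial_iff_subsingleton] at hn
    rw [Nat.card_congr e.toEquiv, Nat.card_prod, Nat.card_of_subsingleton (1 : A), one_mul] at hpd
    exact hp.not_dvd_one (hB.gcd_eq_one ▸ Nat.dvd_gcd hpd dvd_rfl)
  have hAnil : Group.IsNilpotent A := IsPGroup.isNilpotent hA
  obtain ⟨lA, hlA⟩ := exists_hom_ne_one (H := A)
  obtain ⟨lB, hlB⟩ := exists_hom_ne_one (H := B)
  let l : H →* ℂˣ := lA.comp ((MonoidHom.fst A B).comp e.toMonoidHom)
  let l' : H →* ℂˣ := lB.comp ((MonoidHom.snd A B).comp e.toMonoidHom)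
  have hl : l ≠ 1 := fun h => hlA (MonoidHom.ext fun x => by
    simpa [l] using DFunLike.congr_fun h (e.symm (x, 1)))
  have hl' : l' ≠ 1 := fun h => hlB (MonoidHom.ext fun x => by
    simpa [l'] using DFunLike.congr_fun h (e.symm (1, x)))
  refine ⟨l, l', hl, hl', fun hind => ?_⟩
  obtain ⟨x, hx⟩ := exists_conj_of_ind_eq hC (CharInduce.isIrrCharacter_hom l')
    (fun h => hl' (hom_injective (h.trans (by funext g; simp))))
    (CharInduce.isIrrCharacter_hom l) hind.symm
  obtain ⟨β', -, hβ'⟩ := descend e hp hA hB (MulAut.conjNormal x : H ≃* H)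
    (CharInduce.isIrrCharacter_hom lB)
  refine hlA (MonoidHom.ext fun y => ?_)
  have h1 := congrFun hx (e.symm (y, 1))
  have h2 := congrFun hx 1
  rw [CharInduce.conjFun_eq_comp] at h1 h2
  have h3 := hβ' (e.symm (y, 1))
  have h4 := hβ' 1
  simp [l, l'] at h1 h2 h3 h4 ⊢
  exact Units.ext (by rw [h1, h3, ← h4, Units.val_one])

/-- Feit's coherence theorem for a Frobenius group. -/
theorem coherent {G : Type v} [Group G] [Fintype G] (hC : IsFrobKer H) (htop : H ≠ ⊤)
    (hbot : H ≠ ⊥) (he : Nat.card H ≠ H.index + 1) (τ : (N → ℂ) → (G → ℂ))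
    (hτ : Cfsg.IsLinearIsometryOn
      (Cfsg.zspanOn {χ : N → ℂ | Cfsg.IsIrrCharacter N χ ∧ ∃ h ∈ H, χ h ≠ χ 1} {1}ᶜ) τ)
    (hτ1 : ∀ α ∈ Cfsg.zspanOn {χ : N → ℂ | Cfsg.IsIrrCharacter N χ ∧ ∃ h ∈ H, χ h ≠ χ 1} {1}ᶜ,
      τ α 1 = 0)
    (hexc : ∀ p : ℕ, p.Prime → IsPGroup p H → ¬ IsMulCommutative H →
      4 * H.index ^ 2 + 1 < (commutator H).index) :
    Cfsg.IsCoherent {χ : N → ℂ | Cfsg.IsIrrCharacter N χ ∧ ∃ h ∈ H, χ h ≠ χ 1} {1}ᶜ τ := by
  classical
  have := Fintype.ofFinite H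
  have he2 := two_le_index htop
  let I : Finset (Cfsg.IrrCharacter H) :=
    Finset.univ.filter fun φ : Cfsg.IrrCharacter H => (φ : H → ℂ) ≠ fun _ => 1
  set S : Finset (N → ℂ) := I.image fun φ : Cfsg.IrrCharacter H => Cfsg.indFun H (φ : H → ℂ)
    with hSdef
  have hS : {χ : N → ℂ | Cfsg.IsIrrCharacter N χ ∧ ∃ h ∈ H, χ h ≠ χ 1} = ↑S := by
    ext χ
    simp only [hSdef, Finset.coe_image, Set.mem_image, Set.mem_setOf_eq, mem_coe]
    constructor
    · rintro ⟨h1, h2⟩
      obtain ⟨t, ht, ht1, rfl⟩ := exists_ind_eq hC h1 h2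
      exact ⟨⟨t, ht⟩, mem_filter.2 ⟨mem_univ _, ht1⟩, rfl⟩
    · rintro ⟨φ, hφ, rfl⟩
      exact ⟨ind_isIrr hC φ.2 (mem_filter.1 hφ).2, ind_not_const hC φ.2 (mem_filter.1 hφ).2⟩
  rw [hS] at hτ hτ1 ⊢
  let d : (N → ℂ) → ℕ := Cfsg.charDegree
  have hd : ∀ φ : Cfsg.IrrCharacter H, d (Cfsg.indFun H (φ : H → ℂ)) =
      H.index * Cfsg.charDegree (φ : H → ℂ) := fun φ => by
    show Cfsg.charDegree _ = _
    rw [Cfsg.charDegree, ind_degree φ.2, Complex.natCast_re, Nat.floor_natCast]
  have hirr : ∀ ξ ∈ S, Cfsg.IsIrrCharacter N ξ := fun ξ hξ => by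
    obtain ⟨φ, hφ, rfl⟩ := mem_image.1 hξ
    exact ind_isIrr hC φ.2 (mem_filter.1 hφ).2
  have hdS : ∀ ξ ∈ S, ξ 1 = (d ξ : ℂ) := fun ξ hξ => (degree_spec (hirr ξ hξ)).1
  have habel : IsMulCommutative H → ∀ φ : Cfsg.IrrCharacter H, Cfsg.charDegree (φ : H → ℂ) = 1 := by
    intro hab φ
    have := (CharBasic.commutative_iff_forall_linear (G := H)).1 hab.is_comm.comm φ
    simp [Cfsg.charDegree, this]
  have hbase : ∀ p : ℕ, p.Prime → IsPGroup p H → H.index + 1 < (commutator H).index := by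
    intro p hp hpg
    by_cases hab : IsMulCommutative H
    · have hbc : commutator H = ⊥ := by
        rw [eq_bot_iff, commutator_def, Subgroup.commutator_le]
        intro u _ w _
        rw [Subgroup.mem_bot]
        exact commutatorElement_eq_one_iff_mul_comm.2 (hab.is_comm.comm u w)
      rw [hbc, Subgroup.index_bot]
      have hfpf : H.index ∣ Nat.card H - 1 := by
        have h1 := sum_sq_degree_nat H
        rw [← Finset.sum_filter_add_sum_filter_not _
          (fun φ : Cfsg.IrrCharacter H => (φ : H → ℂ) ≠ fun _ => 1)] at h1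
        rw [Finset.sum_congr rfl (fun φ _ => by rw [habel hab φ, one_pow]),
          ← Finset.card_eq_sum_ones, Finset.sum_congr rfl (fun φ _ => by rw [habel hab φ, one_pow]),
          ← Finset.card_eq_sum_ones] at h1
        have h2 : (Finset.univ.filter fun φ : Cfsg.IrrCharacter H =>
            ¬ ((φ : H → ℂ) ≠ fun _ => 1)).card = 1 :=
          Finset.card_eq_one.2 ⟨⟨_, CharBasic.isIrrCharacter_one⟩, by
            ext φ; simp [Subtype.ext_iff]⟩
        rw [h2] at h1
        rw [show Nat.card H - 1 = I.card by simp only [I]; omega,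
          Finset.card_eq_sum_card_image (fun φ : Cfsg.IrrCharacter H => Cfsg.indFun H (φ : H → ℂ)) I]
        refine Finset.dvd_sum fun χ hχ => ?_
        obtain ⟨φ, hφ, rfl⟩ := mem_image.1 hχ
        have := Fintype.ofFinite (N ⧸ H)
        rw [show (I.filter fun ψ : Cfsg.IrrCharacter H => Cfsg.indFun H (ψ : H → ℂ) =
            Cfsg.indFun H (φ : H → ℂ)) = Finset.univ.image (orbit φ) from ?_,
          Finset.card_image_of_injective _ (orbit_injective hC (mem_filter.1 hφ).2), card_univ,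
          ← Nat.card_eq_fintype_card, ← Subgroup.index_eq_card]
        ext ψ
        simp only [mem_filter, mem_image, mem_univ, true_and, I]
        constructor
        · rintro ⟨hψ, hψe⟩
          obtain ⟨x, hx⟩ := exists_conj_of_ind_eq hC φ.2 (mem_filter.1 hφ).2 ψ.2 hψe.symm
          exact ⟨x, Subtype.ext hx.symm⟩
        · rintro ⟨q, rfl⟩
          refine ⟨orbit_ne_one (mem_filter.1 hφ).2 q, ?_⟩
          exact ind_orbit hC (mem_filter.1 hφ).2 q
      obtain ⟨k, hk⟩ := hfpf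
      have h1 : 1 < Nat.card H := (Subgroup.one_lt_card_iff_ne_bot H).2 hbot
      have hk2 : 2 ≤ k := by
        rcases Nat.lt_or_ge k 2 with h | h
        · interval_cases k <;> omega
        · exact h
      have : H.index * 2 ≤ H.index * k := Nat.mul_le_mul_left _ hk2
      omega
    · have := hexc p hp hpg hab
      nlinarith
  obtain ⟨l, l', hl, hl', hll⟩ := exists_two_linear hC htop hbot hbase
  have hne1 : ∀ l : H →* ℂˣ, l ≠ 1 → (fun g => (l g : ℂ)) ≠ fun _ => 1 :=
    fun l hl h => hl (hom_injective (h.trans (by funext g; simp)))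
  let B := S.filter fun ξ => d ξ = H.index
  have hlB : ∀ l : H →* ℂˣ, l ≠ 1 → Cfsg.indFun H (fun g => (l g : ℂ)) ∈ B := fun l hl => by
    refine mem_filter.2 ⟨mem_image.2 ⟨⟨_, CharInduce.isIrrCharacter_hom l⟩,
      mem_filter.2 ⟨mem_univ _, hne1 l hl⟩, rfl⟩, ?_⟩
    rw [hd ⟨_, CharInduce.isIrrCharacter_hom l⟩, degree_hom, mul_one]
  have hBcard : 2 ≤ B.card := Finset.one_lt_card.2 ⟨_, hlB l hl, _, hlB l' hl', hll⟩
  have hBcoh := Coh.coherent_equal_degree B (↑S : Set (N → ℂ))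
    (Finset.coe_subset.2 (Finset.filter_subset _ _)) (fun ξ hξ => hirr ξ (mem_filter.1 hξ).1)
    H.index (by omega) (fun ξ hξ => by rw [hdS ξ (mem_filter.1 hξ).1, (mem_filter.1 hξ).2])
    hBcard τ hτ hτ1
  refine Coh.coherent_chain S B (Finset.filter_subset _ _) hirr d hdS τ hτ hτ1 hBcoh _ (hlB l hl) ?_
  intro χ hχ hχB
  obtain ⟨φ, hφ, rfl⟩ := mem_image.1 hχ
  have hdl : d (Cfsg.indFun H (fun g => (l g : ℂ))) = H.index := (mem_filter.1 (hlB l hl)).2
  have hm : 1 < Cfsg.charDegree (φ : H → ℂ) := by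
    have h1 := (degree_spec φ.2).2
    by_contra hc
    refine hχB (mem_filter.2 ⟨hχ, ?_⟩)
    rw [hd φ, show Cfsg.charDegree (φ : H → ℂ) = 1 by omega, mul_one]
  refine ⟨fun ξ hξ => ?_, ?_, ?_⟩
  · rw [(mem_filter.1 hξ).2, hd φ]
    exact lt_mul_of_one_lt_right (by omega) hm
  · rw [hdl, hd φ]; exact dvd_mul_right _ _
  have hbound := degree_le_pow hC htop φ.2 hm (fun p hp hpg => by
    by_cases hab : IsMulCommutative H
    · have := habel hab φ; omega
    · exact hexc p hp hpg hab)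
  set m := Cfsg.charDegree (φ : H → ℂ)
  let D := I.filter fun ψ : Cfsg.IrrCharacter H => Cfsg.charDegree (ψ : H → ℂ) < m
  have hD : lowSum H m ≤ (∑ ψ ∈ D, Cfsg.charDegree (ψ : H → ℂ) ^ 2) + 1 := by
    let one : Cfsg.IrrCharacter H := ⟨_, CharBasic.isIrrCharacter_one⟩
    have hsub : (Finset.univ.filter fun ψ : Cfsg.IrrCharacter H =>
        Cfsg.charDegree (ψ : H → ℂ) < m) ⊆ insert one D := fun ψ hψ => by
      by_cases h1 : (ψ : H → ℂ) = fun _ => 1
      · exact mem_insert.2 (Or.inl (Subtype.ext h1))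
      · exact mem_insert.2 (Or.inr (mem_filter.2
          ⟨mem_filter.2 ⟨mem_univ _, h1⟩, (mem_filter.1 hψ).2⟩))
    refine (Finset.sum_le_sum_of_subset hsub).trans ?_
    rw [Finset.sum_insert (by simp [one, D, I])]
    simp [one, Cfsg.charDegree, add_comm]
  have hmap : ∀ ψ ∈ D, Cfsg.indFun H (ψ : H → ℂ) ∈
      S.filter fun ξ => d ξ < d (Cfsg.indFun H (φ : H → ℂ)) := fun ψ hψ => by
    obtain ⟨hψI, hψm⟩ := mem_filter.1 hψ
    refine mem_filter.2 ⟨mem_image.2 ⟨ψ, hψI, rfl⟩, ?_⟩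
    rw [hd ψ, hd φ]
    exact Nat.mul_lt_mul_of_pos_left hψm (by omega)
  have hfib : H.index * (∑ ψ ∈ D, Cfsg.charDegree (ψ : H → ℂ) ^ 2) ≤
      ∑ ξ ∈ S.filter (fun ξ => d ξ < d (Cfsg.indFun H (φ : H → ℂ))), d ξ ^ 2 := by
    refine Nat.le_of_mul_le_mul_left ?_ (show 0 < H.index by omega)
    rw [← mul_assoc, ← pow_two, Finset.mul_sum, Finset.mul_sum,
      ← Finset.sum_fiberwise_of_maps_to hmap]
    refine Finset.sum_le_sum fun ξ _ => ?_
    rw [Finset.sum_congr rfl (g := fun _ => d ξ ^ 2), Finset.sum_const, smul_eq_mul]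
    · refine Nat.mul_le_mul_right _ (card_fibre_le hC D
        (fun ψ hψ => (mem_filter.1 (mem_filter.1 hψ).1).2) ξ)
    · intro ψ hψ
      rw [← (mem_filter.1 hψ).2, hd ψ, mul_pow]
  refine lt_of_lt_of_le ?_ hfib
  rw [hdl, hd φ]
  calc 2 * H.index * (H.index * m) = H.index * (2 * H.index * m) := by ring
    _ < _ := Nat.mul_lt_mul_of_pos_left (by omega) (by omega)

end Cfsg.Agent.H28.Frob
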