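import Cfsg.Agent.H28.ZassReduce

/-!
A simple Zassenhaus group is not sharply triply transitive with two-point stabiliser of even order.
-/

set_option autoImplicit false

namespace Cfsg.Agent.H28.Zass

open MulAction Finset
open scoped ComplexConjugate

universe u

variable {G : Type u} {Ω : Type*} [Group G] [MulAction G Ω] [Finite Ω] {a b : Ω} {H : Subgroup G}

/-- The projection `G_a = H E → E`. -/
theorem exists_proj (hH : IsKer a H) (hZ : Cfsg.IsZassenhausGroup G Ω) (hab : a ≠ b) :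
    ∃ π : stabilizer G a →* ↥(stabilizer G a ⊓ stabilizer G b),
      (∀ u : stabilizer G a, (u : G) ∈ H → π u = 1) ∧
      ∀ x : ↥(stabilizer G a ⊓ stabilizer G b), π ⟨x, (mem_two.1 x.2).1⟩ = x := by
  have hdec : ∀ g : stabilizer G a,
      ∃ q : H × ↥(stabilizer G a ⊓ stabilizer G b), (g : G) = q.1 * q.2 := fun g => by
    obtain ⟨u, hu, x, hx, he⟩ := hH.decomp hZ hab g.2
    exact ⟨(⟨u, hu⟩, ⟨x, hx⟩), he⟩
  choose q hq using hdec
  have huniq : ∀ (g : stabilizer G a) (u : H) (x : ↥(stabilizer G a ⊓ stabilizer G b)),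
      (g : G) = u * x → (q g).2 = x :=
    fun g u x h => Subtype.ext (hH.decomp_unique hab (q g).1.2 u.2 (q g).2.2 x.2
      ((hq g).symm.trans h)).2
  let π : stabilizer G a →* ↥(stabilizer G a ⊓ stabilizer G b) :=
    { toFun := fun g => (q g).2
      map_one' := huniq 1 1 1 (by simp)
      map_mul' := fun g k => by
        have hc := hH.conj_mem hZ (mem_two.1 (q g).2.2).1 (q k).1.2
        refine huniq (g * k) ⟨_, mul_mem (q g).1.2 hc⟩ ((q g).2 * (q k).2) ?_
        simp only [Subgroup.coe_mul]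
        rw [hq g, hq k]
        group }
  exact ⟨π, fun u hu => huniq u ⟨u, hu⟩ 1 (by simp), fun x => huniq _ 1 x (by simp)⟩

variable [Fintype G]

open Classical in
/-- Value on `H#` of a class function of `G_a`, constant on `H`, induced to `G`. -/
theorem ind_ker_apply (hH : IsKer a H) (hZ : Cfsg.IsZassenhausGroup G Ω)
    (f : stabilizer G a → ℂ) (c : ℂ)
    (hc : ∀ u : stabilizer G a, (u : G) ∈ H → f u = c) {u : G} (hu : u ∈ H) (hu1 : u ≠ 1) :
    Cfsg.indFun (stabilizer G a) f u = c := by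
  rw [CharInduce.indFun_apply]
  have h : ∀ x : G, Cfsg.extendByZero (stabilizer G a) f (x⁻¹ * u * x) =
      if x ∈ stabilizer G a then c else 0 := by
    intro x
    by_cases hx : x ∈ stabilizer G a
    · have hm : x⁻¹ * u * x ∈ H := by
        simpa using hH.conj_mem hZ (inv_mem hx : x⁻¹ ∈ stabilizer G a) hu
      rw [if_pos hx, CharInduce.extendByZero_of_mem _ (hH.le hm), hc _ hm]
    · rw [if_neg hx, CharInduce.extendByZero_of_not_mem]
      intro hm
      have h1 : (x⁻¹ * u * x) • a = a := hm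
      rw [mul_smul, mul_smul, inv_smul_eq_iff] at h1
      exact hx (hH.fix u hu hu1 _ h1)
  rw [Finset.sum_congr rfl (fun x _ => h x), ← Finset.sum_filter, Finset.sum_const, nsmul_eq_mul,
    ← mul_assoc, Nat.card_eq_fintype_card, Fintype.card_subtype, inv_mul_cancel₀
      (Nat.cast_ne_zero.2 (Finset.card_ne_zero_of_mem (Finset.mem_filter.2
        ⟨Finset.mem_univ 1, one_mem (stabilizer G a)⟩))), one_mul]

open Classical in
/-- Value on `E#` of an induced class function of `G_a`. -/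
theorem ind_two_apply (hZ : Cfsg.IsZassenhausGroup G Ω) (hab : a ≠ b)
    (f : stabilizer G a → ℂ) (hf : Cfsg.IsClassFunction (stabilizer G a) f) {s : G}
    (hsa : s • a = b) (hsb : s • b = a) {x : G} (hx : x ∈ stabilizer G a ⊓ stabilizer G b)
    (hx1 : x ≠ 1) (y : stabilizer G a) (hy : (y : G) = s⁻¹ * x * s) :
    Cfsg.indFun (stabilizer G a) f x = f ⟨x, (mem_two.1 hx).1⟩ + f y := by
  obtain ⟨hxa, hxb⟩ := mem_two.1 hx
  rw [CharInduce.indFun_apply]
  set x' : stabilizer G a := ⟨x, (mem_two.1 hx).1⟩ with hx'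
  have h : ∀ g : G, Cfsg.extendByZero (stabilizer G a) f (g⁻¹ * x * g) =
      (if g ∈ stabilizer G a then f x' else 0) + (if s⁻¹ * g ∈ stabilizer G a then f y else 0) := by
    intro g
    by_cases hg : g ∈ stabilizer G a
    · have hg' : s⁻¹ * g ∉ stabilizer G a := by
        intro h
        have h1 : (s⁻¹ * g) • a = a := h
        rw [mul_smul, (hg : g • a = a), inv_smul_eq_iff, hsa] at h1
        exact hab h1
      rw [if_pos hg, if_neg hg', add_zero,
        CharInduce.extendByZero_of_mem _ (mul_mem (mul_mem (inv_mem hg) x'.2) hg)]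
      have := hf x' (⟨g, hg⟩⁻¹ : stabilizer G a)
      rw [inv_inv] at this
      exact this
    · by_cases hg' : s⁻¹ * g ∈ stabilizer G a
      · rw [if_neg hg, if_pos hg', zero_add]
        set k : stabilizer G a := ⟨s⁻¹ * g, hg'⟩
        have e : g⁻¹ * x * g = ((k⁻¹ * y * k : stabilizer G a) : G) := by
          show g⁻¹ * x * g = (s⁻¹ * g)⁻¹ * (y : G) * (s⁻¹ * g)
          rw [hy]; group
        rw [e, CharInduce.extendByZero_coe]
        have := hf y k⁻¹
        rwa [inv_inv] at this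
      · rw [if_neg hg, if_neg hg', add_zero, CharInduce.extendByZero_of_not_mem]
        intro hm
        have h1 : (g⁻¹ * x * g) • a = a := hm
        rw [mul_smul, mul_smul, inv_smul_eq_iff] at h1
        have h2 : g • a ∈ fixedBy Ω x := h1
        rw [H33.zas_fixed_of_pair hZ hx1 hab hxa hxb] at h2
        rcases h2 with h2 | h2
        · exact hg h2
        · exact hg' (show (s⁻¹ * g) • a = a by
            rw [mul_smul, h2, inv_smul_eq_iff, hsa])
  rw [Finset.sum_congr rfl (fun g _ => h g), Finset.sum_add_distrib]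
  have hshift : ∑ g : G, (if s⁻¹ * g ∈ stabilizer G a then f y else 0) =
      ∑ g : G, (if g ∈ stabilizer G a then f y else 0) :=
    Fintype.sum_equiv (Equiv.mulLeft s⁻¹) _ _ (fun g => rfl)
  rw [hshift, ← Finset.sum_filter, ← Finset.sum_filter, Finset.sum_const, Finset.sum_const,
    nsmul_eq_mul, nsmul_eq_mul, ← mul_add, ← mul_assoc, Nat.card_eq_fintype_card,
    Fintype.card_subtype, inv_mul_cancel₀ (Nat.cast_ne_zero.2 (Finset.card_ne_zero_of_mem
      (Finset.mem_filter.2 ⟨Finset.mem_univ 1, one_mem (stabilizer G a)⟩))), one_mul]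

open Classical in
/-- A character of `E` of odd degree, not trivial, fixed by the swap. -/
theorem exists_odd_invariant (hab : a ≠ b) {s : G} (hsa : s • a = b) (hsb : s • b = a)
    (heven : Even (Nat.card ↥(stabilizer G a ⊓ stabilizer G b))) :
    ∃ ψ : Cfsg.IrrCharacter ↥(stabilizer G a ⊓ stabilizer G b),
      (ψ : ↥(stabilizer G a ⊓ stabilizer G b) → ℂ) ≠ (fun _ => 1) ∧
      Odd (Cfsg.charDegree (ψ : ↥(stabilizer G a ⊓ stabilizer G b) → ℂ)) ∧
      ∀ x y : ↥(stabilizer G a ⊓ stabilizer G b), (y : G) = s⁻¹ * x * s →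
        (ψ : ↥(stabilizer G a ⊓ stabilizer G b) → ℂ) y = (ψ : ↥(stabilizer G a ⊓ stabilizer G b) → ℂ) x := by
  set E := stabilizer G a ⊓ stabilizer G b
  have := Fintype.ofFinite E
  have hmem : ∀ g : G, g • a = b → g • b = a → ∀ x : E, g * x * g⁻¹ ∈ E :=
    fun g h1 h2 x => two_conj_mem (Or.inr ⟨h1, h2⟩) x.2
  have hsa' : s⁻¹ • a = b := inv_smul_eq_iff.2 hsb.symm
  have hsb' : s⁻¹ • b = a := inv_smul_eq_iff.2 hsa.symm
  let σ : E ≃* E :=
    { toFun := fun x => ⟨s⁻¹ * x * s⁻¹⁻¹, hmem _ hsa' hsb' x⟩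
      invFun := fun x => ⟨s * x * s⁻¹, hmem _ hsa hsb x⟩
      left_inv := fun x => Subtype.ext (by simp [mul_assoc])
      right_inv := fun x => Subtype.ext (by simp [mul_assoc])
      map_mul' := fun x y => Subtype.ext (by simp [mul_assoc]) }
  let D := {φ : Cfsg.IrrCharacter E // (φ : E → ℂ) ≠ (fun _ => 1) ∧ Odd (Cfsg.charDegree (φ : E → ℂ))}
  let F : Cfsg.IrrCharacter E → Cfsg.IrrCharacter E :=
    fun φ => ⟨_, CharInduce.isIrr_comp_mulEquiv σ φ⟩
  have hF : ∀ φ, F (F φ) = φ := fun φ => by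
    refine Subtype.ext (funext fun x => ?_)
    show (φ : E → ℂ) (σ (σ x)) = (φ : E → ℂ) x
    have hss : s * s ∈ E := mem_two.2 ⟨by rw [mul_smul, hsa, hsb], by rw [mul_smul, hsb, hsa]⟩
    have : σ (σ x) = ⟨s * s, hss⟩⁻¹ * x * ⟨s * s, hss⟩⁻¹⁻¹ := Subtype.ext (by
      simp [σ, mul_assoc])
    rw [this]
    exact CharBasic.IsIrr.isClassFunction φ.2 x _
  have hFD : ∀ φ : D, (F φ.1 : E → ℂ) ≠ (fun _ => 1) ∧ Odd (Cfsg.charDegree (F φ.1 : E → ℂ)) :=
    fun φ => by
    refine ⟨fun h => φ.2.1 ?_, ?_⟩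
    · funext x
      simpa [F] using congrFun h (σ.symm x)
    · show Odd (Cfsg.charDegree ((φ.1 : E → ℂ) ∘ σ))
      simpa [Cfsg.charDegree] using φ.2.2
  let P : Equiv.Perm D :=
    ⟨fun φ => ⟨F φ.1, hFD φ⟩, fun φ => ⟨F φ.1, hFD φ⟩,
      fun φ => Subtype.ext (hF _), fun φ => Subtype.ext (hF _)⟩
  have hcard : ¬ 2 ∣ Nat.card D := by
    have h1 := Frob.sum_sq_degree_nat E
    have h2 : Even ((Finset.univ.filter fun φ : Cfsg.IrrCharacter E =>
        Odd (Cfsg.charDegree (φ : E → ℂ) ^ 2)).card) := by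
      rw [← Finset.even_sum_iff_even_card_odd, h1]; exact heven
    let one : Cfsg.IrrCharacter E := ⟨_, CharBasic.isIrrCharacter_one⟩
    have h3 : (Finset.univ.filter fun φ : Cfsg.IrrCharacter E =>
        Odd (Cfsg.charDegree (φ : E → ℂ) ^ 2)) = insert one (Finset.univ.filter fun φ :
          Cfsg.IrrCharacter E => (φ : E → ℂ) ≠ (fun _ => 1) ∧ Odd (Cfsg.charDegree (φ : E → ℂ))) := by
      ext φ
      simp only [Finset.mem_filter, Finset.mem_univ, true_and, Finset.mem_insert,
        Nat.odd_pow_iff (by norm_num : (2:ℕ) ≠ 0)]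
      by_cases h : φ = one
      · subst h; simp [one, Cfsg.charDegree]
      · simp only [h, false_or]
        exact ⟨fun ho => ⟨fun h' => h (Subtype.ext h'), ho⟩, fun ho => ho.2⟩
    rw [h3, Finset.card_insert_of_notMem (by simp [one]), Nat.even_add_one,
      Nat.not_even_iff_odd] at h2
    rw [show Nat.card D = _ from (Nat.card_eq_fintype_card).trans (Fintype.card_subtype _)]
    exact fun h => (Nat.not_odd_iff_even.2 (even_iff_two_dvd.2 h)) h2
  have hP : P ^ 2 ^ 1 = 1 := by
    ext φ : 1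
    rw [pow_one, pow_two, Equiv.Perm.mul_apply, Equiv.Perm.one_apply]
    exact Subtype.ext (hF _)
  have : Fact (Nat.Prime 2) := ⟨Nat.prime_two⟩
  have := Fintype.ofFinite D
  rw [Nat.card_eq_fintype_card] at hcard
  obtain ⟨φ, hφ⟩ := Equiv.Perm.exists_fixed_point_of_prime hcard hP
  refine ⟨φ.1, φ.2.1, φ.2.2, fun x y hy => ?_⟩
  have h := congrFun (congrArg (fun q : D => (q.1 : E → ℂ)) hφ) x
  change (φ.1 : E → ℂ) (σ x) = _ at h
  rw [← h]
  refine congrArg (φ.1 : E → ℂ) (Subtype.ext (hy.trans ?_))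
  show s⁻¹ * (x : G) * s = s⁻¹ * (x : G) * s⁻¹⁻¹
  rw [inv_inv]

open Classical in
/-- A simple Zassenhaus group with `e = h - 1` even does not exist. -/
theorem sharp_even_false [IsSimpleGroup G] (hH : IsKer a H) (hZ : Cfsg.IsZassenhausGroup G Ω)
    (hab : a ≠ b) (hcomm : ∀ u ∈ H, ∀ v ∈ H, u * v = v * u)
    (he : Nat.card ↥(stabilizer G a ⊓ stabilizer G b) + 1 = Nat.card H)
    (heven : Even (Nat.card ↥(stabilizer G a ⊓ stabilizer G b))) : False := by
  set E := stabilizer G a ⊓ stabilizer G b with hEdef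
  have := Fintype.ofFinite (stabilizer G a)
  have := Fintype.ofFinite E
  have := Fintype.ofFinite H
  set h := Nat.card H with hh
  have hepos : 0 < Nat.card E := Nat.card_pos
  have hh2 : 2 ≤ h := by omega
  obtain ⟨s, hsa, hsb⟩ := H33.zas_map_pair hZ hab hab.symm
  obtain ⟨ψ, hψ1, hψodd, hψinv⟩ := exists_odd_invariant hab hsa hsb heven
  obtain ⟨π, hπker, hπE⟩ := exists_proj hH hZ hab
  set m := Cfsg.charDegree (ψ : E → ℂ) with hm
  have hψd : (ψ : E → ℂ) 1 = (m : ℂ) := (Frob.degree_spec ψ.2).1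
  have hm0 : 0 < m := (Frob.degree_spec ψ.2).2
  set Ψ : stabilizer G a → ℂ := fun g => (ψ : E → ℂ) (π g) with hΨ
  have hπs : Function.Surjective π := fun x => ⟨_, hπE x⟩
  have hΨirr : Cfsg.IsIrrCharacter (stabilizer G a) Ψ := CharInduce.IsIrr.comp ψ.2 π hπs
  have hΨcl := CharBasic.IsIrr.isClassFunction hΨirr
  have hΨH : ∀ u : stabilizer G a, (u : G) ∈ H → Ψ u = (m : ℂ) := fun u hu => by
    simp only [hΨ, hπker u hu, hψd]
  set X := Cfsg.indFun (stabilizer G a) Ψ with hX
  have hXchar : Cfsg.IsCharacter G X :=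
    CharInduce.IsChar.ind _ (CharBasic.IsIrr.isCharacter hΨirr)
  have hΩ := hH.card
  have htr : IsPretransitive G Ω := isPretransitive_of_is_two_pretransitive (h2 := hZ.2.1)
  have hX1 : X 1 = ((h : ℂ) + 1) * m := by
    rw [hX, CharInduce.indFun_one, index_stabilizer_of_transitive, ← hH.card,
      hΨH 1 (one_mem H)]
    push_cast; ring
  have hXu : ∀ u ∈ H, u ≠ 1 → X u = m := fun u hu hu1 => ind_ker_apply hH hZ Ψ m hΨH hu hu1
  have hXE : ∀ x : E, x ≠ 1 → X (x : G) = 2 * (ψ : E → ℂ) x := by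
    intro x hx1
    have hy : s⁻¹ * (x : G) * s⁻¹⁻¹ ∈ E := two_conj_mem
      (Or.inr ⟨inv_smul_eq_iff.2 hsb.symm, inv_smul_eq_iff.2 hsa.symm⟩) x.2
    rw [inv_inv] at hy
    rw [hX, ind_two_apply hZ hab Ψ hΨcl hsa hsb x.2 (fun h => hx1 (Subtype.ext h))
      ⟨_, (mem_two.1 hy).1⟩ rfl]
    simp only [hΨ]
    rw [hπE x, hπE ⟨_, hy⟩, hψinv x ⟨_, hy⟩ rfl]
    ring
  have hψorth : ∀ f : E → ℂ, ∑ x ∈ Finset.univ.filter (fun x : E => x ≠ 1), f x =
      ∑ x, f x - f 1 := fun f => by
    rw [Finset.filter_ne', Finset.sum_erase_eq_sub (Finset.mem_univ _)]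
  have hψnorm : ∑ x : E, (ψ : E → ℂ) x * conj ((ψ : E → ℂ) x) = (Nat.card E : ℂ) := by
    have := CharBasic.classInner_irr_self ψ.2
    rw [CharBasic.classInner_def] at this
    rw [inv_mul_eq_iff_eq_mul₀ (Nat.cast_ne_zero.2 Nat.card_pos.ne'), mul_one] at this
    exact this
  -- the induced character has norm two
  have hnorm : Cfsg.classInner X X = 2 := by
    have hXcl := CharInduce.isClassFunction_indFun (stabilizer G a) Ψ
    rw [hX, CharInduce.classInner_indFun_left _ _ _ hXcl, ← hX, CharBasic.classInner_def,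
      sum_stabilizer hH hZ hab (fun g : stabilizer G a => Ψ g * conj (X g)) ?_]
    · have hsH : ∑ u : H, Ψ ⟨u, hH.le u.2⟩ * conj (X (u : G)) = 2 * (h : ℂ) * m * m := by
        rw [← Finset.add_sum_erase _ _ (Finset.mem_univ (1 : H)),
          Finset.sum_congr rfl (g := fun _ => (m : ℂ) * m), Finset.sum_const,
          Finset.card_erase_of_mem (Finset.mem_univ _), Finset.card_univ, nsmul_eq_mul,
          hΨH ⟨((1 : H) : G), _⟩ (one_mem H), Subgroup.coe_one, hX1,
          ← Nat.card_eq_fintype_card, ← hh, Nat.cast_sub (by omega : 1 ≤ h)]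
        · simp only [map_mul, map_add, map_natCast, map_one, Nat.cast_one]; ring
        · intro u hu
          rw [hΨH _ u.2, hXu _ u.2 fun h => (Finset.mem_erase.1 hu).1 (Subtype.ext h), map_natCast]
      have hsE : ∑ x ∈ univ.filter (fun x : E => x ≠ 1),
          Ψ ⟨x, (Subgroup.mem_inf.1 x.2).1⟩ * conj (X (x : G)) =
            2 * ((Nat.card E : ℂ) - m * m) := by
        rw [Finset.sum_congr rfl (g := fun x : E => 2 * ((ψ : E → ℂ) x * conj ((ψ : E → ℂ) x))),
          ← Finset.mul_sum, hψorth, hψnorm, hψd, map_natCast]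
        intro x hx
        rw [hXE x (Finset.mem_filter.1 hx).2, map_mul]
        simp only [hΨ, hπE, map_ofNat]
        ring
      rw [hsH, hsE, nsmul_eq_mul, hH.card_stabilizer hZ hab, ← hEdef, ← hh]
      push_cast
      have h1 : (h : ℂ) ≠ 0 := Nat.cast_ne_zero.2 (by omega)
      have h2 : (Nat.card E : ℂ) ≠ 0 := Nat.cast_ne_zero.2 hepos.ne'
      field_simp
      ring
    · intro g k
      have h' : X ((g : G) * k * (g : G)⁻¹) = X k := hXcl k g
      show Ψ (g * k * g⁻¹) * conj (X ((g : G) * k * (g : G)⁻¹)) = _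
      rw [h', hΨcl k g]
  -- the two constituents
  obtain ⟨A, hA⟩ : ∃ A : Cfsg.IrrCharacter G, Cfsg.classInner X A ≠ 0 := by
    by_contra hne
    push Not at hne
    have := CharBasic.classInner_eq_sum (ψ := X) (CharBasic.IsChar.isClassFunction hXchar)
    rw [hnorm, Finset.sum_eq_zero fun χ _ => by rw [hne χ, zero_mul]] at this
    norm_num at this
  obtain ⟨B, hB, hXAB⟩ := CharInduce.IsChar.exists_eq_add hXchar A.2 hA
  obtain ⟨nA, hnA⟩ := CharBasic.classInner_isChar_nat (CharBasic.IsIrr.isCharacter A.2) hB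
  obtain ⟨nB, hnB⟩ := CharBasic.classInner_isChar_nat hB hB
  have hcross : Cfsg.classInner B (A : G → ℂ) = (nA : ℂ) := by
    rw [← CharBasic.classInner_conj_symm, hnA, map_natCast]
  have hsum : (1 : ℂ) + 2 * nA + nB = 2 := by
    have h2 := hnorm
    rw [hXAB, CharBasic.classInner_add_left, CharBasic.classInner_add_right,
      CharBasic.classInner_add_right, CharBasic.classInner_irr_self A.2, hnA, hcross, hnB] at h2
    linear_combination h2
  have hn0 : nA = 0 ∧ nB = 1 := by
    have : 1 + 2 * nA + nB = 2 := by exact_mod_cast hsum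
    omega
  have hBirr : Cfsg.IsIrrCharacter G B := CharInduce.isIrr_of_norm_one hB (by
    rw [hnB, hn0.2, Nat.cast_one])
  have hAX : Cfsg.classInner (A : G → ℂ) X = 1 ∧ Cfsg.classInner B X = 1 := by
    rw [hXAB]
    constructor
    · rw [CharBasic.classInner_add_right, CharBasic.classInner_irr_self A.2, hnA, hn0.1]; simp
    · rw [CharBasic.classInner_add_right, hcross, hnB, hn0.1, hn0.2]; simp
  -- one class on `H#`
  have hone : ∀ u ∈ H, u ≠ 1 → ∀ w ∈ H, w ≠ 1 → IsConj u w := by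
    intro u hu hu1 w hw hw1
    let f : E → {w : H // w ≠ 1} := fun x =>
      ⟨⟨_, hH.conj_mem hZ (mem_two.1 x.2).1 hu⟩, fun h => hu1 (conj_eq_one_iff.1 (congrArg Subtype.val h))⟩
    have hf : Function.Injective f := by
      intro x y hxy
      have h1 : (x : G) * u * (x : G)⁻¹ = y * u * (y : G)⁻¹ :=
        congrArg (fun q : {w : H // w ≠ 1} => ((q.1 : H) : G)) hxy
      by_contra hne
      refine hu1 (hH.fpf hZ hab (mul_mem (inv_mem y.2) x.2)
        (fun h => hne (Subtype.ext (inv_mul_eq_one.1 h).symm)) hu ?_)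
      calc (y : G)⁻¹ * x * u * ((y : G)⁻¹ * x)⁻¹ = (y : G)⁻¹ * ((x : G) * u * (x : G)⁻¹) * y := by group
        _ = u := by rw [h1]; group
    have hc : Fintype.card E = Fintype.card {w : H // w ≠ 1} := by
      rw [Fintype.card_subtype_compl, Fintype.card_subtype_eq, ← Nat.card_eq_fintype_card,
        ← Nat.card_eq_fintype_card]
      omega
    obtain ⟨x, hx⟩ := ((Fintype.bijective_iff_injective_and_card f).2 ⟨hf, hc⟩).2
      ⟨⟨w, hw⟩, fun h => hw1 (congrArg Subtype.val h)⟩
    exact isConj_iff.2 ⟨x, congrArg (fun q : {w : H // w ≠ 1} => ((q.1 : H) : G)) hx⟩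
  obtain ⟨u₀, hu₀, hu₀1⟩ := (Subgroup.bot_or_exists_ne_one H).resolve_left (hH.ne_bot hZ)
  obtain ⟨l, hl⟩ : ∃ l : H →* ℂˣ, l ≠ 1 := by
    have := hH.nilpotent hZ
    have : Nontrivial H := (Subgroup.nontrivial_iff_ne_bot H).2 (hH.ne_bot hZ)
    exact Frob.exists_hom_ne_one
  have hlsum : ∑ u : H, conj (l u : ℂ) = 0 := by
    obtain ⟨v, hv⟩ : ∃ v, l v ≠ 1 := by
      by_contra hne
      push Not at hne
      exact hl (MonoidHom.ext hne)
    have h0 : ∑ u : H, (l u : ℂ) = 0 := by
      have h1 : (l v : ℂ) * ∑ u : H, (l u : ℂ) = ∑ u : H, (l u : ℂ) := by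
        rw [Finset.mul_sum]
        refine Fintype.sum_equiv (Equiv.mulLeft v) _ _ fun u => ?_
        simp
      rw [mul_left_eq_self₀] at h1
      exact h1.resolve_left fun h => hv (Units.ext (by simpa using h))
    rw [← map_sum, h0, map_zero]
  -- analysis of a constituent
  have hcon : ∀ C : G → ℂ, Cfsg.IsIrrCharacter G C → Cfsg.classInner C X = 1 →
      ∃ d n k : ℕ, C 1 = (d : ℂ) ∧ d ∣ Nat.card G ∧ k ≠ 0 ∧
        (h : ℂ) * ((m : ℂ) + n) = (d : ℂ) + ((h : ℂ) - 1) * C u₀ ∧
        (h : ℂ) * k = (d : ℂ) - C u₀ := by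
    intro C hC hCX
    obtain ⟨d, -, hd, hdvd, -⟩ := CharBasic.IsIrr.degree_dvd hC
    have hcl := CharBasic.IsIrr.isClassFunction hC
    have hCc := CharBasic.IsIrr.isCharacter hC
    have hcu : ∀ u ∈ H, u ≠ 1 → C u = C u₀ := fun u hu hu1 => by
      obtain ⟨g, hg⟩ := isConj_iff.1 (hone u₀ hu₀ hu₀1 u hu hu1)
      rw [← hg, hcl]
    have hres := CharInduce.IsChar.res hCc (stabilizer G a)
    have hne : Cfsg.classInner (fun k : stabilizer G a => C k) Ψ ≠ 0 := by
      rw [← CharInduce.classInner_indFun_right _ _ _ hcl, ← hX, hCX]; exact one_ne_zero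
    obtain ⟨r, hr, hre⟩ := CharInduce.IsChar.exists_eq_add hres hΨirr hne
    let ι : H →* stabilizer G a := Subgroup.inclusion hH.le
    have hrH : Cfsg.IsCharacter H (fun u => r (ι u)) := CharInduce.IsChar.comp hr ι
    obtain ⟨n, hn⟩ := CharBasic.classInner_isChar_nat hrH
      (CharBasic.IsIrr.isCharacter (CharBasic.isIrrCharacter_one (G := H)))
    have hrval : ∀ u : H, r (ι u) = C u - m := fun u => by
      have := congrFun hre (ι u)
      rw [Pi.add_apply, hΨH (ι u) u.2] at this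
      change C u = _ at this
      rw [this]; ring
    rw [CharBasic.classInner_def, ← Finset.add_sum_erase _ _ (Finset.mem_univ (1 : H)),
      Finset.sum_congr rfl (g := fun _ => C u₀ - m) (fun u hu => by
        rw [hrval, hcu _ u.2 fun h => (Finset.mem_erase.1 hu).1 (Subtype.ext h), map_one, mul_one]),
      Finset.sum_const, Finset.card_erase_of_mem (Finset.mem_univ _), Finset.card_univ,
      nsmul_eq_mul, hrval 1, Subgroup.coe_one, hd, map_one, mul_one,
      ← Nat.card_eq_fintype_card, ← hh, Nat.cast_sub (by omega : 1 ≤ h)] at hn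
    obtain ⟨k, hk⟩ := CharBasic.classInner_isChar_nat (CharInduce.IsChar.comp hCc H.subtype)
      (CharInduce.isCharacter_hom l)
    rw [CharBasic.classInner_def, ← Finset.add_sum_erase _ _ (Finset.mem_univ (1 : H)),
      Finset.sum_congr rfl (g := fun u => C u₀ * conj (l u : ℂ)) (fun u hu => by
        show C u * _ = _
        rw [hcu _ u.2 fun h => (Finset.mem_erase.1 hu).1 (Subtype.ext h)]),
      ← Finset.mul_sum, Finset.sum_erase_eq_sub (Finset.mem_univ _), hlsum] at hk
    simp only [map_one, Units.val_one] at hk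
    simp only [Subgroup.coe_subtype, Subgroup.coe_one, hd, ← hh, mul_one, zero_sub, mul_neg] at hk
    have hh0 : (h : ℂ) ≠ 0 := Nat.cast_ne_zero.2 (by omega)
    refine ⟨d, n, k, hd, hdvd, fun hk0 => ?_, ?_, ?_⟩
    · -- `H` would lie in the kernel
      rw [hk0, Nat.cast_zero] at hk
      have hcd : C u₀ = C 1 := by
        rw [hd]; field_simp at hk; linear_combination -hk
      obtain ⟨K, hK, hKmem, -⟩ := CharBasic.IsChar.exists_kernel hCc
      have hKtop : K = ⊤ := (IsSimpleGroup.eq_bot_or_eq_top_of_normal K hK).resolve_left fun hb => by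
        have := (hKmem u₀).2 hcd
        rw [hb, Subgroup.mem_bot] at this
        exact hu₀1 this
      have hconst : C = fun _ => C 1 := funext fun g => (hKmem g).1 (hKtop ▸ Subgroup.mem_top g)
      have h1 : Cfsg.classInner C X = C 1 * conj (Cfsg.classInner X (fun _ => (1 : ℂ))) := by
        conv_lhs => rw [hconst, show (fun _ : G => C 1) = C 1 • fun _ : G => (1 : ℂ) from
          funext fun _ => by simp]
        rw [CharBasic.classInner_smul_left, CharBasic.classInner_conj_symm]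
      rw [hCX, hX, CharInduce.classInner_indFun_left _ _ _
        (CharBasic.IsIrr.isClassFunction CharBasic.isIrrCharacter_one), CharBasic.classInner_def,
        sum_stabilizer hH hZ hab (fun g : stabilizer G a => Ψ g * conj (1 : ℂ))
          (fun g k => by rw [hΨcl k g]),
        Finset.sum_congr rfl (g := fun _ => (m : ℂ)) (fun u _ => by
          rw [hΨH _ u.2, map_one, mul_one]),
        Finset.sum_congr rfl (g := fun x : E => (ψ : E → ℂ) x) (fun x _ => by
          simp only [hΨ, map_one, mul_one]; rw [hπE x]),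
        hψorth, Finset.sum_const, Finset.card_univ, ← Nat.card_eq_fintype_card, ← hh, hψd] at h1
      have h2 : ∑ x : E, (ψ : E → ℂ) x = 0 := by
        have := CharBasic.classInner_irr_of_ne ψ.2 CharBasic.isIrrCharacter_one hψ1
        rw [CharBasic.classInner_def] at this
        simp only [map_one, mul_one] at this
        exact (mul_eq_zero.1 this).resolve_left
          (inv_ne_zero (Nat.cast_ne_zero.2 Nat.card_pos.ne'))
      rw [h2] at h1
      simp at h1
    · field_simp at hn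
      linear_combination -hn
    · field_simp at hk
      linear_combination -hk
  obtain ⟨dA, nA', kA, hdA, hdvdA, hkA, hA1, hA2⟩ := hcon A A.2 hAX.1
  obtain ⟨dB, nB', kB, hdB, hdvdB, hkB, hB1, hB2⟩ := hcon B hBirr hAX.2
  have e1 : (dA : ℂ) + dB = ((h : ℂ) + 1) * m := by
    rw [← hX1, hXAB, Pi.add_apply, hdA, hdB]
  have e2 : (A : G → ℂ) u₀ + B u₀ = (m : ℂ) := by
    rw [← hXu u₀ hu₀ hu₀1, hXAB, Pi.add_apply]
  have hn : h * (nA' + nB') = 0 := by
    have : ((h * (nA' + nB') : ℕ) : ℂ) = ((0 : ℕ) : ℂ) := by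
      push_cast; linear_combination hA1 + hB1 + e1 + ((h : ℂ) - 1) * e2
    exact_mod_cast this
  obtain ⟨rfl, rfl⟩ : nA' = 0 ∧ nB' = 0 := by
    rcases Nat.mul_eq_zero.1 hn with h0 | h0 <;> omega
  have hhC : (h : ℂ) ≠ 0 := Nat.cast_ne_zero.2 (by omega)
  have hk : kA + kB = m := by
    have : ((h * (kA + kB) : ℕ) : ℂ) = ((h * m : ℕ) : ℂ) := by
      push_cast; linear_combination hA2 + hB2 + e1 - e2
    exact mul_left_cancel₀ (show h ≠ 0 by omega) (by exact_mod_cast this)
  have hdeg : ∀ (d k : ℕ) (c : ℂ), (h : ℂ) * ((m : ℂ) + (0 : ℕ)) = (d : ℂ) + ((h : ℂ) - 1) * c →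
      (h : ℂ) * k = (d : ℂ) - c → d = (h - 1) * k + m := by
    intro d k c h1 h2
    have : ((h * d : ℕ) : ℂ) = ((h * ((h - 1) * k + m) : ℕ) : ℂ) := by
      push_cast [Nat.cast_sub (show 1 ≤ h by omega)]
      linear_combination -h1 - ((h : ℂ) - 1) * h2
    exact mul_left_cancel₀ (show h ≠ 0 by omega) (by exact_mod_cast this)
  -- arithmetic
  have harith : ∀ d k : ℕ, k < m → m < 2 * k → d = (h - 1) * k + m → d ∣ Nat.card G → False := by
    intro d k hk1 hk2 hd hdvd
    rw [hH.card_group hZ hab, ← hH.card, ← hEdef, show Nat.card E = h - 1 by omega, ← hh] at hdvd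
    have hd' : d ∣ d.gcd (h + 1) * (d.gcd h * d.gcd (h - 1)) := by
      refine dvd_trans ?_ (Nat.mul_dvd_mul_left _ (gcd_mul_dvd_mul_gcd d h (h - 1)))
      exact dvd_trans (Nat.dvd_gcd dvd_rfl hdvd) (gcd_mul_dvd_mul_gcd d (h + 1) (h * (h - 1)))
    have h1 : d.gcd (h - 1) ∣ m := by
      have hl := Nat.gcd_dvd_left d (h - 1)
      conv at hl => rhs; rw [hd]
      exact (Nat.dvd_add_right (dvd_mul_of_dvd_left (Nat.gcd_dvd_right _ _) _)).1 hl
    have h2 : d.gcd h ∣ m - k := by
      have he : d = h * k + (m - k) := by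
        rw [hd]
        have : h * k = (h - 1) * k + k := by
          conv_lhs => rw [show h = (h - 1) + 1 by omega, add_mul, one_mul]
        omega
      have hl := Nat.gcd_dvd_left d h
      conv at hl => rhs; rw [he]
      exact (Nat.dvd_add_right (dvd_mul_of_dvd_left (Nat.gcd_dvd_right _ _) _)).1 hl
    have h3 : d.gcd (h + 1) ∣ 2 * k - m := by
      have he : (h + 1) * k = d + (2 * k - m) := by
        rw [hd]
        have : (h + 1) * k = (h - 1) * k + 2 * k := by
          conv_lhs => rw [show h + 1 = (h - 1) + 2 by omega, add_mul]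
        omega
      have hr : d.gcd (h + 1) ∣ (h + 1) * k := dvd_mul_of_dvd_left (Nat.gcd_dvd_right _ _) _
      rw [he] at hr
      exact (Nat.dvd_add_right (Nat.gcd_dvd_left _ _)).1 hr
    have hle : d ≤ (2 * k - m) * ((m - k) * m) :=
      Nat.le_of_dvd (Nat.mul_pos (by omega) (Nat.mul_pos (by omega) hm0)) (hd'.trans (mul_dvd_mul h3 (mul_dvd_mul h2 h1)))
    have hsq : m * m ≤ Nat.card E := by
      rw [← Frob.sum_sq_degree_nat E, ← pow_two]
      exact Finset.single_le_sum (f := fun φ : Cfsg.IrrCharacter E => Cfsg.charDegree (φ : E → ℂ) ^ 2)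
        (fun _ _ => Nat.zero_le _) (Finset.mem_univ ψ)
    have hb : (2 * k - m) * ((m - k) * m) ≤ m * (k * m) :=
      Nat.mul_le_mul (by omega) (Nat.mul_le_mul_right _ (by omega))
    rw [show h - 1 = Nat.card E by omega] at hd
    have : m * m * k ≤ Nat.card E * k := Nat.mul_le_mul_right _ hsq
    have hb' : (2 * k - m) * ((m - k) * m) ≤ Nat.card E * k :=
      le_trans hb (by linarith)
    omega
  have hodd : m % 2 = 1 := Nat.odd_iff.1 hψodd
  rcases Nat.lt_or_ge m (2 * kA) with h0 | h0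
  · exact harith dA kA (by omega) h0 (hdeg _ _ _ hA1 hA2) hdvdA
  · exact harith dB kB (by omega) (by omega) (hdeg _ _ _ hB1 hB2) hdvdB

end Cfsg.Agent.H28.Zass
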