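import Cfsg.Agent.H28.ZassPSL
import Cfsg.Agent.H28.ZassSharp
import Cfsg.Agent.S0738

/-!
Consequences: abelian regular normal subgroups, even two-point stabilisers.
-/

set_option autoImplicit false

namespace Cfsg.Agent.H28.Zass

open MulAction

universe u

variable {G : Type u} {Ω : Type*} [Group G] [MulAction G Ω] [Finite Ω] {a b : Ω} {H : Subgroup G}

/-- For an abelian kernel, `e = h - 1` or `2e = h - 1`. -/
theorem kernel_cases (hH : IsKer a H) (hZ : Cfsg.IsZassenhausGroup G Ω) (hab : a ≠ b)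
    (hcomm : ∀ u ∈ H, ∀ v ∈ H, u * v = v * u) :
    Nat.card ↥(stabilizer G a ⊓ stabilizer G b) + 1 = Nat.card H ∨
      2 * Nat.card ↥(stabilizer G a ⊓ stabilizer G b) + 1 = Nat.card H := by
  have := finite_of_zas hZ
  obtain ⟨k, hk⟩ := two_pt_dvd hH hZ hab
  have h1 := kernel_small hH hZ hab hcomm
  have h2 : 0 < Nat.card ↥(stabilizer G a ⊓ stabilizer G b) := Nat.card_pos
  have h3 := H33.zas_three_le_card hZ
  have h4 := hH.card
  rw [hk, mul_comm 2] at h1
  have h5 : k ≤ 2 := Nat.le_of_mul_le_mul_left h1 h2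
  interval_cases k <;> omega

/-- The kernel is abelian if the two-point stabilisers have even order. -/
theorem even_comm (hH : IsKer a H) (hZ : Cfsg.IsZassenhausGroup G Ω) (hab : a ≠ b)
    (heven : Even (Nat.card ↥(stabilizer G a ⊓ stabilizer G b))) :
    ∀ u ∈ H, ∀ v ∈ H, u * v = v * u := by
  have := finite_of_zas hZ
  have := Fintype.ofFinite Ω
  have hn : (H.subgroupOf (stabilizer G a)).Normal :=
    ⟨fun v hv g => hH.conj_mem hZ g.2 hv⟩
  obtain ⟨hc, -⟩ := S0738.result hZ hab (S0741.result hZ hab heven) H hH.le hn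
    (fun y z hy hz => hH.regular hZ hy hz)
  exact fun u hu v hv => congrArg Subtype.val (hc.is_comm.comm ⟨u, hu⟩ ⟨v, hv⟩)

/-- A simple Zassenhaus group with `e` even has `2e + 1 = h`. -/
theorem even_simple_half [IsSimpleGroup G] (hH : IsKer a H) (hZ : Cfsg.IsZassenhausGroup G Ω)
    (hab : a ≠ b) (heven : Even (Nat.card ↥(stabilizer G a ⊓ stabilizer G b))) :
    2 * Nat.card ↥(stabilizer G a ⊓ stabilizer G b) + 1 = Nat.card H := by
  have := finite_of_zas hZ
  have hcomm := even_comm hH hZ hab heven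
  refine (kernel_cases hH hZ hab hcomm).resolve_left fun he => ?_
  have := Fintype.ofFinite G
  exact sharp_even_false hH hZ hab hcomm he heven

theorem isKer_of_regular (hab : a ≠ b) (F : Subgroup G) (hle : F ≤ stabilizer G a)
    (hreg : ∀ y z : Ω, y ≠ a → z ≠ a → ∃! u : F, (u : G) • y = z) : IsKer a F := by
  classical
  refine ⟨hle, ?_, fun u hu hu1 c hc => ?_⟩
  · let f : Option F → Ω := fun o => o.elim a fun u => (u : G) • b
    have hne : ∀ u : F, (u : G) • b ≠ a := fun u h =>
      hab (smul_left_cancel (u : G) ((hle u.2 : (u : G) • a = a).trans h.symm))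
    have hbij : Function.Bijective f := by
      constructor
      · rintro (_ | u) (_ | v) h
        · rfl
        · exact absurd h.symm (hne v)
        · exact absurd h (hne u)
        · obtain ⟨w, -, huniq⟩ := hreg b ((u : G) • b) hab.symm (hne u)
          rw [huniq u rfl, huniq v h.symm]
      · intro c
        by_cases hc : c = a
        · exact ⟨none, hc.symm⟩
        · obtain ⟨w, hw, -⟩ := hreg b c hab.symm hc
          exact ⟨some w, hw⟩
    have : Finite F := Finite.of_injective (fun u => f (some u))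
      (fun u v h => Option.some.inj (hbij.1 h))
    rw [← Nat.card_eq_of_bijective f hbij, Finite.card_option]
  · by_contra hca
    obtain ⟨w, -, huniq⟩ := hreg c c hca hca
    exact hu1 (congrArg Subtype.val
      ((huniq ⟨u, hu⟩ hc).trans (huniq 1 (one_smul G c)).symm))

/-- `e = h - 1` means sharply triply transitive. -/
theorem sharp_triple (hH : IsKer a H) (hZ : Cfsg.IsZassenhausGroup G Ω) (hab : a ≠ b)
    (he : Nat.card ↥(stabilizer G a ⊓ stabilizer G b) + 1 = Nat.card H) :
    IsMultiplyPretransitive G Ω 3 ∧ ∀ t : Fin 3 ↪ Ω, stabilizer G t = ⊥ := by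
  classical
  have := finite_of_zas hZ
  have := Fintype.ofFinite Ω
  obtain ⟨c, hca, hcb⟩ := exists_third hZ a b
  let f : ↥(stabilizer G a ⊓ stabilizer G b) → {d : Ω // d ≠ a ∧ d ≠ b} := fun x =>
    ⟨(x : G) • c,
      fun h => hca (smul_left_cancel (x : G) (h.trans (mem_two.1 x.2).1.symm)),
      fun h => hcb (smul_left_cancel (x : G) (h.trans (mem_two.1 x.2).2.symm))⟩
  have hf : Function.Injective f := fun x y h => by
    have h' : ((y : G)⁻¹ * x) • c = c := by
      rw [mul_smul, inv_smul_eq_iff]; exact congrArg Subtype.val h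
    obtain ⟨h1, h2⟩ := mem_two.1 (mul_mem (inv_mem y.2) x.2)
    exact Subtype.ext (inv_mul_eq_one.1 (H33.zas_eq_one hZ hab hcb.symm hca.symm h1 h2 h')).symm
  have hcard : Nat.card {d : Ω // d ≠ a ∧ d ≠ b} =
      Nat.card ↥(stabilizer G a ⊓ stabilizer G b) := by
    rw [Nat.card_eq_fintype_card, Fintype.card_subtype]
    have h4 := hH.card
    rw [Nat.card_eq_fintype_card (α := Ω)] at h4
    have h5 : (Finset.univ.filter fun d : Ω => d ≠ a ∧ d ≠ b) =
        (Finset.univ.erase a).erase b := by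
      ext d; simp [and_comm]
    rw [h5, Finset.card_erase_of_mem (by simp [hab.symm]),
      Finset.card_erase_of_mem (Finset.mem_univ _), Finset.card_univ]
    omega
  have hsurj := (hf.bijective_of_nat_card_le hcard.le).2
  have hto : ∀ x : Fin 3 ↪ Ω, ∃ g : G, g • x 0 = a ∧ g • x 1 = b ∧ g • x 2 = c := by
    intro x
    obtain ⟨g, h0, h1⟩ := H33.zas_map_pair hZ (x.injective.ne (show (0 : Fin 3) ≠ 1 by decide)) hab
    have hd : g • x 2 ≠ a ∧ g • x 2 ≠ b := by
      constructor <;> intro h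
      · exact absurd (x.injective (smul_left_cancel g (h.trans h0.symm))) (by decide)
      · exact absurd (x.injective (smul_left_cancel g (h.trans h1.symm))) (by decide)
    obtain ⟨z, hz⟩ := hsurj ⟨_, hd⟩
    obtain ⟨hza, hzb⟩ := mem_two.1 (inv_mem z.2)
    have hz' : (z : G) • c = g • x 2 := congrArg Subtype.val hz
    refine ⟨(z : G)⁻¹ * g, by rw [mul_smul, h0, hza], by rw [mul_smul, h1, hzb], ?_⟩
    rw [mul_smul, inv_smul_eq_iff, hz']
  constructor
  · rw [isMultiplyPretransitive_iff]
    intro x y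
    obtain ⟨g, g0, g1, g2⟩ := hto x
    obtain ⟨k, k0, k1, k2⟩ := hto y
    refine ⟨k⁻¹ * g, ?_⟩
    ext i
    fin_cases i <;>
      simp only [Function.Embedding.smul_apply, mul_smul, inv_smul_eq_iff, Fin.isValue,
        Fin.zero_eta, Fin.mk_one, Fin.reduceFinMk]
    · rw [g0, k0]
    · rw [g1, k1]
    · rw [g2, k2]
  · intro x
    rw [Subgroup.eq_bot_iff_forall]
    intro g hg
    have h : ∀ i, g • x i = x i := fun i => DFunLike.congr_fun (mem_stabilizer_iff.1 hg) i
    exact H33.zas_eq_one hZ (x.injective.ne (show (0 : Fin 3) ≠ 1 by decide))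
      (x.injective.ne (show (1 : Fin 3) ≠ 2 by decide))
      (x.injective.ne (show (0 : Fin 3) ≠ 2 by decide)) (h 0) (h 1) (h 2)

/-- The two-point stabiliser is cyclic when `2e + 1 = h`. -/
theorem half_cyclic (hH : IsKer a H) (hZ : Cfsg.IsZassenhausGroup G Ω) (hab : a ≠ b)
    (hcomm : ∀ u ∈ H, ∀ v ∈ H, u * v = v * u)
    (hhalf : 2 * Nat.card ↥(stabilizer G a ⊓ stabilizer G b) + 1 = Nat.card H) :
    IsCyclic ↥(stabilizer G a ⊓ stabilizer G b) := by
  have := finite_of_zas hZ
  obtain ⟨K, _, _, ι, t, σ, hC⟩ := exists_field hH hZ hab hcomm hhalf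
  refine isCyclic_of_subgroup_isDomain
    (⟨⟨σ, ?_⟩, ?_⟩ : ↥(stabilizer G a ⊓ stabilizer G b) →* K) hC.inj_mul
  · have h := hC.mul_apply 1 1
    rw [Subgroup.coe_one, one_smul, mul_one] at h
    exact (hC.inj h).symm
  · intro x y
    have h := hC.mul_apply (x * y) 1
    rw [Subgroup.coe_mul, mul_smul, hC.mul_apply, hC.mul_apply, mul_one, mul_one] at h
    exact (hC.inj h).symm

end Cfsg.Agent.H28.Zass
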