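import Cfsg.Agent.H28.ZTCubeMain
import Cfsg.Agent.H28.ZassApps
import Cfsg.Agent.S1137
import Cfsg.Agent.S1138

/-!
Simple Zassenhaus groups with a non-abelian 2-group as kernel: the kernel is a Suzuki 2-group
of order `q ^ 2` with `q = e + 1` an odd power of two.
-/

set_option autoImplicit false

namespace Cfsg.Agent.H28.ZT

open MulAction Zass
open scoped Pointwise

universe u

variable {G : Type u} {Ω : Type*} [Group G] [MulAction G Ω] [Finite Ω] {a b : Ω} {H : Subgroup G}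

/-- Conjugation action of the two-point stabiliser on the kernel. -/
def conjHom (hH : IsKer a H) (hZ : Cfsg.IsZassenhausGroup G Ω) (b : Ω) :
    ↥(stabilizer G a ⊓ stabilizer G b) →* MulAut H where
  toFun x :=
    { toFun := fun u => ⟨(x : G) * u * (x : G)⁻¹, hH.conj_mem hZ (mem_two.1 x.2).1 u.2⟩
      invFun := fun u => ⟨(x : G)⁻¹ * u * (x : G)⁻¹⁻¹,
        hH.conj_mem hZ (mem_two.1 (inv_mem x.2)).1 u.2⟩
      left_inv := fun u => Subtype.ext (by
        show (x : G)⁻¹ * ((x : G) * u * (x : G)⁻¹) * (x : G)⁻¹⁻¹ = u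
        group)
      right_inv := fun u => Subtype.ext (by
        show (x : G) * ((x : G)⁻¹ * u * (x : G)⁻¹⁻¹) * (x : G)⁻¹ = u
        group)
      map_mul' := fun u v => Subtype.ext (by
        show (x : G) * ((u : G) * v) * (x : G)⁻¹ =
          (x : G) * u * (x : G)⁻¹ * ((x : G) * v * (x : G)⁻¹)
        group) }
  map_one' := MulEquiv.ext fun u => Subtype.ext (by
    show (1 : G) * u * (1 : G)⁻¹ = u
    group)
  map_mul' x y := MulEquiv.ext fun u => Subtype.ext (by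
    show ((x : G) * y) * u * ((x : G) * y)⁻¹ = (x : G) * ((y : G) * u * (y : G)⁻¹) * (x : G)⁻¹
    group)

theorem conjHom_apply (hH : IsKer a H) (hZ : Cfsg.IsZassenhausGroup G Ω) (b : Ω)
    (x : ↥(stabilizer G a ⊓ stabilizer G b)) (u : H) :
    ((conjHom hH hZ b x u : H) : G) = (x : G) * u * (x : G)⁻¹ := rfl

/-- An involution fixing `a` lies in the kernel. -/
theorem invol_mem (hH : IsKer a H) (hZ : Cfsg.IsZassenhausGroup G Ω) (hab : a ≠ b)
    (hodd : Odd (Nat.card ↥(stabilizer G a ⊓ stabilizer G b))) (hΩ : Odd (Nat.card Ω)) {x : G}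
    (hx : orderOf x = 2) (hxa : x • a = a) : x ∈ H := by
  rw [hH.mem_iff hZ]
  refine ⟨hxa, Or.inr fun c hc => ?_⟩
  have h := invol_fixed hZ hab hodd hx
  rw [if_pos hΩ] at h
  exact (Set.ncard_le_one (Set.toFinite _)).1 h.le c hc a hxa

theorem fixed_unique (hZ : Cfsg.IsZassenhausGroup G Ω) (hab : a ≠ b)
    (hodd : Odd (Nat.card ↥(stabilizer G a ⊓ stabilizer G b))) (hΩ : Odd (Nat.card Ω)) {x : G}
    (hx : orderOf x = 2) {c d : Ω} (hc : x • c = c) (hd : x • d = d) : c = d := by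
  have h := invol_fixed hZ hab hodd hx
  rw [if_pos hΩ] at h
  exact (Set.ncard_le_one (Set.toFinite _)).1 h.le c hc d hd

/-- No `q + 1` points form a block of the subgroup moving them transitively. -/
theorem card_orbit_set_dvd {B : Set Ω} {x : Ω}
    (hB : ∀ y ∈ B, ∃ g ∈ stabilizer G B, g • x = y) (hx : x ∈ B) :
    Nat.card B ∣ Nat.card G := by
  have heq : orbit (stabilizer G B) x = B := by
    ext y
    constructor
    · rintro ⟨g, rfl⟩
      have hg : (g : G) • B = B := g.2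
      have hm : (g : G) • x ∈ (g : G) • B := Set.smul_mem_smul_set hx
      rw [hg] at hm
      exact hm
    · intro hy
      obtain ⟨g, hg, rfl⟩ := hB y hy
      exact ⟨⟨g, hg⟩, rfl⟩
  refine Dvd.dvd.trans ?_ (Subgroup.card_subgroup_dvd_card (stabilizer G B))
  have h := MulAction.index_stabilizer (stabilizer G B) x
  rw [heq, ← Nat.card_coe_set_eq] at h
  rw [← h]
  exact Subgroup.index_dvd_card _

/-- A simple Zassenhaus group whose kernel is a non-abelian 2-group. -/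
theorem setup [IsSimpleGroup G] (hH : IsKer a H) (hZ : Cfsg.IsZassenhausGroup G Ω) (hab : a ≠ b)
    (hH2 : IsPGroup 2 H) (hna : ∃ u ∈ H, ∃ v ∈ H, u * v ≠ v * u) :
    ∃ n : ℕ, Odd n ∧ 1 < n ∧ Nat.card H = (2 ^ n) ^ 2 ∧
      Nat.card ↥(stabilizer G a ⊓ stabilizer G b) + 1 = 2 ^ n ∧
      IsCyclic ↥(stabilizer G a ⊓ stabilizer G b) ∧
      Cfsg.IsSuzukiTwoGroup H ∧ Nat.card (Subgroup.center H) = 2 ^ n := by
  classical
  have := finite_of_zas hZ
  have := Fintype.ofFinite G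
  have h2f : Fact (Nat.Prime 2) := ⟨Nat.prime_two⟩
  obtain ⟨u₁, hu₁, v₁, hv₁, huv⟩ := hna
  have hodd : Odd (Nat.card ↥(stabilizer G a ⊓ stabilizer G b)) :=
    Nat.not_even_iff_odd.1 fun he => huv (even_comm hH hZ hab he u₁ hu₁ v₁ hv₁)
  obtain ⟨hcyc, -, hinv⟩ := inverted_of_simple hZ hab hodd
  have he3 : 3 ≤ Nat.card ↥(stabilizer G a ⊓ stabilizer G b) := by
    have h1 := (Subgroup.one_lt_card_iff_ne_bot _).2 (two_pt_ne_bot hZ hab)
    obtain ⟨k, hk⟩ := hodd
    omega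
  have : Nontrivial H := (Subgroup.nontrivial_iff_ne_bot H).2 (hH.ne_bot hZ)
  obtain ⟨k, hk⟩ := hH2.exists_card_eq
  have hk0 : 0 < k := by
    rcases Nat.eq_zero_or_pos k with h | h
    · rw [h, pow_zero] at hk
      have := Finite.one_lt_card (α := H)
      omega
    · exact h
  have hΩ : Odd (Nat.card Ω) := by
    rw [← hH.card, hk]
    exact (Nat.even_pow.2 ⟨even_two, hk0.ne'⟩).add_one
  -- a central involution of the kernel
  have : Nontrivial (Subgroup.center H) := hH2.center_nontrivial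
  obtain ⟨j, hj⟩ := (hH2.to_subgroup (Subgroup.center H)).exists_card_eq
  have hj0 : 0 < j := by
    rcases Nat.eq_zero_or_pos j with h | h
    · rw [h, pow_zero] at hj
      have := Finite.one_lt_card (α := Subgroup.center H)
      omega
    · exact h
  obtain ⟨⟨⟨z, hzH⟩, hzc⟩, hzo⟩ := exists_prime_orderOf_dvd_card' (G := Subgroup.center H) 2
    (by rw [hj]; exact dvd_pow_self 2 hj0.ne')
  rw [Subgroup.orderOf_mk, Subgroup.orderOf_mk] at hzo
  have hzcomm : ∀ u ∈ H, u * z = z * u := fun u hu =>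
    congrArg Subtype.val (Subgroup.mem_center_iff.1 hzc ⟨u, hu⟩)
  have hz1 : z ≠ 1 := fun h => by simp [h] at hzo
  -- involutions of the kernel are the conjugates of `z` under the two-point stabiliser
  have key : ∀ w ∈ H, orderOf w = 2 →
      (∀ u ∈ H, u * w = w * u) ∧ ∃ x ∈ stabilizer G a ⊓ stabilizer G b, x * z * x⁻¹ = w := by
    intro w hw hwo
    obtain ⟨g, hg⟩ := isConj_iff.1 (invol_conj hZ hab hodd hinv hzo hwo)
    have hga : g • a = a := hH.smul_eq_of_conj_mem hzH hz1 (by rw [hg]; exact hw)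
    obtain ⟨u, hu, x, hx, rfl⟩ : ∃ u ∈ H, ∃ x ∈ stabilizer G a ⊓ stabilizer G b, g = u * x :=
      hH.decomp hZ hab hga
    have hxa := (mem_two.1 hx).1
    have hc : ∀ v ∈ H, v * (x * z * x⁻¹) = x * z * x⁻¹ * v := by
      intro v hv
      have h := hzcomm _ (hH.conj_mem hZ (g := x⁻¹) (mem_two.1 (inv_mem hx)).1 hv)
      calc v * (x * z * x⁻¹) = x * (x⁻¹ * v * x⁻¹⁻¹ * z) * x⁻¹ := by group
        _ = x * (z * (x⁻¹ * v * x⁻¹⁻¹)) * x⁻¹ := by rw [h]
        _ = x * z * x⁻¹ * v := by group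
    have heq : x * z * x⁻¹ = w := by
      rw [← hg]
      calc x * z * x⁻¹ = u * (x * z * x⁻¹) * u⁻¹ := by rw [hc u hu]; group
        _ = u * x * z * (u * x)⁻¹ := by group
    exact ⟨fun v hv => by rw [← heq]; exact hc v hv, x, hx, heq⟩
  have hord : ∀ x : G, x ≠ 1 → x * x = 1 → orderOf x = 2 := fun x hx h =>
    orderOf_eq_prime (by rw [pow_two]; exact h) hx
  -- the kernel is a Suzuki 2-group
  have hS : Cfsg.IsSuzukiTwoGroup H := by
    refine ⟨inferInstance, hH2, ⟨⟨u₁, hu₁⟩, ⟨v₁, hv₁⟩, fun h => huv (congrArg Subtype.val h)⟩,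
      ?_, (conjHom hH hZ b).range, ?_, ?_⟩
    · have : Nontrivial ↥(stabilizer G a ⊓ stabilizer G b) :=
        Finite.one_lt_card_iff_nontrivial.1 (by omega)
      obtain ⟨⟨x, hx⟩, hx1⟩ := exists_ne (1 : ↥(stabilizer G a ⊓ stabilizer G b))
      refine ⟨⟨z, hzH⟩, ⟨x * z * x⁻¹, hH.conj_mem hZ (mem_two.1 hx).1 hzH⟩, fun h => ?_,
        fun h => hz1 (congrArg Subtype.val h), Subtype.ext ?_, fun h => ?_, Subtype.ext ?_⟩
      · exact hz1 (hH.fpf hZ hab hx (fun h' => hx1 (Subtype.ext h')) hzH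
          (congrArg Subtype.val h).symm)
      · show z * z = 1
        rw [← pow_two, ← hzo, pow_orderOf_eq_one]
      · exact hz1 (conj_eq_one_iff.1 (congrArg Subtype.val h))
      · show x * z * x⁻¹ * (x * z * x⁻¹) = 1
        rw [show x * z * x⁻¹ * (x * z * x⁻¹) = x * (z * z) * x⁻¹ by group, ← pow_two, ← hzo,
          pow_orderOf_eq_one]
        group
    · exact isCyclic_of_surjective (conjHom hH hZ b).rangeRestrict
        (conjHom hH hZ b).rangeRestrict_surjective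
    · rintro ⟨p, hp⟩ ⟨r, hr⟩ hp1 hp2 hr1 hr2
      have hp1' : p ≠ 1 := fun h => hp1 (Subtype.ext h)
      obtain ⟨-, x, hx, hxp⟩ := key p hp (hord p hp1' (congrArg Subtype.val hp2))
      obtain ⟨-, y, hy, hyr⟩ := key r hr
        (hord r (fun h => hr1 (Subtype.ext h)) (congrArg Subtype.val hr2))
      refine ⟨⟨_, ⟨⟨y * x⁻¹, mul_mem hy (inv_mem hx)⟩, rfl⟩⟩, Subtype.ext ?_, ?_⟩
      · show (y * x⁻¹) * p * (y * x⁻¹)⁻¹ = r
        rw [← hxp, ← hyr]
        group
      · rintro ⟨_, ⟨k', rfl⟩⟩ hk'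
        refine Subtype.ext (congrArg (conjHom hH hZ b) (Subtype.ext ?_))
        have h' : (k' : G) * p * (k' : G)⁻¹ = r := congrArg Subtype.val hk'
        show (k' : G) = y * x⁻¹
        by_contra hne
        refine hp1' (hH.fpf hZ hab (x := (y * x⁻¹)⁻¹ * (k' : G))
          (mul_mem (inv_mem (mul_mem hy (inv_mem hx))) k'.2)
          (fun h => hne (inv_mul_eq_one.1 h).symm) hp ?_)
        calc (y * x⁻¹)⁻¹ * k' * p * ((y * x⁻¹)⁻¹ * k')⁻¹
            = (y * x⁻¹)⁻¹ * ((k' : G) * p * (k' : G)⁻¹) * (y * x⁻¹) := by group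
          _ = (y * x⁻¹)⁻¹ * r * (y * x⁻¹) := by rw [h']
          _ = p := by rw [← hxp, ← hyr]; group
  obtain ⟨hinvc, -⟩ := S1137.result hS
  -- the centre
  have hcen : Nat.card (Subgroup.center H) =
      Nat.card ↥(stabilizer G a ⊓ stabilizer G b) + 1 := by
    have hcount := invol_fix_card hZ hab hodd hinv hΩ a
    let f : {x : G // orderOf x = 2 ∧ x • a = a} → {w : Subgroup.center H // w ≠ 1} := fun x =>
      have hxH := invol_mem hH hZ hab hodd hΩ x.2.1 x.2.2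
      have hx1 : (⟨x.1, hxH⟩ : H) ≠ 1 ∧ (⟨x.1, hxH⟩ : H) * ⟨x.1, hxH⟩ = 1 :=
        ⟨fun h => by
          have h' : x.1 = 1 := congrArg Subtype.val h
          have := x.2.1
          simp [h'] at this, Subtype.ext (by
            show x.1 * x.1 = 1
            rw [← pow_two]
            exact orderOf_dvd_iff_pow_eq_one.1 x.2.1.dvd)⟩
      ⟨⟨⟨x.1, hxH⟩, ((hinvc _).1 hx1).1⟩, fun h => hx1.1 (congrArg Subtype.val h)⟩
    have hf : Function.Bijective f := by
      constructor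
      · intro x y h
        exact Subtype.ext (congrArg (fun t => ((t.1 : H) : G)) h)
      · rintro ⟨⟨⟨w, hw⟩, hwc⟩, hw1⟩
        obtain ⟨hne, hsq⟩ := (hinvc ⟨w, hw⟩).2 ⟨hwc, fun h => hw1 (Subtype.ext h)⟩
        exact ⟨⟨w, hord w (fun h => hne (Subtype.ext h)) (congrArg Subtype.val hsq), hH.le hw⟩, rfl⟩
    rw [← hcount, Nat.card_eq_of_bijective f hf]
    have h2 := Nat.card_congr (Equiv.optionSubtypeNe (1 : Subgroup.center H))
    rw [Finite.card_option] at h2
    exact h2.symm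
  have hj' : Nat.card ↥(stabilizer G a ⊓ stabilizer G b) + 1 = 2 ^ j := by rw [← hcen, hj]
  have hj2 : 2 ≤ j := by
    by_contra h
    have : 2 ^ j ≤ 2 ^ 1 := Nat.pow_le_pow_right (by norm_num) (by omega)
    omega
  -- the elementary central part inside `G`
  let W : Subgroup G := (Subgroup.center H).map H.subtype
  have hWH : W ≤ H := Subgroup.map_subtype_le _
  have hWmem : ∀ {w : G}, w ∈ W ↔ ∃ h : w ∈ H, ⟨w, h⟩ ∈ Subgroup.center H := by
    intro w
    constructor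
    · rintro ⟨⟨w, hw⟩, hwc, rfl⟩
      exact ⟨hw, hwc⟩
    · rintro ⟨hw, hwc⟩
      exact ⟨⟨w, hw⟩, hwc, rfl⟩
  have hWn : ∀ g : G, g • a = a → ∀ w ∈ W, g * w * g⁻¹ ∈ W := by
    intro g hg w hw
    obtain ⟨hwH, hwc⟩ := hWmem.1 hw
    refine hWmem.2 ⟨hH.conj_mem hZ hg hwH, Subgroup.mem_center_iff.2 ?_⟩
    rintro ⟨v, hv⟩
    refine Subtype.ext ?_
    have hga' : g⁻¹ • a = a := inv_smul_eq_iff.2 hg.symm
    have h : g⁻¹ * v * g⁻¹⁻¹ * w = w * (g⁻¹ * v * g⁻¹⁻¹) := congrArg Subtype.val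
      (Subgroup.mem_center_iff.1 hwc ⟨g⁻¹ * v * g⁻¹⁻¹, hH.conj_mem hZ hga' hv⟩)
    show v * (g * w * g⁻¹) = g * w * g⁻¹ * v
    calc v * (g * w * g⁻¹) = g * (g⁻¹ * v * g⁻¹⁻¹ * w) * g⁻¹ := by group
      _ = g * (w * (g⁻¹ * v * g⁻¹⁻¹)) * g⁻¹ := by rw [h]
      _ = g * w * g⁻¹ * v := by group
  have hWc : Nat.card W = 2 ^ j := by
    rw [Subgroup.card_map_of_injective H.subtype_injective, hj]
  obtain ⟨-, hcomm, hsize, -⟩ := S1138.result hS
  have hsq : Nat.card H = (2 ^ j) ^ 2 := by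
    rw [hj] at hsize
    refine hsize.resolve_right fun h3 => ?_
    refine cube_false hH hZ hab hcyc hodd hinv W hWH hWn (fun u hu v hv => ?_) j hj2 hWc hj' h3
    refine hWmem.2 ⟨mul_mem (mul_mem (mul_mem hu hv) (inv_mem hu)) (inv_mem hv), ?_⟩
    have h := hcomm (⟨u, hu⟩ : H)⁻¹ (⟨v, hv⟩ : H)⁻¹
    rw [inv_inv, inv_inv] at h
    exact h
  refine ⟨j, ?_, by omega, hsq, hj', hcyc, hS, hj⟩
  -- parity of the exponent
  by_contra hjodd
  have h3 : 3 ∣ Nat.card ↥(stabilizer G a ⊓ stabilizer G b) := by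
    obtain ⟨m, rfl⟩ := even_iff_two_dvd.1 (Nat.not_odd_iff_even.1 hjodd)
    have h4 : 4 ^ m % 3 = 1 := by rw [Nat.pow_mod]; simp
    rw [show ∀ k, 2 ^ (2 * k) = 4 ^ k from fun k => pow_mul 2 2 k] at hj'
    omega
  have : Fact (Nat.Prime 3) := ⟨Nat.prime_three⟩
  obtain ⟨⟨x, hx⟩, hxo⟩ := exists_prime_orderOf_dvd_card' 3 h3
  rw [Subgroup.orderOf_mk] at hxo
  obtain ⟨s₀, hs₀a, hs₀b⟩ := H33.zas_map_pair hZ hab hab.symm
  have hs₀ := swap_orderOf hab hodd hinv hs₀a hs₀b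
  obtain ⟨hxa, hxb⟩ := mem_two.1 hx
  have hxs : orderOf (x * s₀) = 2 := swap_orderOf hab hodd hinv
    (by rw [mul_smul, hs₀a, hxb]) (by rw [mul_smul, hs₀b, hxa])
  obtain ⟨g, hg⟩ := isConj_iff.1 (invol_conj hZ hab hodd hinv hxs hzo)
  set t := g * s₀ * g⁻¹ with ht
  have hto : orderOf t = 2 := by
    rw [ht, ← hs₀, ← MulAut.conj_apply, MulEquiv.orderOf_eq]
  have htt : t * t = 1 := by rw [← pow_two, ← hto, pow_orderOf_eq_one]
  have hzt : z * t = g * x * g⁻¹ := by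
    rw [← hg, ht]
    calc g * (x * s₀) * g⁻¹ * (g * s₀ * g⁻¹) = g * x * (s₀ * s₀) * g⁻¹ := by group
      _ = g * x * g⁻¹ := by
          rw [show s₀ * s₀ = 1 by rw [← pow_two, ← hs₀, pow_orderOf_eq_one], mul_one]
  have hzt3 : orderOf (z * t) = 3 := by
    rw [hzt, ← hxo, ← MulAut.conj_apply, MulEquiv.orderOf_eq]
  have hta : t • a ≠ a := by
    intro h
    have hcm := (key t (invol_mem hH hZ hab hodd hΩ hto h) hto).1 z hzH
    have h2 : (z * t) ^ 2 = 1 := by
      rw [pow_two]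
      calc z * t * (z * t) = z * (t * z) * t := by group
        _ = (z * z) * (t * t) := by rw [← hcm]; group
        _ = 1 := by rw [htt, ← pow_two, ← hzo, pow_orderOf_eq_one, mul_one]
    have := orderOf_dvd_of_pow_eq_one h2
    rw [hzt3] at this
    norm_num at this
  obtain ⟨w, hwb, -⟩ := hH.regular hZ hta hab.symm
  obtain ⟨s, hs⟩ : ∃ s, s = (w : G) * t * (w : G)⁻¹ := ⟨_, rfl⟩
  have hsa : s • a = b := by
    rw [hs, mul_smul, mul_smul,
      show (w : G)⁻¹ • a = a from (inv_smul_eq_iff.2 (hH.le w.2).symm)]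
    exact hwb
  have hso : orderOf s = 2 := by rw [hs, ← hto, ← MulAut.conj_apply, MulEquiv.orderOf_eq]
  have hsb : s • b = a := by rw [← hsa, invol_smul_smul hso]
  have hss : s * s = 1 := by rw [← pow_two, ← hso, pow_orderOf_eq_one]
  have hzz : z * z = 1 := by rw [← pow_two, ← hzo, pow_orderOf_eq_one]
  have hbraid : s * z * s = z * s * z := by
    have h3' : z * s * (z * s) * (z * s) = 1 := by
      have e : z * s = (w : G) * (z * t) * (w : G)⁻¹ := by
        rw [hs]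
        calc z * ((w : G) * t * (w : G)⁻¹) = (z * w) * t * (w : G)⁻¹ := by group
          _ = (w * z) * t * (w : G)⁻¹ := by rw [hzcomm _ w.2]
          _ = _ := by group
      rw [e]
      calc _ = (w : G) * ((z * t) * (z * t) * (z * t)) * (w : G)⁻¹ := by group
        _ = 1 := by
          rw [show z * t * (z * t) * (z * t) = 1 by
            rw [← pow_two, ← pow_succ]; exact orderOf_dvd_iff_pow_eq_one.1 hzt3.dvd]
          group
    calc s * z * s = (z * z) * s * z * s := by rw [hzz, one_mul]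
      _ = z * (z * s * (z * s)) := by group
      _ = z * (z * s)⁻¹ := by rw [eq_inv_of_mul_eq_one_left h3']
      _ = z * s⁻¹ * z⁻¹ := by group
      _ = z * s * z := by rw [inv_eq_of_mul_eq_one_right hss, inv_eq_of_mul_eq_one_right hzz]
  -- the fixed point of `s` is `z • b`
  have hfix : s • z • b = z • b := by
    obtain ⟨c, hc⟩ : ∃ c, s • c = c := by
      have h := invol_fixed hZ hab hodd hso
      rw [if_pos hΩ] at h
      obtain ⟨c, hc⟩ := Set.ncard_eq_one.1 h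
      exact ⟨c, (hc.symm ▸ Set.mem_singleton c : c ∈ fixedBy Ω s)⟩
    have hza : z • a = a := hH.le hzH
    have h1 : (s * z * s) • (z • c) = z • c := by
      rw [hbraid, mul_smul, smul_smul z z, hzz, one_smul, mul_smul, hc]
    have h2 : (s * z * s) • b = b := by rw [mul_smul, mul_smul, hsb, hza, hsa]
    have h3o : orderOf (s * z * s) = 2 := by
      rw [show s * z * s = s * z * s⁻¹ by rw [inv_eq_of_mul_eq_one_right hss], ← hzo,
        ← MulAut.conj_apply, MulEquiv.orderOf_eq]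
    have h4 := fixed_unique hZ hab hodd hΩ h3o h1 h2
    rw [← h4, show z • z • c = c by rw [smul_smul, hzz, one_smul], hc]
  -- the invariant set
  let B : Set Ω := insert a ((fun v : G => v • b) '' (W : Set G))
  have hne : ∀ v ∈ W, v • b ≠ a := fun v hv h =>
    hab (MulAction.injective v ((hH.le (hWH hv) : v • a = a).trans h.symm))
  have hBcard : Nat.card B = 2 ^ j + 1 := by
    rw [Nat.card_coe_set_eq, Set.ncard_insert_of_notMem
        (by rintro ⟨v, hv, h⟩; exact hne v hv h) (Set.toFinite _),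
      Set.InjOn.ncard_image, ← Nat.card_coe_set_eq, ← hWc]
    · rfl
    · intro v hv v' hv' h
      have h' : v'⁻¹ * v = 1 := hH.eq_one_of_fix (mul_mem (inv_mem (hWH hv')) (hWH hv)) hab.symm
        (by rw [mul_smul, inv_smul_eq_iff]; exact h)
      exact (inv_mul_eq_one.1 h').symm
  have hmemB : ∀ g : G, (∀ y ∈ B, g • y ∈ B) → g ∈ stabilizer G B := fun g hg => by
    refine Set.eq_of_subset_of_ncard_le ?_ ?_ (Set.toFinite _)
    · rintro _ ⟨y, hy, rfl⟩; exact hg y hy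
    · rw [Set.ncard_smul_set]
  have hWS : ∀ v ∈ W, v ∈ stabilizer G B := fun v hv => hmemB v (by
    rintro y (rfl | ⟨v', hv', rfl⟩)
    · exact Or.inl (hH.le (hWH hv))
    · exact Or.inr ⟨v * v', mul_mem hv hv', mul_smul _ _ _⟩)
  have hsS : s ∈ stabilizer G B := hmemB s (by
    rintro y (rfl | ⟨v, hv, rfl⟩)
    · exact Or.inr ⟨1, one_mem _, by rw [hsa]; exact one_smul G b⟩
    · show s • v • b ∈ B
      by_cases hv1 : v = 1
      · exact Or.inl (by rw [hv1, one_smul, hsb])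
      · obtain ⟨hvH, hvc⟩ := hWmem.1 hv
        obtain ⟨hne', hsq'⟩ := (hinvc ⟨v, hvH⟩).2 ⟨hvc, fun h => hv1 (congrArg Subtype.val h)⟩
        obtain ⟨-, y, hy, hyv⟩ := key v hvH (hord v hv1 (congrArg Subtype.val hsq'))
        obtain ⟨hya, hyb⟩ := mem_two.1 hy
        refine Or.inr ⟨y⁻¹ * z * y⁻¹⁻¹,
          hWn y⁻¹ (mem_two.1 (inv_mem hy)).1 z (hWmem.2 ⟨hzH, hzc⟩), ?_⟩
        have hyi : s * y = y⁻¹ * s := by
          rw [← hinv s hsa hsb y hy]; group
        show (y⁻¹ * z * y⁻¹⁻¹) • b = s • v • b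
        rw [← hyv, mul_smul, mul_smul, inv_inv, hyb, mul_smul, mul_smul,
          show y⁻¹ • b = b from inv_smul_eq_iff.2 hyb.symm, smul_smul s y, hyi, mul_smul, hfix])
  have hdvd := card_orbit_set_dvd (G := G) (B := B) (x := a) (fun y hy => by
    rcases hy with rfl | ⟨v, hv, rfl⟩
    · exact ⟨1, one_mem _, one_smul _ _⟩
    · exact ⟨v * s, mul_mem (hWS v hv) hsS, by rw [mul_smul, hsa]⟩) (Or.inl rfl)
  rw [hBcard, hH.card_group hZ hab, ← hH.card, hsq] at hdvd
  have hcast := Int.natCast_dvd_natCast.2 hdvd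
  have heZ : (Nat.card ↥(stabilizer G a ⊓ stabilizer G b) : ℤ) = (2 : ℤ) ^ j - 1 := by
    have := congrArg (Nat.cast : ℕ → ℤ) hj'
    push_cast at this
    linarith
  push_cast at hcast
  rw [heZ] at hcast
  have h4 : ((2 : ℤ) ^ j + 1) ∣ 4 := by
    generalize (2 : ℤ) ^ j = Q at hcast
    obtain ⟨c, hc⟩ := hcast
    exact ⟨Q ^ 4 - 2 * Q ^ 3 + 3 * Q ^ 2 - 4 * Q + 4 - c, by linear_combination -hc⟩
  have h5 : (4 : ℤ) ≤ 2 ^ j := by
    calc (4 : ℤ) = 2 ^ 2 := by norm_num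
      _ ≤ 2 ^ j := pow_le_pow_right₀ (by norm_num) hj2
  have h6 := Int.le_of_dvd (by norm_num) h4
  omega

end Cfsg.Agent.H28.ZT
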