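import Cfsg.Agent.H28.ZassField
import Cfsg.Agent.Linear.Order
import Cfsg.Agent.H27.PermFamily

/-!
A Zassenhaus group with abelian kernel of order `h` is `PSL(2, h)` if `2e + 1 = h`, or if
`e + 1 = h` is even and the two-point stabiliser is abelian.
-/

set_option autoImplicit false

namespace Cfsg.Agent.H28.Zass

open MulAction
open scoped LinearAlgebra.Projectivization MatrixGroups

universe u

variable {G : Type u} {Ω : Type*} [Group G] [MulAction G Ω] [Finite Ω] {a b : Ω} {H : Subgroup G}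
variable {K : Type u} [Field K] [Fintype K] {ι : K → Ω} {t : K → G}
  {σ : ↥(stabilizer G a ⊓ stabilizer G b) → K}

/-- A swap acts as `r ↦ -1/r` in suitable coordinates. -/
theorem exists_weyl (hH : IsKer a H) (hZ : Cfsg.IsZassenhausGroup G Ω) (hab : a ≠ b)
    (hcomm : ∀ u ∈ H, ∀ v ∈ H, u * v = v * u)
    (hhalf : 2 * Nat.card ↥(stabilizer G a ⊓ stabilizer G b) + 1 = Nat.card H)
    (hC : Coord a b K ι t σ) :
    ∃ s : G, s • a = b ∧ s • b = a ∧ ∀ r : K, r ≠ 0 → s • ι r = ι (-r⁻¹) := by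
  classical
  have := finite_of_zas hZ
  obtain ⟨-, hinv, hord⟩ := half_inverted hH hZ hab hcomm hhalf
  have hchar := hC.char_ne
  have hdiv : Fintype.card K / 2 = Nat.card ↥(stabilizer G a ⊓ stabilizer G b) := by have := hC.card; omega
  have hne1 : (-1 : K) ≠ 1 := Ring.neg_one_ne_one_of_char_ne_two hchar
  have hsq : ∀ r : K, r ≠ 0 → (IsSquare r ↔ r ^ Nat.card ↥(stabilizer G a ⊓ stabilizer G b) = 1) := fun r hr => by
    rw [FiniteField.isSquare_iff hchar hr, hdiv]
  have hnsq : ∀ r : K, r ≠ 0 → ¬ IsSquare r → r ^ Nat.card ↥(stabilizer G a ⊓ stabilizer G b) = -1 := fun r hr hn => by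
    have := FiniteField.pow_dichotomy hchar hr
    rw [hdiv] at this
    exact this.resolve_left fun h => hn ((hsq r hr).2 h)
  have hnn : ∀ p q : K, ¬ IsSquare p → ¬ IsSquare q → IsSquare (p * q) := by
    intro p q hp hq
    have hp0 : p ≠ 0 := fun h => hp (h ▸ IsSquare.zero)
    have hq0 : q ≠ 0 := fun h => hq (h ▸ IsSquare.zero)
    rw [hsq _ (mul_ne_zero hp0 hq0), mul_pow, hnsq p hp0 hp, hnsq q hq0 hq]
    ring
  have hexists : ∀ s : G, s • a = b → s • b = a →
      ∃ w : K → K, (∀ r, r ≠ 0 → s • ι r = ι (w r) ∧ w r ≠ 0 ∧ w (w r) = r) ∧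
        ∀ (x : ↥(stabilizer G a ⊓ stabilizer G b)) (r : K), r ≠ 0 → w (σ x * r) = (σ x)⁻¹ * w r := by
    intro s hsa hsb
    have hss : ∀ c : Ω, s • s • c = c := invol_smul_smul (hord s hsa hsb)
    have h1 : ∀ r : K, ∃ r' : K, r ≠ 0 → s • ι r = ι r' := by
      intro r
      by_cases hr : r = 0
      · exact ⟨0, fun h => absurd hr h⟩
      · have : s • ι r ≠ a := fun h => hr (hC.inj (by
          rw [hC.zero, ← hss (ι r), h, hsa]))
        obtain ⟨r', hr'⟩ := hC.surj _ this
        exact ⟨r', fun _ => hr'.symm⟩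
    choose w hw using h1
    have hw0 : ∀ r, r ≠ 0 → w r ≠ 0 := fun r hr h => by
      have h' := hw r hr
      rw [h, hC.zero] at h'
      exact hC.ne r (smul_left_cancel s (h'.trans hsa.symm))
    refine ⟨w, fun r hr => ⟨hw r hr, hw0 r hr, hC.inj ?_⟩, fun x r hr => hC.inj ?_⟩
    · rw [← hw (w r) (hw0 r hr), ← hw r hr, hss]
    · have hσ0 : σ x * r ≠ 0 := by
        refine mul_ne_zero (fun h => one_ne_zero (hC.inj (?_ : ι (1 : K) = ι 0))) hr
        refine smul_left_cancel (x : G) ?_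
        rw [hC.mul_apply, hC.mul_apply, h, zero_mul, zero_mul]
      rw [← hw _ hσ0, ← hC.mul_apply, ← hC.map_inv, ← hC.mul_apply, ← hw r hr, Subgroup.coe_inv,
        ← hinv s hsa hsb x x.2, ← mul_smul, ← mul_smul]
      congr 1
      group
  have hsquares : ∀ (w : K → K) (α : K), α ≠ 0 → w 1 = α →
      (∀ (x : ↥(stabilizer G a ⊓ stabilizer G b)) (r : K), r ≠ 0 → w (σ x * r) = (σ x)⁻¹ * w r) →
      ∀ r : K, r ≠ 0 → IsSquare r → w r = α / r := by
    intro w α _ hw1 hwm r hr hs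
    obtain ⟨x, hx⟩ := (hC.sq_iff r hr).1 hs
    have := hwm x 1 one_ne_zero
    rw [mul_one, hx, hw1] at this
    rw [this, div_eq_mul_inv, mul_comm]
  -- it suffices to find a swap acting as `r ↦ α / r` with `-α` a square
  suffices hmain : ∃ (s : G) (α : K), s • a = b ∧ s • b = a ∧ α ≠ 0 ∧ IsSquare (-α) ∧
      ∀ r : K, r ≠ 0 → s • ι r = ι (α / r) by
    obtain ⟨s, α, hsa, hsb, hα, hsqα, hs⟩ := hmain
    obtain ⟨x, hx⟩ := (hC.sq_iff _ (inv_ne_zero (neg_ne_zero.2 hα))).1 hsqα.inv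
    obtain ⟨hxa, hxb⟩ := mem_two.1 x.2
    refine ⟨x * s, by rw [mul_smul, hsa, hxb], by rw [mul_smul, hsb, hxa], fun r hr => ?_⟩
    rw [mul_smul, hs r hr, hC.mul_apply, hx]
    congr 1
    field_simp
  obtain ⟨s, hsa, hsb⟩ := H33.zas_map_pair hZ hab hab.symm
  obtain ⟨w, hw, hwm⟩ := hexists s hsa hsb
  obtain ⟨hs1, hα, hwα⟩ := hw 1 one_ne_zero
  set α := w 1 with hαdef
  have hcases : ∀ r : K, ¬ IsSquare α → r ≠ 0 → w r = α / r := by
    intro r hn hr
    by_cases hrs : IsSquare r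
    · exact hsquares w α hα rfl hwm r hr hrs
    · have h2 : IsSquare (r / α) := by
        have := (hnn r α hrs hn).mul (IsSquare.mul_self α⁻¹)
        rwa [show r * α * (α⁻¹ * α⁻¹) = r * α⁻¹ * (α * α⁻¹) by ring, mul_inv_cancel₀ hα, mul_one,
          ← div_eq_mul_inv] at this
      obtain ⟨x, hx⟩ := (hC.sq_iff _ (div_ne_zero hr hα)).1 h2
      have := hwm x α hα
      rw [hwα, mul_one, hx, div_mul_cancel₀ _ hα] at this
      rw [this, inv_div]
  rcases Nat.even_or_odd (Nat.card ↥(stabilizer G a ⊓ stabilizer G b)) with he | ho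
  · -- `e` even: `-1` is a square
    have hm1 : IsSquare (-1 : K) := by
      rw [hsq _ (neg_ne_zero.2 one_ne_zero), Even.neg_one_pow he]
    by_cases hn : IsSquare α
    swap
    · exfalso
      obtain ⟨-, c, hc⟩ := half_even_swap hH hZ hab hcomm hhalf he hsa hsb
      have hca : c ≠ a := fun h => hab (by rw [h, hsa] at hc; exact hc.symm)
      obtain ⟨r, rfl⟩ := hC.surj c hca
      have hr : r ≠ 0 := by
        rintro rfl
        rw [hC.zero, hsb] at hc
        exact hab hc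
      rw [(hw r hr).1] at hc
      have h3 := hC.inj hc
      rw [hcases r hn hr, div_eq_iff hr] at h3
      exact hn ⟨r, h3⟩
    obtain ⟨x0, hx0⟩ := (hC.sq_iff α hα).1 hn
    obtain ⟨hxa, hxb⟩ := mem_two.1 (inv_mem x0.2)
    obtain ⟨s', hs'⟩ : ∃ s', s' = (x0 : G)⁻¹ * s := ⟨_, rfl⟩
    have hs'a : s' • a = b := by rw [hs', mul_smul, hsa, hxb]
    have hs'b : s' • b = a := by rw [hs', mul_smul, hsb, hxa]
    obtain ⟨v, hv, hvm⟩ := hexists s' hs'a hs'b
    have hs'1 : s' • ι 1 = ι 1 := by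
      rw [hs', mul_smul, hs1, ← hx0, inv_smul_eq_iff, hC.mul_apply, mul_one]
    have hv1 : v 1 = 1 := hC.inj (by rw [← (hv 1 one_ne_zero).1, hs'1])
    have hvsq := hsquares v 1 one_ne_zero hv1 hvm
    obtain ⟨n, hn1, hn2, hn3⟩ := exists_nonsquare_succ hchar hm1
    have hn0 : n ≠ 0 := fun h => hn1 (h ▸ IsSquare.zero)
    -- the value on nonsquares
    set β := n * v n with hβ
    have hvns : ∀ r : K, ¬ IsSquare r → v r = β / r := by
      intro r hr
      have hr0 : r ≠ 0 := fun h => hr (h ▸ IsSquare.zero)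
      have h2 : IsSquare (r / n) := by
        have := (hnn r n hr hn1).mul (IsSquare.mul_self n⁻¹)
        rwa [show r * n * (n⁻¹ * n⁻¹) = r * n⁻¹ * (n * n⁻¹) by ring, mul_inv_cancel₀ hn0, mul_one,
          ← div_eq_mul_inv] at this
      obtain ⟨x, hx⟩ := (hC.sq_iff _ (div_ne_zero hr0 hn0)).1 h2
      have := hvm x n hn0
      rw [hx, div_mul_cancel₀ _ hn0] at this
      rw [this, hβ, inv_div]
      field_simp
    have hvm1 : v (-1) = -1 := by
      rw [hvsq _ (neg_ne_zero.2 one_ne_zero) hm1, one_div_neg_one_eq_neg_one]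
    have hev : ∀ r : K, r ≠ 0 → s' • ι r = ι (v r) := fun r hr => (hv r hr).1
    obtain ⟨g, hg⟩ : ∃ g, g = s' * (t (-1) * (s' * (t 1 * s'))) := ⟨_, rfl⟩
    have hga : g • a = a := by
      rw [hg, mul_smul, mul_smul, mul_smul, mul_smul, hs'a, ← hC.zero, hC.t_apply, add_zero,
        hs'1, hC.t_apply, neg_add_cancel, hC.zero, hs'b]
    have hg0 : g • ι 0 = ι (-1) := by
      rw [hg, mul_smul, mul_smul, mul_smul, mul_smul, hC.zero, hs'b, hC.t_fix, hs'a, ← hC.zero,
        hC.t_apply, add_zero, hev _ (neg_ne_zero.2 one_ne_zero), hvm1]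
    have hgm : g • ι (-1) = ι 0 := by
      rw [hg, mul_smul, mul_smul, mul_smul, mul_smul, hev _ (neg_ne_zero.2 one_ne_zero), hvm1,
        hC.t_apply, add_neg_cancel, hC.zero, hs'b, hC.t_fix, hs'a]
    have hgx : t 1 * g ∈ stabilizer G a ⊓ stabilizer G b := mem_two.2 ⟨by rw [mul_smul, hga, hC.t_fix], by
      rw [mul_smul, ← hC.zero, hg0, hC.t_apply, add_neg_cancel]⟩
    have hσg : σ ⟨_, hgx⟩ = -1 := by
      have h := hC.mul_apply ⟨_, hgx⟩ (-1)
      rw [mul_smul, hgm, hC.t_apply, add_zero] at h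
      have h' := hC.inj h
      linear_combination h'
    have hgr : ∀ r, g • ι r = ι (-r - 1) := by
      intro r
      refine smul_left_cancel (t 1) ?_
      rw [← mul_smul, hC.mul_apply ⟨_, hgx⟩ r, hσg, hC.t_apply]
      congr 1
      ring
    obtain ⟨-, hr0, hvr⟩ := hv n hn0
    have hn4 : ¬ IsSquare (-n / (n + 1)) := by
      intro h
      have h' := h.mul (hn3.mul hm1)
      apply hn1
      rwa [show -n / (n + 1) * ((n + 1) * -1) = n * ((n + 1)⁻¹ * (n + 1)) by ring,
        inv_mul_cancel₀ hn2, mul_one] at h'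
    have h := hgr (v n)
    rw [hg, mul_smul, mul_smul, mul_smul, mul_smul, hev _ hr0, hvr, hC.t_apply, add_comm 1 n,
      hev _ hn2, hvsq _ hn2 hn3, hC.t_apply,
      show -1 + 1 / (n + 1) = -n / (n + 1) by field_simp; ring,
      hev _ (div_ne_zero (neg_ne_zero.2 hn0) hn2), hvns _ hn4] at h
    have heq := hC.inj h
    rw [hvns n hn1] at heq
    have hβ1 : β = 1 := by
      field_simp at heq
      refine mul_left_cancel₀ hn0 ?_
      linear_combination -heq
    refine ⟨s', 1, hs'a, hs'b, one_ne_zero, hm1, fun r hr => ?_⟩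
    rw [hev r hr]
    by_cases hrs : IsSquare r
    · rw [hvsq r hr hrs]
    · rw [hvns r hrs, hβ1]
  · -- `e` odd
    have hn : ¬ IsSquare α := by
      intro h
      obtain ⟨x0, hx0⟩ := (hC.sq_iff α hα).1 h
      obtain ⟨hxa, hxb⟩ := mem_two.1 (inv_mem x0.2)
      obtain ⟨s', hs'⟩ : ∃ s', s' = (x0 : G)⁻¹ * s := ⟨_, rfl⟩
      have hs'a : s' • a = b := by rw [hs', mul_smul, hsa, hxb]
      have hs'b : s' • b = a := by rw [hs', mul_smul, hsb, hxa]
      have hfix : ι 1 ∈ fixedBy Ω s' := by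
        show s' • ι 1 = ι 1
        rw [hs', mul_smul, hs1, ← hx0, inv_smul_eq_iff, hC.mul_apply, mul_one]
      have hΩ : ¬ Odd (Nat.card Ω) := by
        rw [Nat.not_odd_iff_even, ← hH.card, ← hhalf]
        exact ⟨Nat.card ↥(stabilizer G a ⊓ stabilizer G b) + 1, by omega⟩
      have h0 := invol_fixed hZ hab ho (hord s' hs'a hs'b)
      rw [if_neg hΩ, Set.ncard_eq_zero (Set.toFinite _)] at h0
      rw [h0] at hfix
      exact hfix
    refine ⟨s, α, hsa, hsb, hα, ?_, fun r hr => by rw [(hw r hr).1, hcases r hn hr]⟩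
    rw [hsq _ (neg_ne_zero.2 hα), neg_pow, Odd.neg_one_pow ho, hnsq α hα hn, neg_mul_neg, one_mul]

/-- Coordinates with a swap `r ↦ -1/r` identify `G` with `PSL(2, K)`. -/
theorem coord_equiv (hZ : Cfsg.IsZassenhausGroup G Ω) (hab : a ≠ b)
    (hC : Coord0 a b K ι t σ) {s : G} (hsa : s • a = b) (hsb : s • b = a)
    (hs : ∀ r : K, r ≠ 0 → s • ι r = ι (-r⁻¹)) (hsq : ∀ x, IsSquare (σ x))
    (hcard : Nat.card (Matrix.ProjectiveSpecialLinearGroup (Fin 2) K) = Nat.card G) :
    ∃ (F : Type) (_ : Field F) (_ : Fintype F), ringChar F = ringChar K ∧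
      Fintype.card F = Fintype.card K ∧
      Nonempty (G ≃* Matrix.ProjectiveSpecialLinearGroup (Fin 2) F) := by
  classical
  have := finite_of_zas hZ
  have hpt : ∀ r : K, (![r, 1] : Fin 2 → K) ≠ 0 := fun r h => by simpa using congrFun h 1
  have hinf : (![1, 0] : Fin 2 → K) ≠ 0 := fun h => by simpa using congrFun h 0
  let f : Ω → ℙ K (Fin 2 → K) := fun c =>
    if hc : c = a then Projectivization.mk K ![1, 0] hinf
    else Projectivization.mk K ![(hC.surj c hc).choose, 1] (hpt _)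
  have hfa : f a = Projectivization.mk K ![1, 0] hinf := dif_pos rfl
  have hfι : ∀ r, f (ι r) = Projectivization.mk K ![r, 1] (hpt r) := by
    intro r
    have h := (hC.surj (ι r) (hC.ne r)).choose_spec
    simp only [f, dif_neg (hC.ne r), hC.inj h]
  have hfb : f b = Projectivization.mk K ![0, 1] (hpt 0) := by rw [← hC.zero, hfι]
  have hsplit : ∀ c, c = a ∨ ∃ r, ι r = c := fun c => (em (c = a)).imp_right (hC.surj c)
  have hfbij : Function.Bijective f := by
    constructor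
    · intro c d h
      rcases hsplit c with rfl | ⟨r, rfl⟩ <;> rcases hsplit d with rfl | ⟨r', rfl⟩
      · rfl
      · rw [hfa, hfι, Projectivization.mk_eq_mk_iff'] at h
        obtain ⟨k, hk⟩ := h
        have h0 := congrFun hk 0
        have h1 := congrFun hk 1
        simp at h0 h1
        simp [h1] at h0
      · rw [hfa, hfι, Projectivization.mk_eq_mk_iff'] at h
        obtain ⟨k, hk⟩ := h
        have h1 := congrFun hk 1
        simp at h1
      · rw [hfι, hfι, Projectivization.mk_eq_mk_iff'] at h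
        obtain ⟨k, hk⟩ := h
        have h0 := congrFun hk 0
        have h1 := congrFun hk 1
        simp at h0 h1
        rw [h1, one_mul] at h0
        rw [h0]
    · intro p
      induction p using Projectivization.ind with
      | h v hv =>
        by_cases h1 : v 1 = 0
        · refine ⟨a, ?_⟩
          rw [hfa, Projectivization.mk_eq_mk_iff']
          have h0 : v 0 ≠ 0 := fun h0 => hv (funext fun i => by fin_cases i <;> assumption)
          refine ⟨(v 0)⁻¹, funext fun i => ?_⟩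
          fin_cases i <;> simp [h0, h1]
        · refine ⟨ι (v 0 / v 1), ?_⟩
          rw [hfι, Projectivization.mk_eq_mk_iff']
          refine ⟨(v 1)⁻¹, funext fun i => ?_⟩
          fin_cases i <;> simp [h1]
          field_simp
  let θ : Ω ≃ ℙ K (Fin 2 → K) := Equiv.ofBijective f hfbij
  let ψ : Matrix.ProjectiveSpecialLinearGroup (Fin 2) K →* Equiv.Perm Ω :=
    (θ.symm.permCongrHom.toMonoidHom).comp Projectivization.PSLAction.toPermHom
  have hψ : ∀ (g : G) (M : Matrix.SpecialLinearGroup (Fin 2) K),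
      (∀ c, f (g • c) = M • f c) → toPermHom G Ω g ∈ ψ.range := by
    intro g M h
    refine ⟨(M : Matrix.ProjectiveSpecialLinearGroup (Fin 2) K), Equiv.ext fun c => ?_⟩
    apply θ.injective
    show θ (θ.symm ((M : Matrix.ProjectiveSpecialLinearGroup (Fin 2) K) • θ c)) = f (g • c)
    rw [Equiv.apply_symm_apply, h c, Matrix.ProjectiveSpecialLinearGroup.smul_proj_mk]
    rfl
  set R := ψ.range.comap (toPermHom G Ω) with hR
  have hmk : ∀ (M : Matrix.SpecialLinearGroup (Fin 2) K) (v : Fin 2 → K) (hv : v ≠ 0)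
      (w : Fin 2 → K) (hw : w ≠ 0) (k : K), k • w = (M : Matrix (Fin 2) (Fin 2) K).mulVec v →
      Projectivization.mk K w hw = M • Projectivization.mk K v hv := by
    intro M v hv w hw k hk
    rw [Projectivization.smul_mk, eq_comm, Projectivization.mk_eq_mk_iff']
    exact ⟨k, hk⟩
  have ht : ∀ c, t c ∈ R := by
    intro c
    refine hψ _ ⟨!![1, c; 0, 1], by simp [Matrix.det_fin_two]⟩ fun d => ?_
    rcases hsplit d with rfl | ⟨r, rfl⟩
    · rw [hC.t_fix, hfa]
      exact hmk _ _ _ _ _ 1 (by simp [Matrix.mulVec, funext_iff, Fin.forall_fin_two])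
    · rw [hC.t_apply, hfι, hfι]
      exact hmk _ _ _ _ _ 1 (by
        simp [Matrix.mulVec, funext_iff, Fin.forall_fin_two]; ring)
  have hE : ∀ x : ↥(stabilizer G a ⊓ stabilizer G b), (x : G) ∈ R := by
    intro x
    have hσ0 : σ x ≠ 0 := by
      intro h
      refine one_ne_zero (hC.inj (?_ : ι (1 : K) = ι 0))
      refine smul_left_cancel (x : G) ?_
      rw [hC.mul_apply, hC.mul_apply, h, zero_mul, zero_mul]
    obtain ⟨m, hm⟩ := hsq x
    have hm0 : m ≠ 0 := fun h => hσ0 (by rw [hm, h, zero_mul])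
    refine hψ _ ⟨!![m, 0; 0, m⁻¹], by simp [Matrix.det_fin_two, hm0]⟩ fun d => ?_
    rcases hsplit d with rfl | ⟨r, rfl⟩
    · rw [(mem_two.1 x.2).1, hfa]
      exact hmk _ _ _ _ _ m (by simp [Matrix.mulVec, funext_iff, Fin.forall_fin_two])
    · rw [hC.mul_apply, hfι, hfι]
      exact hmk _ _ _ _ _ m⁻¹ (by
        simp [Matrix.mulVec, funext_iff, Fin.forall_fin_two, hm]; field_simp)
  have hsR : s ∈ R := by
    refine hψ _ ⟨!![0, -1; 1, 0], by simp [Matrix.det_fin_two]⟩ fun d => ?_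
    rcases hsplit d with rfl | ⟨r, rfl⟩
    · rw [hsa, hfa, hfb]
      exact hmk _ _ _ _ _ 1 (by simp [Matrix.mulVec, funext_iff, Fin.forall_fin_two])
    · by_cases hr : r = 0
      · subst hr
        rw [hC.zero, hsb, hfa, hfb]
        exact hmk _ _ _ _ _ (-1) (by simp [Matrix.mulVec, funext_iff, Fin.forall_fin_two])
      · rw [hs r hr, hfι, hfι]
        exact hmk _ _ _ _ _ r (by
          simp [Matrix.mulVec, funext_iff, Fin.forall_fin_two, hr])
  have hfixA : ∀ g : G, g • a = a → g ∈ R := by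
    intro g hg
    have hgb : g • b ≠ a := fun h => hab (smul_left_cancel g (hg.trans h.symm))
    obtain ⟨c, hc⟩ := hC.surj _ hgb
    have hx : t (-c) * g ∈ stabilizer G a ⊓ stabilizer G b := mem_two.2 ⟨by rw [mul_smul, hg, hC.t_fix], by
      rw [mul_smul, ← hc, hC.t_apply, neg_add_cancel, hC.zero]⟩
    rw [show g = (t (-c))⁻¹ * (t (-c) * g) by group]
    exact mul_mem (inv_mem (ht _)) (hE ⟨_, hx⟩)
  have hall : (toPermHom G Ω).range ≤ ψ.range := by
    rintro _ ⟨g, rfl⟩
    show g ∈ R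
    by_cases hg : g • a = a
    · exact hfixA g hg
    · obtain ⟨r, hr⟩ := hC.surj _ hg
      have hh : s * (t (-r) * g) ∈ R := hfixA _ (by
        rw [mul_smul, mul_smul, ← hr, hC.t_apply, neg_add_cancel, hC.zero, hsb])
      rw [show g = (t (-r))⁻¹ * (s⁻¹ * (s * (t (-r) * g))) by group]
      exact mul_mem (inv_mem (ht _)) (mul_mem (inv_mem hsR) hh)
  have hinj : Function.Injective (toPermHom G Ω) := by
    rw [injective_iff_map_eq_one]
    intro g hg
    obtain ⟨c, hca, hcb⟩ := exists_third hZ a b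
    exact H33.zas_eq_one hZ hab hcb.symm hca.symm (DFunLike.congr_fun hg a)
      (DFunLike.congr_fun hg b) (DFunLike.congr_fun hg c)
  have hGr : Nat.card (toPermHom G Ω).range = Nat.card G :=
    (Nat.card_congr (MonoidHom.ofInjective hinj).toEquiv).symm
  have hψle : Nat.card ψ.range ≤ Nat.card (Matrix.ProjectiveSpecialLinearGroup (Fin 2) K) :=
    Nat.card_le_card_of_surjective _ ψ.rangeRestrict_surjective
  have heq : (toPermHom G Ω).range = ψ.range :=
    Subgroup.eq_of_le_of_card_ge hall (by omega)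
  have hψbij : Function.Bijective ψ.rangeRestrict := by
    rw [Nat.bijective_iff_surjective_and_card]
    exact ⟨ψ.rangeRestrict_surjective, by rw [← heq, hGr, hcard]⟩
  let e1 : G ≃* Matrix.ProjectiveSpecialLinearGroup (Fin 2) K :=
    (MonoidHom.ofInjective hinj).trans
      ((MulEquiv.subgroupCongr heq).trans (MulEquiv.ofBijective _ hψbij).symm)
  let rk : K ≃+* Shrink.{0} K := (Shrink.ringEquiv.{0} K).symm
  refine ⟨Shrink.{0} K, inferInstance, Fintype.ofEquiv K (equivShrink.{0} K), ?_, ?_,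
    ⟨e1.trans (H27.PermFamily.pslCongr rk)⟩⟩
  · have : CharP (Shrink.{0} K) (ringChar K) := charP_of_injective_ringHom rk.toRingHom.injective _
    rw [ringChar.eq (Shrink.{0} K) (ringChar K)]
  · rw [← Fintype.card_congr (equivShrink.{0} K)]

/-- Recognition of `PSL(2, 2e + 1)`. -/
theorem half_equiv (hH : IsKer a H) (hZ : Cfsg.IsZassenhausGroup G Ω) (hab : a ≠ b)
    (hcomm : ∀ u ∈ H, ∀ v ∈ H, u * v = v * u)
    (hhalf : 2 * Nat.card ↥(stabilizer G a ⊓ stabilizer G b) + 1 = Nat.card H) :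
    ∃ (F : Type) (_ : Field F) (_ : Fintype F), ringChar F ≠ 2 ∧ Fintype.card F = Nat.card H ∧
      Nonempty (G ≃* Matrix.ProjectiveSpecialLinearGroup (Fin 2) F) := by
  classical
  have := finite_of_zas hZ
  obtain ⟨K, _, _, ι, t, σ, hC⟩ := exists_field hH hZ hab hcomm hhalf
  obtain ⟨s, hsa, hsb, hs⟩ := exists_weyl hH hZ hab hcomm hhalf hC
  have hsq : ∀ x, IsSquare (σ x) := fun x => by
    by_cases h : σ x = 0
    · rw [h]; exact IsSquare.zero
    · exact (hC.sq_iff _ h).2 ⟨x, rfl⟩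
  have hcard : Nat.card (Matrix.ProjectiveSpecialLinearGroup (Fin 2) K) = Nat.card G := by
    have h1 := Linear.card_PSL_two_mul (F := K)
    have hg2 : Nat.gcd 2 (Fintype.card K - 1) = 2 :=
      Nat.gcd_eq_left ⟨Nat.card ↥(stabilizer G a ⊓ stabilizer G b), by rw [hC.card]; omega⟩
    rw [hg2, hC.card] at h1
    rw [hH.card_group hZ hab, ← hH.card, ← hhalf]
    have h2 : (2 * Nat.card ↥(stabilizer G a ⊓ stabilizer G b) + 1) ^ 2 - 1 = 2 * Nat.card ↥(stabilizer G a ⊓ stabilizer G b) * (2 * Nat.card ↥(stabilizer G a ⊓ stabilizer G b) + 2) :=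
      Nat.sub_eq_of_eq_add (by ring)
    rw [h2] at h1
    refine Nat.eq_of_mul_eq_mul_left (show 0 < 2 by norm_num) (h1.trans ?_)
    ring
  obtain ⟨F, hF1, hF2, hchar, hFc, hiso⟩ := coord_equiv hZ hab hC.toCoord0 hsa hsb hs hsq hcard
  exact ⟨F, hF1, hF2, hchar ▸ hC.char_ne, by rw [hFc, hC.card, hhalf], hiso⟩

/-- Recognition of `PSL(2, 2^n)` from sharp triple transitivity with abelian stabilisers. -/
theorem sharp_equiv (hH : IsKer a H) (hZ : Cfsg.IsZassenhausGroup G Ω) (hab : a ≠ b)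
    (hcomm : ∀ u ∈ H, ∀ v ∈ H, u * v = v * u)
    (hE : ∀ x ∈ stabilizer G a ⊓ stabilizer G b, ∀ y ∈ stabilizer G a ⊓ stabilizer G b,
      x * y = y * x)
    (hinv : Inverted G a b)
    (he : Nat.card ↥(stabilizer G a ⊓ stabilizer G b) + 1 = Nat.card H)
    (heven : Even (Nat.card H)) :
    ∃ (F : Type) (_ : Field F) (_ : Fintype F), ringChar F = 2 ∧ Fintype.card F = Nat.card H ∧
      Nonempty (G ≃* Matrix.ProjectiveSpecialLinearGroup (Fin 2) F) := by
  classical
  have := finite_of_zas hZ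
  obtain ⟨K, _, _, ι, t, σ, hC, hKc⟩ := exists_field0 hH hZ hab hcomm hE (by omega)
  have hchar : ringChar K = 2 := by
    rw [FiniteField.even_card_iff_char_two, hKc]
    exact Nat.even_iff.1 heven
  have : CharP K 2 := by rw [← hchar]; exact ringChar.charP K
  have hsq : ∀ r : K, IsSquare r := FiniteField.isSquare_of_char_two hchar
  have hσ0 : ∀ x, σ x ≠ 0 := fun x h => by
    have := hC.pow_card x
    rw [h, zero_pow Nat.card_pos.ne'] at this
    exact zero_ne_one this
  have hsurj : ∀ r : K, r ≠ 0 → ∃ x, σ x = r := by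
    let f : ↥(stabilizer G a ⊓ stabilizer G b) → {r : K // r ≠ 0} := fun x => ⟨σ x, hσ0 x⟩
    have hf : Function.Injective f := fun x y h => hC.inj_mul (congrArg Subtype.val h)
    have hle : Nat.card {r : K // r ≠ 0} ≤ Nat.card ↥(stabilizer G a ⊓ stabilizer G b) := by
      rw [Nat.card_eq_fintype_card, Fintype.card_subtype_compl, Fintype.card_subtype_eq]
      omega
    intro r hr
    obtain ⟨x, hx⟩ := (hf.bijective_of_nat_card_le hle).2 ⟨r, hr⟩
    exact ⟨x, congrArg Subtype.val hx⟩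
  obtain ⟨s, hsa, hsb⟩ := H33.zas_map_pair hZ hab hab.symm
  have hs1 : s • ι 1 ≠ a := fun h => by
    have h2 : ι (1 : K) = s⁻¹ • a := eq_inv_smul_iff.2 h
    rw [show s⁻¹ • a = b by rw [inv_smul_eq_iff, hsb], ← hC.zero] at h2
    exact one_ne_zero (hC.inj h2)
  obtain ⟨α, hα⟩ := hC.surj _ hs1
  have hα0 : α ≠ 0 := fun h => by
    rw [h, hC.zero] at hα
    exact hC.ne 1 (smul_left_cancel s (hα.symm.trans hsa.symm))
  obtain ⟨x0, hx0⟩ := hsurj α⁻¹ (inv_ne_zero hα0)
  obtain ⟨hxa, hxb⟩ := mem_two.1 x0.2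
  have hs : ∀ r : K, r ≠ 0 → ((x0 : G) * s) • ι r = ι (-r⁻¹) := by
    intro r hr
    obtain ⟨x, hx⟩ := hsurj r hr
    have hrw : ι r = (x : G) • ι 1 := by rw [hC.mul_apply, hx, mul_one]
    rw [hrw, ← mul_smul, show (x0 : G) * s * x = (x0 : G) * ((x⁻¹ : ↥(stabilizer G a ⊓ stabilizer G b)) : G) * s by
        rw [Subgroup.coe_inv, ← hinv s hsa hsb x x.2]; group,
      mul_smul, mul_smul, ← hα, hC.mul_apply, hC.mul_apply, hC.map_inv, hx, hx0, CharTwo.neg_eq]
    congr 1
    field_simp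
  have hcard : Nat.card (Matrix.ProjectiveSpecialLinearGroup (Fin 2) K) = Nat.card G := by
    have h1 := Linear.card_PSL_two_mul (F := K)
    obtain ⟨j, hj⟩ := heven
    have hg : Nat.gcd 2 (Fintype.card K - 1) = 1 := by
      have := Nat.card_pos (α := H)
      rw [Nat.coprime_iff_gcd_eq_one.symm, Nat.Prime.coprime_iff_not_dvd Nat.prime_two]
      omega
    rw [hg, one_mul, hKc] at h1
    rw [h1, hH.card_group hZ hab, ← hH.card, ← he]
    have h2 : (Nat.card ↥(stabilizer G a ⊓ stabilizer G b) + 1) ^ 2 - 1 =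
        Nat.card ↥(stabilizer G a ⊓ stabilizer G b) *
          (Nat.card ↥(stabilizer G a ⊓ stabilizer G b) + 2) := Nat.sub_eq_of_eq_add (by ring)
    rw [h2]
    ring
  obtain ⟨F, hF1, hF2, hFchar, hFc, hiso⟩ := coord_equiv hZ hab hC
    (s := (x0 : G) * s) (by rw [mul_smul, hsa, hxb]) (by rw [mul_smul, hsb, hxa]) hs
    (fun x => hsq _) hcard
  exact ⟨F, hF1, hF2, hFchar.trans hchar, hFc.trans hKc, hiso⟩

end Cfsg.Agent.H28.Zass
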