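import Cfsg.Agent.H28.ZTOdd
import Cfsg.Agent.H28.ZTSetup
import Cfsg.Agent.H28.ZassPSL

/-!
Simple Zassenhaus groups, and the shape of the kernel when `h - 1 > 2 e` (Feit, Ito).
-/

set_option autoImplicit false

namespace Cfsg.Agent.H28.Zass

open MulAction

universe u

variable {G : Type u} {Ω : Type*} [Group G] [MulAction G Ω] [Finite Ω] {a b : Ω} {H : Subgroup G}

theorem simple_feit_two [IsSimpleGroup G] (hH : IsKer a H) (hZ : Cfsg.IsZassenhausGroup G Ω)
    (hab : a ≠ b) (hodd : Odd (Nat.card ↥(stabilizer G a ⊓ stabilizer G b)))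
    (hlt : 2 * Nat.card ↥(stabilizer G a ⊓ stabilizer G b) < Nat.card H - 1) :
    IsPGroup 2 H ∧ (∃ u v : H, u * v ≠ v * u) ∧
      (commutator H).index ≤ 4 * Nat.card ↥(stabilizer G a ⊓ stabilizer G b) ^ 2 + 1 := by
  classical
  have := finite_of_zas hZ
  have := Fintype.ofFinite G
  have := Fintype.ofFinite (stabilizer G a)
  obtain ⟨hcyc, -, hinv⟩ := inverted_of_simple hZ hab hodd
  obtain ⟨p, hp, hpH, hnab, hidx⟩ := feit_odd hH hZ hab hcyc hodd hinv hlt
  obtain ⟨u, v, huv⟩ : ∃ u v : H, u * v ≠ v * u := by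
    by_contra hc
    push Not at hc
    exact hnab ⟨⟨hc⟩⟩
  rcases hp.eq_two_or_odd' with rfl | hpo
  · exact ⟨hpH, ⟨u, v, huv⟩, hidx⟩
  · exfalso
    have := Fact.mk hp
    obtain ⟨k, hk⟩ := hpH.exists_card_eq
    exact ZT.odd_false hH hZ hab hcyc hodd hinv (hk ▸ hpo.pow) hp hpH
      ⟨u, u.2, v, v.2, fun h => huv (Subtype.ext h)⟩

/-- The kernel for odd `e` and `2 e < h - 1`. -/
theorem feit_two (hH : IsKer a H) (hZ : Cfsg.IsZassenhausGroup G Ω) (hab : a ≠ b)
    (hodd : Odd (Nat.card ↥(stabilizer G a ⊓ stabilizer G b)))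
    (hlt : 2 * Nat.card ↥(stabilizer G a ⊓ stabilizer G b) < Nat.card H - 1) :
    IsPGroup 2 H ∧ (∃ u v : H, u * v ≠ v * u) ∧
      (commutator H).index ≤ 4 * Nat.card ↥(stabilizer G a ⊓ stabilizer G b) ^ 2 + 1 := by
  have := finite_of_zas hZ
  obtain ⟨M, -, -, hMs, hZM, hker⟩ := exists_simple_normal hZ
  have hle := hker a H hH
  let f : ↥(stabilizer M a ⊓ stabilizer M b) →* ↥(stabilizer G a ⊓ stabilizer G b) :=
    { toFun := fun x => ⟨((x : M) : G), mem_two.2
        ⟨(mem_two.1 x.2).1, (mem_two.1 x.2).2⟩⟩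
      map_one' := rfl
      map_mul' := fun _ _ => rfl }
  have hf : Function.Injective f := fun x y h =>
    Subtype.ext (Subtype.ext (congrArg (fun z : ↥(stabilizer G a ⊓ stabilizer G b) => (z : G)) h))
  have hdvd := Subgroup.card_dvd_of_injective f hf
  have hle' := Nat.le_of_dvd Nat.card_pos hdvd
  let e : (H.subgroupOf M) ≃* H := Subgroup.subgroupOfEquivOfLe hle
  obtain ⟨h2, ⟨u, v, huv⟩, hidx⟩ := simple_feit_two (hH.sub M hle) hZM hab (hodd.of_dvd_nat hdvd)
    (by rw [Nat.card_congr e.toEquiv]; omega)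
  refine ⟨h2.of_equiv e, ⟨e u, e v, fun h => huv (e.injective (by rw [map_mul, map_mul, h]))⟩, ?_⟩
  have hc : (commutator H).index = (commutator (H.subgroupOf M)).index := by
    have := Fintype.ofFinite H
    have := Fintype.ofFinite (H.subgroupOf M)
    rw [← Frob.card_hom_eq, ← Frob.card_hom_eq]
    exact Nat.card_congr
      { toFun := fun l => l.comp e.toMonoidHom
        invFun := fun l => l.comp e.symm.toMonoidHom
        left_inv := fun l => MonoidHom.ext fun x => by simp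
        right_inv := fun l => MonoidHom.ext fun x => by simp }
  rw [hc]
  exact hidx.trans (by gcongr)

end Cfsg.Agent.H28.Zass
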