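import Mathlib
import Cfsg.Prelude.Def_LieExceptional

/-!
Basic theory of (B,N)-pairs: words, length modulo `B ⊓ N`, Bruhat decomposition,
the exchange and deletion properties, and parabolic subgroups.
-/

set_option autoImplicit false

namespace Cfsg.Agent.H28

variable {G : Type*} [Group G] (P : Cfsg.BNPair G)

/-- The double coset `B g B`. -/
def dc (g : G) : Set G := DoubleCoset.doubleCoset g (P.B : Set G) P.B

theorem mem_dc {g x : G} : x ∈ dc P g ↔ ∃ a ∈ P.B, ∃ b ∈ P.B, x = a * g * b :=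
  DoubleCoset.mem_doubleCoset

theorem self_mem_dc (g : G) : g ∈ dc P g := DoubleCoset.mem_doubleCoset_self _ _ _

variable {P}

theorem dc_eq_of_mem {g x : G} (h : x ∈ dc P g) : dc P x = dc P g :=
  DoubleCoset.doubleCoset_eq_of_mem h

theorem dc_mul_right (g : G) {b : G} (hb : b ∈ P.B) : dc P (g * b) = dc P g :=
  dc_eq_of_mem ((mem_dc P).2 ⟨1, one_mem _, b, hb, by group⟩)

theorem dc_mul_left (g : G) {b : G} (hb : b ∈ P.B) : dc P (b * g) = dc P g :=
  dc_eq_of_mem ((mem_dc P).2 ⟨b, hb, 1, one_mem _, by group⟩)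

theorem mul_mem_dc {g x a b : G} (ha : a ∈ P.B) (hx : x ∈ dc P g) (hb : b ∈ P.B) :
    a * x * b ∈ dc P g := by
  obtain ⟨c, hc, d, hd, rfl⟩ := (mem_dc P).1 hx
  exact (mem_dc P).2 ⟨a * c, mul_mem ha hc, d * b, mul_mem hd hb, by group⟩

theorem left_mem_dc {g x a : G} (ha : a ∈ P.B) (hx : x ∈ dc P g) : a * x ∈ dc P g := by
  simpa using mul_mem_dc ha hx (one_mem P.B)

theorem right_mem_dc {g x b : G} (hx : x ∈ dc P g) (hb : b ∈ P.B) : x * b ∈ dc P g := by
  simpa using mul_mem_dc (one_mem P.B) hx hb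

theorem inv_mem_dc {g x : G} (hx : x ∈ dc P g) : x⁻¹ ∈ dc P g⁻¹ := by
  obtain ⟨c, hc, d, hd, rfl⟩ := (mem_dc P).1 hx
  exact (mem_dc P).2 ⟨d⁻¹, inv_mem hd, c⁻¹, inv_mem hc, by group⟩

theorem mem_dc_one {x : G} : x ∈ dc P 1 ↔ x ∈ P.B := by
  rw [mem_dc]
  constructor
  · rintro ⟨a, ha, b, hb, rfl⟩
    simpa using mul_mem ha hb
  · intro hx
    exact ⟨x, hx, 1, one_mem _, by group⟩

theorem dc_of_mem_B {g : G} (hg : g ∈ P.B) : dc P g = dc P 1 :=
  dc_eq_of_mem (mem_dc_one.2 hg)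

/-! ### Elements of `S` and conjugation by `N` -/

theorem S_mem_N {s : G} (hs : s ∈ P.S) : s ∈ P.N := P.subset hs

theorem conj_T {n t : G} (hn : n ∈ P.N) (ht : t ∈ P.B ⊓ P.N) : n * t * n⁻¹ ∈ P.B ⊓ P.N :=
  Subgroup.mem_inf.2 ⟨P.conj_mem n hn t ht, mul_mem (mul_mem hn (Subgroup.mem_inf.1 ht).2) (inv_mem hn)⟩

theorem conj_T' {n t : G} (hn : n ∈ P.N) (ht : t ∈ P.B ⊓ P.N) : n⁻¹ * t * n ∈ P.B ⊓ P.N := by
  simpa using conj_T (inv_mem hn) ht

theorem sq_mem_T {s : G} (hs : s ∈ P.S) : s * s ∈ P.B ⊓ P.N :=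
  Subgroup.mem_inf.2 ⟨P.sq_mem s hs, mul_mem (S_mem_N hs) (S_mem_N hs)⟩

theorem sq_inv_mem_B {s : G} (hs : s ∈ P.S) : (s * s)⁻¹ ∈ P.B := inv_mem (P.sq_mem s hs)

theorem exists_conj_not_mem {s : G} (hs : s ∈ P.S) : ∃ b ∈ P.B, s * b * s ∉ P.B := by
  by_contra hcon
  push Not at hcon
  apply P.conj_ne s hs
  apply Set.Subset.antisymm
  · rintro x ⟨b, hb, rfl⟩
    exact hcon b hb
  · intro x hx
    refine ⟨s⁻¹ * x * s⁻¹, ?_, by group⟩
    have h1 := hcon ((s * s)⁻¹ * x) (mul_mem (sq_inv_mem_B hs) hx)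
    have h2 : s⁻¹ * x * s⁻¹ = s * ((s * s)⁻¹ * x) * s * (s * s)⁻¹ := by group
    rw [SetLike.mem_coe, h2]
    exact mul_mem h1 (sq_inv_mem_B hs)

theorem S_not_mem_B {s : G} (hs : s ∈ P.S) : s ∉ P.B := fun h => by
  obtain ⟨b, hb, hb'⟩ := exists_conj_not_mem hs
  exact hb' (mul_mem (mul_mem h hb) h)

theorem dc_inv_S {s : G} (hs : s ∈ P.S) : dc P s⁻¹ = dc P s := by
  have h : s⁻¹ = s * (s * s)⁻¹ := by group
  rw [h, dc_mul_right _ (sq_inv_mem_B hs)]

theorem axiom_left {s n b : G} (hs : s ∈ P.S) (hn : n ∈ P.N) (hb : b ∈ P.B) :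
    s * b * n ∈ dc P (s * n) ∨ s * b * n ∈ dc P n :=
  P.mul_mem_union s hs n hn b hb

theorem exists_conj_mem_dc {s : G} (hs : s ∈ P.S) : ∃ b ∈ P.B, s * b * s ∈ dc P s := by
  obtain ⟨b, hb, hb'⟩ := exists_conj_not_mem hs
  refine ⟨b, hb, (axiom_left hs (S_mem_N hs) hb).resolve_left fun h => hb' ?_⟩
  rwa [dc_of_mem_B (P.sq_mem s hs), mem_dc_one] at h

theorem axiom_right {s n b : G} (hs : s ∈ P.S) (hn : n ∈ P.N) (hb : b ∈ P.B) :
    n * b * s ∈ dc P (n * s) ∨ n * b * s ∈ dc P n := by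
  have h := axiom_left hs (inv_mem hn) (mul_mem (sq_inv_mem_B hs) (inv_mem hb))
  have e : s * ((s * s)⁻¹ * b⁻¹) * n⁻¹ = (n * b * s)⁻¹ := by group
  rw [e] at h
  rcases h with h | h
  · left
    have h' := inv_mem_dc h
    rw [inv_inv] at h'
    have e2 : (s * n⁻¹)⁻¹ = n * s * (s * s)⁻¹ := by group
    rwa [e2, dc_mul_right _ (sq_inv_mem_B hs)] at h'
  · right
    simpa using inv_mem_dc h

/-! ### Words and length -/

variable (P)

/-- `L` is a word in the distinguished generators representing `n` modulo `B`. -/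
def Rep (L : List G) (n : G) : Prop := (∀ x ∈ L, x ∈ P.S) ∧ L.prod⁻¹ * n ∈ P.B

open Classical in
/-- The length of an element of `N` modulo `B ⊓ N`. -/
noncomputable def len (n : G) : ℕ := sInf {k | ∃ L : List G, Rep P L n ∧ L.length = k}

variable {P}

theorem prod_mem_N {L : List G} (hL : ∀ x ∈ L, x ∈ P.S) : L.prod ∈ P.N :=
  list_prod_mem fun x hx => S_mem_N (hL x hx)

theorem Rep.mem_T {L : List G} {n : G} (h : Rep P L n) (hn : n ∈ P.N) :
    L.prod⁻¹ * n ∈ P.B ⊓ P.N :=
  Subgroup.mem_inf.2 ⟨h.2, mul_mem (inv_mem (prod_mem_N h.1)) hn⟩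

theorem Rep.congr {L : List G} {n n' : G} (h : Rep P L n) (h' : n⁻¹ * n' ∈ P.B) :
    Rep P L n' := by
  refine ⟨h.1, ?_⟩
  have e : L.prod⁻¹ * n' = (L.prod⁻¹ * n) * (n⁻¹ * n') := by group
  rw [e]
  exact mul_mem h.2 h'

theorem Rep.cons {L : List G} {s n : G} (h : Rep P L n) (hs : s ∈ P.S) :
    Rep P (s :: L) (s * n) := by
  refine ⟨by simpa [hs] using h.1, ?_⟩
  have e : (s :: L).prod⁻¹ * (s * n) = L.prod⁻¹ * n := by simp [List.prod_cons, mul_assoc]
  rw [e]
  exact h.2

theorem closure_sup_T (J : Set G) :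
    Subgroup.closure J ⊔ (P.B ⊓ P.N) = Subgroup.closure (J ∪ ((P.B ⊓ P.N : Subgroup G) : Set G)) := by
  rw [Subgroup.closure_union, Subgroup.closure_eq]

theorem sup_T_le_N {J : Set G} (hJ : J ⊆ P.S) : Subgroup.closure J ⊔ (P.B ⊓ P.N) ≤ P.N :=
  sup_le ((Subgroup.closure_le _).2 (hJ.trans P.subset)) inf_le_right

theorem exists_rep_of_mem {J : Set G} (hJ : J ⊆ P.S) {n : G}
    (hn : n ∈ Subgroup.closure J ⊔ (P.B ⊓ P.N)) : ∃ L, (∀ x ∈ L, x ∈ J) ∧ Rep P L n := by
  suffices H : ∃ L : List G, (∀ x ∈ L, x ∈ J) ∧ L.prod⁻¹ * n ∈ P.B ⊓ P.N by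
    obtain ⟨L, hL, h⟩ := H
    exact ⟨L, hL, fun x hx => hJ (hL x hx), h.1⟩
  rw [closure_sup_T] at hn
  induction hn using Subgroup.closure_induction_left with
  | one => exact ⟨[], by simp, by simp⟩
  | mul_left x hx y hy ih =>
    obtain ⟨L, hL, h⟩ := ih
    rcases hx with hx | hx
    · exact ⟨x :: L, by simpa [hx] using hL, by simpa [List.prod_cons, mul_assoc] using h⟩
    · refine ⟨L, hL, ?_⟩
      have hp : L.prod ∈ P.N := prod_mem_N fun z hz => hJ (hL z hz)
      have e : L.prod⁻¹ * (x * y) = (L.prod⁻¹ * x * L.prod) * (L.prod⁻¹ * y) := by group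
      rw [e]
      exact mul_mem (conj_T' hp hx) h
  | inv_mul_cancel x hx y hy ih =>
    obtain ⟨L, hL, h⟩ := ih
    have hp : L.prod ∈ P.N := prod_mem_N fun z hz => hJ (hL z hz)
    rcases hx with hx | hx
    · refine ⟨x :: L, by simpa [hx] using hL, ?_⟩
      have e : (x :: L).prod⁻¹ * (x⁻¹ * y) = (L.prod⁻¹ * (x * x)⁻¹ * L.prod) * (L.prod⁻¹ * y) := by
        simp [List.prod_cons]; group
      rw [e]
      exact mul_mem (conj_T' hp (inv_mem (sq_mem_T (hJ hx)))) h
    · refine ⟨L, hL, ?_⟩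
      have e : L.prod⁻¹ * (x⁻¹ * y) = (L.prod⁻¹ * x⁻¹ * L.prod) * (L.prod⁻¹ * y) := by group
      rw [e]
      exact mul_mem (conj_T' hp (inv_mem hx)) h

theorem mem_sup_of_rep {J : Set G} {L : List G} {n : G} (hn : n ∈ P.N) (hL : ∀ x ∈ L, x ∈ J)
    (h : Rep P L n) : n ∈ Subgroup.closure J ⊔ (P.B ⊓ P.N) := by
  have e : n = L.prod * (L.prod⁻¹ * n) := by group
  rw [e]
  exact mul_mem (Subgroup.mem_sup_left (list_prod_mem fun x hx => Subgroup.subset_closure (hL x hx)))
    (Subgroup.mem_sup_right (h.mem_T hn))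

theorem exists_rep {n : G} (hn : n ∈ P.N) : ∃ L, Rep P L n := by
  rw [← P.closure_sup] at hn
  obtain ⟨L, -, h⟩ := exists_rep_of_mem (le_refl P.S) hn
  exact ⟨L, h⟩

theorem len_le {L : List G} {n : G} (h : Rep P L n) : len P n ≤ L.length :=
  Nat.sInf_le ⟨L, h, rfl⟩

theorem exists_red {n : G} (hn : n ∈ P.N) : ∃ L, Rep P L n ∧ L.length = len P n := by
  obtain ⟨L, h⟩ := exists_rep hn
  exact Nat.sInf_mem (s := {k | ∃ L : List G, Rep P L n ∧ L.length = k}) ⟨_, L, h, rfl⟩

theorem len_congr {n n' : G} (h : n⁻¹ * n' ∈ P.B) : len P n' = len P n := by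
  have h' : n'⁻¹ * n ∈ P.B := by
    have e : n'⁻¹ * n = (n⁻¹ * n')⁻¹ := by group
    rw [e]; exact inv_mem h
  unfold len
  congr 1
  ext k
  exact ⟨fun ⟨L, hL, hk⟩ => ⟨L, hL.congr h', hk⟩, fun ⟨L, hL, hk⟩ => ⟨L, hL.congr h, hk⟩⟩

theorem len_one : len P 1 = 0 := Nat.le_zero.1 (len_le (L := []) ⟨by simp, by simp⟩)

theorem mem_B_of_len_eq_zero {n : G} (hn : n ∈ P.N) (h : len P n = 0) : n ∈ P.B := by
  obtain ⟨L, hL, hl⟩ := exists_red hn
  rw [h] at hl
  rw [List.length_eq_zero_iff] at hl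
  subst hl
  simpa using hL.2

theorem len_eq_zero_of_mem_B {n : G} (h : n ∈ P.B) : len P n = 0 := by
  rw [len_congr (n := 1) (by simpa using h), len_one]

theorem len_S {s : G} (hs : s ∈ P.S) : len P s = 1 := by
  have h1 : len P s ≤ 1 := len_le (L := [s]) ⟨by simpa using hs, by simp⟩
  by_contra h
  exact S_not_mem_B hs (mem_B_of_len_eq_zero (S_mem_N hs) (by omega))

theorem len_cons_le {s n : G} (hs : s ∈ P.S) (hn : n ∈ P.N) :
    len P (s * n) ≤ len P n + 1 := by
  obtain ⟨L, hL, hl⟩ := exists_red hn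
  simpa [hl] using len_le (hL.cons hs)

theorem smul_smul_equiv {s n : G} (hs : s ∈ P.S) (hn : n ∈ P.N) :
    n⁻¹ * (s * (s * n)) ∈ P.B := by
  have e : n⁻¹ * (s * (s * n)) = n⁻¹ * (s * s) * n := by group
  rw [e]
  exact (conj_T' hn (sq_mem_T hs)).1

theorem len_smul_smul {s n : G} (hs : s ∈ P.S) (hn : n ∈ P.N) :
    len P (s * (s * n)) = len P n := len_congr (smul_smul_equiv hs hn)

theorem len_le_cons {s n : G} (hs : s ∈ P.S) (hn : n ∈ P.N) :
    len P n ≤ len P (s * n) + 1 := by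
  rw [← len_smul_smul hs hn]
  exact len_cons_le hs (mul_mem (S_mem_N hs) hn)

theorem rep_split_last {L : List G} {z n : G} (hn : n ∈ P.N) (h : Rep P (L ++ [z]) n)
    (hr : (L ++ [z]).length = len P n) :
    z ∈ P.S ∧ L.prod ∈ P.N ∧ Rep P L L.prod ∧ L.length = len P L.prod ∧
      (L.prod * z)⁻¹ * n ∈ P.B := by
  have hz : z ∈ P.S := h.1 z (by simp)
  have hL : ∀ x ∈ L, x ∈ P.S := fun x hx => h.1 x (by simp [hx])
  have hrep : Rep P L L.prod := ⟨hL, by simp⟩
  have hmem := prod_mem_N hL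
  have h2 : (L.prod * z)⁻¹ * n ∈ P.B := by simpa using h.2
  refine ⟨hz, hmem, hrep, le_antisymm ?_ (len_le hrep), h2⟩
  obtain ⟨M, hM, hM'⟩ := exists_red hmem
  have hrep2 : Rep P (M ++ [z]) n := by
    refine ⟨?_, ?_⟩
    · intro x hx
      simp only [List.mem_append, List.mem_singleton] at hx
      rcases hx with hx | rfl
      · exact hM.1 x hx
      · exact hz
    · have e : (M ++ [z]).prod⁻¹ * n =
          (z⁻¹ * (M.prod⁻¹ * L.prod) * z) * ((L.prod * z)⁻¹ * n) := by
        simp; group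
      rw [e]
      exact mul_mem (conj_T' (S_mem_N hz) (hM.mem_T hmem)).1 h2
  have := len_le hrep2
  simp only [List.length_append, List.length_singleton] at this hr
  omega

theorem exists_rep_last {n : G} (hn : n ∈ P.N) (h0 : len P n ≠ 0) :
    ∃ m z, m ∈ P.N ∧ z ∈ P.S ∧ len P m + 1 = len P n ∧ (m * z)⁻¹ * n ∈ P.B := by
  obtain ⟨L, hL, hl⟩ := exists_red hn
  rcases List.eq_nil_or_concat L with rfl | ⟨L', z, rfl⟩
  · simp at hl; omega
  · rw [List.concat_eq_append] at hL hl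
    obtain ⟨hz, hm, -, hl', h2⟩ := rep_split_last hn hL hl
    refine ⟨_, z, hm, hz, ?_, h2⟩
    simp only [List.length_append, List.length_singleton] at hl
    omega

/-! ### Bruhat cells -/

theorem dc_eq_of_equiv {n n' : G} (h : n⁻¹ * n' ∈ P.B) : dc P n' = dc P n :=
  dc_eq_of_mem ((mem_dc P).2 ⟨1, one_mem _, _, h, by group⟩)

private theorem dc_inj_aux : ∀ d : ℕ, ∀ n n' : G, n ∈ P.N → n' ∈ P.N → len P n = d →
    d ≤ len P n' → n ∈ dc P n' → n⁻¹ * n' ∈ P.B := by
  intro d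
  induction d with
  | zero =>
    intro n n' hn hn' hd _ h
    have hnB := mem_B_of_len_eq_zero hn hd
    have h' : n' ∈ P.B := by
      have := self_mem_dc P n'
      rwa [← dc_eq_of_mem h, dc_of_mem_B hnB, mem_dc_one] at this
    exact mul_mem (inv_mem hnB) h'
  | succ d ih =>
    intro n n' hn hn' hd hle h
    obtain ⟨L, hL, hl⟩ := exists_red hn
    rw [hd] at hl
    match L, hl, hL with
    | s :: L, hl, hL =>
      have hs : s ∈ P.S := hL.1 s (by simp)
      have hm : L.prod ∈ P.N := prod_mem_N fun x hx => hL.1 x (by simp [hx])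
      have hmd : len P L.prod ≤ d := by
        have := len_le (n := L.prod) (L := L) ⟨fun x hx => hL.1 x (by simp [hx]), by simp⟩
        simp at hl; omega
      have hnm : (s * L.prod)⁻¹ * n ∈ P.B := by simpa using hL.2
      have hmd' : d ≤ len P L.prod := by
        have := len_cons_le hs hm
        rw [← len_congr hnm, hd] at this
        omega
      have hmd'' : len P L.prod = d := le_antisymm hmd hmd'
      have h1 : s * L.prod ∈ dc P n' := by
        rw [← dc_eq_of_mem h, dc_eq_of_equiv hnm]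
        exact self_mem_dc _ _
      obtain ⟨b1, hb1, b2, hb2, he⟩ := (mem_dc P).1 h1
      have he2 : L.prod = (s * ((s * s)⁻¹ * b1) * n') * b2 := by
        have : L.prod = s⁻¹ * (s * L.prod) := by group
        rw [this, he]; group
      have hsn' : s * n' ∈ P.N := mul_mem (S_mem_N hs) hn'
      rcases axiom_left hs hn' (mul_mem (sq_inv_mem_B hs) hb1) with h3 | h3
      · have h4 : L.prod ∈ dc P (s * n') := by rw [he2]; exact right_mem_dc h3 hb2
        have hle' : d ≤ len P (s * n') := by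
          have := len_le_cons hs hn'
          omega
        have h5 := ih _ _ hm hsn' hmd'' hle' h4
        have e2 : n⁻¹ * n' = ((s * L.prod)⁻¹ * n)⁻¹ * ((L.prod⁻¹ * s⁻¹) * n') := by group
        have e3 : (L.prod⁻¹ * s⁻¹) * n' = (L.prod⁻¹ * (s * n')) * (n'⁻¹ * (s * (s * n')))⁻¹ := by
          group
        rw [e2, e3]
        exact mul_mem (inv_mem hnm) (mul_mem h5 (inv_mem (smul_smul_equiv hs hn')))
      · have h4 : L.prod ∈ dc P n' := by rw [he2]; exact right_mem_dc h3 hb2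
        have h5 := ih _ _ hm hn' hmd'' (by omega) h4
        have := len_congr h5
        omega

theorem dc_inj {n n' : G} (hn : n ∈ P.N) (hn' : n' ∈ P.N) (h : n ∈ dc P n') :
    n⁻¹ * n' ∈ P.B := by
  rcases le_total (len P n) (len P n') with hl | hl
  · exact dc_inj_aux _ n n' hn hn' rfl hl h
  · have h' : n' ∈ dc P n := by rw [dc_eq_of_mem h]; exact self_mem_dc _ _
    have := inv_mem (dc_inj_aux _ n' n hn' hn rfl hl h')
    simpa using this

theorem dc_inj' {n n' x : G} (hn : n ∈ P.N) (hn' : n' ∈ P.N) (h : x ∈ dc P n)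
    (h' : x ∈ dc P n') : n⁻¹ * n' ∈ P.B :=
  dc_inj hn hn' (by rw [← dc_eq_of_mem h', dc_eq_of_mem h]; exact self_mem_dc _ _)

theorem not_equiv_smul {s n : G} (hs : s ∈ P.S) (hn : n ∈ P.N) : n⁻¹ * (s * n) ∉ P.B := by
  intro h
  have h' : n⁻¹ * (s * n) ∈ P.B ⊓ P.N := Subgroup.mem_inf.2 ⟨h, mul_mem (inv_mem hn) (mul_mem (S_mem_N hs) hn)⟩
  have := (conj_T hn h').1
  have e : n * (n⁻¹ * (s * n)) * n⁻¹ = s := by group
  rw [e] at this
  exact S_not_mem_B hs this

theorem mul_mem_dc_of_len_le : ∀ (d : ℕ) {s n : G}, s ∈ P.S → n ∈ P.N → len P n = d →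
    d ≤ len P (s * n) → ∀ b ∈ P.B, s * b * n ∈ dc P (s * n) := by
  intro d
  induction d with
  | zero =>
    intro s n hs hn hd _ b hb
    have hnB := mem_B_of_len_eq_zero hn hd
    exact (mem_dc P).2 ⟨1, one_mem _, n⁻¹ * b * n, mul_mem (mul_mem (inv_mem hnB) hb) hnB, by group⟩
  | succ d ih =>
    intro s n hs hn hd hle b hb
    obtain ⟨m, z, hm, hz, hml, hmz⟩ := exists_rep_last hn (by omega)
    have hmd : len P m = d := by omega
    have hmzN : m * z ∈ P.N := mul_mem hm (S_mem_N hz)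
    -- `s * n` is not shorter, hence neither is `s * m`
    have hsm : d ≤ len P (s * m) := by
      by_contra hc
      have h1 : len P (s * n) ≤ len P (s * m) + 1 := by
        obtain ⟨L, hL, hl⟩ := exists_red (mul_mem (S_mem_N hs) hm)
        have : Rep P (L ++ [z]) (s * n) := by
          refine ⟨?_, ?_⟩
          · intro x hx
            simp only [List.mem_append, List.mem_singleton] at hx
            rcases hx with hx | rfl
            · exact hL.1 x hx
            · exact hz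
          · have e : (L ++ [z]).prod⁻¹ * (s * n) =
                (z⁻¹ * (L.prod⁻¹ * (s * m)) * z) * ((m * z)⁻¹ * n) := by simp; group
            rw [e]
            exact mul_mem (conj_T' (S_mem_N hz) (hL.mem_T (mul_mem (S_mem_N hs) hm))).1 hmz
        simpa [hl] using len_le this
      omega
    obtain ⟨b1, hb1, b2, hb2, he⟩ := (mem_dc P).1 (ih hs hm hmd hsm b hb)
    refine (axiom_left hs hn hb).resolve_right fun hbad => ?_
    have h1 : s * b * (m * z) = b1 * (s * m * b2 * z) := by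
      have : s * b * (m * z) = (s * b * m) * z := by group
      rw [this, he]; group
    have h2 : s * b * (m * z) ∈ dc P n := by
      have : s * b * (m * z) = s * b * n * ((m * z)⁻¹ * n)⁻¹ := by group
      rw [this]
      exact right_mem_dc hbad (inv_mem hmz)
    have h3 : s * m * b2 * z ∈ dc P n := by
      have : s * m * b2 * z = b1⁻¹ * (s * b * (m * z)) := by rw [h1]; group
      rw [this]
      exact left_mem_dc (inv_mem hb1) h2
    have hsmN : s * m ∈ P.N := mul_mem (S_mem_N hs) hm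
    rcases axiom_right hz hsmN hb2 with h4 | h4
    · have h5 := dc_inj' hn (mul_mem hsmN (S_mem_N hz)) h3 h4
      have : n⁻¹ * (s * n) ∈ P.B := by
        have e : n⁻¹ * (s * n) = (n⁻¹ * (s * m * z)) * ((m * z)⁻¹ * n) := by group
        rw [e]
        exact mul_mem h5 hmz
      exact not_equiv_smul hs hn this
    · have h5 := dc_inj' hn hsmN h3 h4
      have hlen : len P (s * n) = d := by
        have h6 : (s * n)⁻¹ * (s * (s * m)) ∈ P.B := by
          have e : (s * n)⁻¹ * (s * (s * m)) = n⁻¹ * (s * m) := by group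
          rw [e]; exact h5
        rw [← len_congr h6, len_smul_smul hs hm, hmd]
      omega

theorem len_cases {s n : G} (hs : s ∈ P.S) (hn : n ∈ P.N) :
    len P (s * n) = len P n + 1 ∨ len P (s * n) + 1 = len P n := by
  have h1 := len_cons_le hs hn
  have h2 := len_le_cons hs hn
  suffices len P (s * n) ≠ len P n by omega
  intro h
  have hsn : s * n ∈ P.N := mul_mem (S_mem_N hs) hn
  obtain ⟨b, hb, hb'⟩ := exists_conj_mem_dc hs
  obtain ⟨b1, hb1, b2, hb2, he⟩ := (mem_dc P).1 hb'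
  have hA := mul_mem_dc_of_len_le _ hs hn rfl h.ge b2 hb2
  have hA' : s * b * (s * n) ∈ dc P (s * n) := by
    have : s * b * (s * n) = b1 * (s * b2 * n) := by
      have : s * b * (s * n) = (s * b * s) * n := by group
      rw [this, he]; group
    rw [this]
    exact left_mem_dc hb1 hA
  have hB' := mul_mem_dc_of_len_le _ hs hsn rfl (by rw [len_smul_smul hs hn, h]) b hb
  rw [dc_eq_of_equiv (smul_smul_equiv hs hn)] at hB'
  exact not_equiv_smul hs hn (dc_inj' hn hsn hB' hA')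

theorem exists_mem_dc_of_descent {s n : G} (hs : s ∈ P.S) (hn : n ∈ P.N)
    (h : len P (s * n) < len P n) : ∃ b ∈ P.B, s * b * n ∈ dc P n := by
  have hsn : s * n ∈ P.N := mul_mem (S_mem_N hs) hn
  obtain ⟨b, hb, hb'⟩ := exists_conj_mem_dc hs
  obtain ⟨b1, hb1, b2, hb2, he⟩ := (mem_dc P).1 hb'
  have hA := mul_mem_dc_of_len_le _ hs hsn rfl (by rw [len_smul_smul hs hn]; omega) b2 hb2
  rw [dc_eq_of_equiv (smul_smul_equiv hs hn)] at hA
  have h1 : s * b * (s * (s * n)) = b1 * (s * b2 * (s * n)) := by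
    have : s * b * (s * (s * n)) = (s * b * s) * (s * n) := by group
    rw [this, he]; group
  refine ⟨b * (s * s), mul_mem hb (P.sq_mem s hs), ?_⟩
  have : s * (b * (s * s)) * n = s * b * (s * (s * n)) := by group
  rw [this, h1]
  exact left_mem_dc hb1 hA

theorem mem_of_descent {s n : G} (hs : s ∈ P.S) (hn : n ∈ P.N)
    (h : len P (s * n) < len P n) {H : Subgroup G} (hB : P.B ≤ H)
    (hH : ∀ y ∈ P.B, n * y * n⁻¹ ∈ H) : s ∈ H := by
  obtain ⟨b, hb, hb'⟩ := exists_mem_dc_of_descent hs hn h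
  obtain ⟨x, hx, y, hy, he⟩ := (mem_dc P).1 hb'
  have e : s = x * (n * y * n⁻¹) * b⁻¹ := by
    have : s = s * b * n * (n⁻¹ * b⁻¹) := by group
    rw [this, he]; group
  rw [e]
  exact mul_mem (mul_mem (hB hx) (hH y hy)) (inv_mem (hB hb))

theorem mem_of_reduced : ∀ {L : List G} {n : G}, n ∈ P.N → Rep P L n → L.length = len P n →
    ∀ {H : Subgroup G}, P.B ≤ H → (∀ y ∈ P.B, n * y * n⁻¹ ∈ H) → ∀ x ∈ L, x ∈ H := by
  intro L
  induction L with
  | nil => simp
  | cons s L ih =>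
    intro n hn hrep hl H hB hH
    have hs : s ∈ P.S := hrep.1 s (by simp)
    have hLS : ∀ x ∈ L, x ∈ P.S := fun x hx => hrep.1 x (by simp [hx])
    have hm : s * n ∈ P.N := mul_mem (S_mem_N hs) hn
    have hr2 : Rep P L (s * n) := by
      refine ⟨hLS, ?_⟩
      have hp := prod_mem_N hLS
      have e : L.prod⁻¹ * (s * n) = (L.prod⁻¹ * (s * s) * L.prod) * ((s :: L).prod⁻¹ * n) := by
        simp [List.prod_cons]; group
      rw [e]
      exact mul_mem (conj_T' hp (sq_mem_T hs)).1 hrep.2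
    have h1 := len_le hr2
    have h2 := len_le_cons hs hn
    simp only [List.length_cons] at hl
    have hsH : s ∈ H := mem_of_descent hs hn (by omega) hB hH
    intro x hx
    rcases List.mem_cons.1 hx with rfl | hx
    · exact hsH
    · refine ih hm hr2 (by omega) hB (fun y hy => ?_) x hx
      have e : s * n * y * (s * n)⁻¹ = s * (n * y * n⁻¹) * s⁻¹ := by group
      rw [e]
      exact mul_mem (mul_mem hsH (hH y hy)) (inv_mem hsH)

/-! ### Exchange and deletion -/

theorem exchange : ∀ {L : List G} {s n : G}, s ∈ P.S → n ∈ P.N → Rep P L n →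
    L.length = len P n → len P (s * n) < len P n →
    ∃ L' : List G, L'.Sublist L ∧ L'.length + 1 = L.length ∧ Rep P L' (s * n) := by
  intro L
  induction L using List.reverseRecOn with
  | nil => intro s n _ _ _ hl h; simp at hl; omega
  | append_singleton L z ih =>
    intro s n hs hn hrep hl hlt
    obtain ⟨hz, hm, hrm, hlm, h2⟩ := rep_split_last hn hrep hl
    simp only [List.length_append, List.length_singleton] at hl
    have hsm : s * L.prod ∈ P.N := mul_mem (S_mem_N hs) hm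
    rcases len_cases hs hm with hc | hc
    · refine ⟨L, List.sublist_append_left _ _, by simp, hrm.1, ?_⟩
      obtain ⟨b, hb, hb'⟩ := exists_mem_dc_of_descent hs hn hlt
      obtain ⟨b1, hb1, b2, hb2, he⟩ :=
        (mem_dc P).1 (mul_mem_dc_of_len_le _ hs hm rfl (by omega) b hb)
      have h1 : s * b * (L.prod * z) = b1 * (s * L.prod * b2 * z) := by
        have : s * b * (L.prod * z) = (s * b * L.prod) * z := by group
        rw [this, he]; group
      have h3 : s * L.prod * b2 * z ∈ dc P n := by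
        have : s * L.prod * b2 * z = b1⁻¹ * (s * b * n * ((L.prod * z)⁻¹ * n)⁻¹) := by
          have e : s * b * n * ((L.prod * z)⁻¹ * n)⁻¹ = s * b * (L.prod * z) := by group
          rw [e, h1]; group
        rw [this]
        exact left_mem_dc (inv_mem hb1) (right_mem_dc hb' (inv_mem h2))
      rcases axiom_right hz hsm hb2 with h4 | h4
      · exfalso
        have h5 := dc_inj' hn (mul_mem hsm (S_mem_N hz)) h3 h4
        have : n⁻¹ * (s * n) ∈ P.B := by
          have e : n⁻¹ * (s * n) = (n⁻¹ * (s * L.prod * z)) * ((L.prod * z)⁻¹ * n) := by group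
          rw [e]
          exact mul_mem h5 h2
        exact not_equiv_smul hs hn this
      · have h5 := dc_inj' hn hsm h3 h4
        have e : L.prod⁻¹ * (s * n) =
            (L.prod⁻¹ * (s * (s * L.prod))) * (n⁻¹ * (s * L.prod))⁻¹ := by group
        rw [e]
        exact mul_mem (smul_smul_equiv hs hm) (inv_mem h5)
    · obtain ⟨L', hL', hl', hr'⟩ := ih hs hm hrm hlm (by omega)
      refine ⟨L' ++ [z], hL'.append (List.Sublist.refl _), by simp [hl'], ?_, ?_⟩
      · intro x hx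
        simp only [List.mem_append, List.mem_singleton] at hx
        rcases hx with hx | rfl
        · exact hr'.1 x hx
        · exact hz
      · have e : (L' ++ [z]).prod⁻¹ * (s * n) =
            (z⁻¹ * (L'.prod⁻¹ * (s * L.prod)) * z) * ((L.prod * z)⁻¹ * n) := by simp; group
        rw [e]
        exact mul_mem (conj_T' (S_mem_N hz) (hr'.mem_T hsm)).1 h2

theorem deletion : ∀ {L : List G} {n : G}, n ∈ P.N → Rep P L n → L.length ≠ len P n →
    ∃ L' : List G, L'.Sublist L ∧ L'.length < L.length ∧ Rep P L' n := by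
  intro L
  induction L with
  | nil => intro n hn h hne; have := len_le h; simp at this hne; omega
  | cons s L ih =>
    intro n hn hrep hne
    have hs : s ∈ P.S := hrep.1 s (by simp)
    have hLS : ∀ x ∈ L, x ∈ P.S := fun x hx => hrep.1 x (by simp [hx])
    have hp := prod_mem_N hLS
    have hnm : (s * L.prod)⁻¹ * n ∈ P.B := by simpa using hrep.2
    have hself : Rep P L L.prod := ⟨hLS, by simp⟩
    by_cases hL : L.length = len P L.prod
    · have hlt : len P (s * L.prod) < len P L.prod := by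
        have h1 := len_cases hs hp
        have h2 := len_congr hnm
        have h3 := len_le hrep
        simp only [List.length_cons] at hne h3
        omega
      obtain ⟨L', hL', hl', hr'⟩ := exchange hs hp hself hL hlt
      exact ⟨L', hL'.cons s, by simp only [List.length_cons]; omega, hr'.congr hnm⟩
    · obtain ⟨L', hL', hl', hr'⟩ := ih hp hself hL
      exact ⟨s :: L', hL'.cons_cons s, by simp only [List.length_cons]; omega,
        (hr'.cons hs).congr hnm⟩

theorem exists_red_of_mem {J : Set G} (hJ : J ⊆ P.S) {n : G}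
    (hn : n ∈ Subgroup.closure J ⊔ (P.B ⊓ P.N)) :
    ∃ L, (∀ x ∈ L, x ∈ J) ∧ Rep P L n ∧ L.length = len P n := by
  have hnN : n ∈ P.N := sup_T_le_N hJ hn
  obtain ⟨L, hL, h⟩ := exists_rep_of_mem hJ hn
  induction hk : L.length using Nat.strong_induction_on generalizing L with
  | _ k ih =>
    by_cases hl : L.length = len P n
    · exact ⟨L, hL, h, hl⟩
    · obtain ⟨L', hs, hlt, hr⟩ := deletion hnN h hl
      exact ih L'.length (hk ▸ hlt) L' (fun x hx => hL x (hs.subset hx)) hr rfl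

theorem mem_of_mem_sup {J : Set G} (hJ : J ⊆ P.S) {s : G} (hs : s ∈ P.S)
    (h : s ∈ Subgroup.closure J ⊔ (P.B ⊓ P.N)) : s ∈ J := by
  obtain ⟨L, hL, hr, hl⟩ := exists_red_of_mem hJ h
  rw [len_S hs] at hl
  obtain ⟨x, rfl⟩ := List.length_eq_one_iff.1 hl
  have hx : x ∈ J := hL x (by simp)
  rwa [← P.inj x (hJ hx) s hs (by simpa using hr.2)]

/-! ### Parabolic subgroups -/

theorem mem_parabolic {J : Set G} (hJ : J ⊆ P.S) {g : G} (hg : g ∈ P.parabolic J) :
    ∃ n ∈ Subgroup.closure J ⊔ (P.B ⊓ P.N), g ∈ dc P n := by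
  unfold Cfsg.BNPair.parabolic at hg
  rw [← Subgroup.closure_eq P.B, ← Subgroup.closure_union] at hg
  induction hg using Subgroup.closure_induction_left with
  | one => exact ⟨1, one_mem _, self_mem_dc _ _⟩
  | mul_left x hx y hy ih =>
    obtain ⟨n, hn, hy'⟩ := ih
    rcases hx with hx | hx
    · exact ⟨n, hn, left_mem_dc hx hy'⟩
    · obtain ⟨a, ha, b, hb, rfl⟩ := (mem_dc P).1 hy'
      have e : x * (a * n * b) = x * a * n * b := by group
      rw [e]
      rcases axiom_left (hJ hx) (sup_T_le_N hJ hn) ha with h | h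
      · exact ⟨x * n, mul_mem (Subgroup.mem_sup_left (Subgroup.subset_closure hx)) hn,
          right_mem_dc h hb⟩
      · exact ⟨n, hn, right_mem_dc h hb⟩
  | inv_mul_cancel x hx y hy ih =>
    obtain ⟨n, hn, hy'⟩ := ih
    rcases hx with hx | hx
    · exact ⟨n, hn, left_mem_dc (inv_mem hx) hy'⟩
    · obtain ⟨a, ha, b, hb, rfl⟩ := (mem_dc P).1 hy'
      have e : x⁻¹ * (a * n * b) = x * ((x * x)⁻¹ * a) * n * b := by group
      rw [e]
      rcases axiom_left (hJ hx) (sup_T_le_N hJ hn) (mul_mem (sq_inv_mem_B (hJ hx)) ha) with h | h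
      · exact ⟨x * n, mul_mem (Subgroup.mem_sup_left (Subgroup.subset_closure hx)) hn,
          right_mem_dc h hb⟩
      · exact ⟨n, hn, right_mem_dc h hb⟩

theorem parabolic_S : P.parabolic P.S = ⊤ := by
  rw [eq_top_iff, ← P.sup_eq_top]
  refine sup_le le_sup_left (le_of_eq_of_le P.closure_sup.symm ?_)
  exact sup_le le_sup_right (inf_le_left.trans le_sup_left)

theorem bruhat (g : G) : ∃ n ∈ P.N, g ∈ dc P n := by
  obtain ⟨n, hn, h⟩ := mem_parabolic (le_refl P.S) (g := g) (by rw [parabolic_S]; trivial)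
  exact ⟨n, sup_T_le_N (le_refl _) hn, h⟩

theorem mem_of_mem_parabolic {J : Set G} (hJ : J ⊆ P.S) {s : G} (hs : s ∈ P.S)
    (h : s ∈ P.parabolic J) : s ∈ J := by
  obtain ⟨n, hn, hsn⟩ := mem_parabolic hJ h
  refine mem_of_mem_sup hJ hs ?_
  have h1 := dc_inj (S_mem_N hs) (sup_T_le_N hJ hn) hsn
  have e : s = n * (s⁻¹ * n)⁻¹ := by group
  rw [e]
  exact mul_mem hn (Subgroup.mem_sup_right
    (inv_mem (Subgroup.mem_inf.2 ⟨h1, mul_mem (inv_mem (S_mem_N hs)) (sup_T_le_N hJ hn)⟩)))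

theorem eq_parabolic {M : Subgroup G} (hM : P.B ≤ M) :
    M = P.parabolic {s ∈ P.S | s ∈ M} := by
  refine le_antisymm (fun g hg => ?_) ?_
  · obtain ⟨n, hn, h⟩ := bruhat (P := P) g
    obtain ⟨a, ha, b, hb, rfl⟩ := (mem_dc P).1 h
    have hnM : n ∈ M := by
      have e : n = a⁻¹ * (a * n * b) * b⁻¹ := by group
      rw [e]
      exact mul_mem (mul_mem (inv_mem (hM ha)) hg) (inv_mem (hM hb))
    obtain ⟨L, hL, hl⟩ := exists_red hn
    have hLM := mem_of_reduced hn hL hl hM
      (fun y hy => mul_mem (mul_mem hnM (hM hy)) (inv_mem hnM))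
    have h1 : n ∈ P.parabolic {s ∈ P.S | s ∈ M} := by
      have e : n = L.prod * (L.prod⁻¹ * n) := by group
      rw [e]
      exact mul_mem (Subgroup.mem_sup_right
        (list_prod_mem fun x hx => Subgroup.subset_closure ⟨hL.1 x hx, hLM x hx⟩))
        (Subgroup.mem_sup_left hL.2)
    exact mul_mem (mul_mem (Subgroup.mem_sup_left ha) h1) (Subgroup.mem_sup_left hb)
  · exact sup_le hM ((Subgroup.closure_le _).2 fun s hs => hs.2)

end Cfsg.Agent.H28
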