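import Cfsg.Agent.H28.FrobChar
import Cfsg.Agent.CharInduce.Ops
import Cfsg.Agent.CharBasic.Complete

/-!
Lower bounds on the sum of squares of small irreducible degrees of nilpotent groups.
-/

set_option autoImplicit false

namespace Cfsg.Agent.H28.Frob

open Cfsg.Agent Finset

universe u

variable (H : Type u) [Group H] [Fintype H]

open Classical in
/-- Sum of the squares of the irreducible degrees below `m`. -/
noncomputable def lowSum (m : ℕ) : ℕ :=
  ∑ φ ∈ Finset.univ.filter (fun φ : Cfsg.IrrCharacter H => Cfsg.charDegree (φ : H → ℂ) < m),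
    Cfsg.charDegree (φ : H → ℂ) ^ 2

theorem sum_sq_degree_nat :
    ∑ φ : Cfsg.IrrCharacter H, Cfsg.charDegree (φ : H → ℂ) ^ 2 = Nat.card H := by
  have h := CharBasic.sum_sq_degree (G := H)
  have h' : ((∑ φ : Cfsg.IrrCharacter H, Cfsg.charDegree (φ : H → ℂ) ^ 2 : ℕ) : ℂ) =
      (Nat.card H : ℂ) := by
    rw [← h, Nat.cast_sum]
    exact Finset.sum_congr rfl fun φ _ => by rw [Nat.cast_pow, (degree_spec φ.2).1]
  exact_mod_cast h'

variable {H}

theorem degree_dvd_card {φ : H → ℂ} (hφ : Cfsg.IsIrrCharacter H φ) :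
    Cfsg.charDegree φ ∣ Nat.card H := by
  obtain ⟨n, -, hn, hdvd, -⟩ := CharBasic.IsIrr.degree_dvd hφ
  rw [(degree_spec hφ).1, Nat.cast_inj] at hn
  rwa [hn]

theorem pGroup_sq_le_lowSum {p : ℕ} (hp : p.Prime) (hH : IsPGroup p H) {θ : H → ℂ}
    (hθ : Cfsg.IsIrrCharacter H θ) (hm : 1 < Cfsg.charDegree θ) :
    Cfsg.charDegree θ ^ 2 ≤ lowSum H (Cfsg.charDegree θ) := by
  classical
  have := Fact.mk hp
  obtain ⟨n, hn⟩ := IsPGroup.iff_card.1 hH
  obtain ⟨i, hi, hmi⟩ := (Nat.dvd_prime_pow hp).1 (hn ▸ degree_dvd_card hθ)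
  have hle : Cfsg.charDegree θ ^ 2 ≤ Nat.card H := by
    rw [← sum_sq_degree_nat H]
    exact Finset.single_le_sum (f := fun φ : Cfsg.IrrCharacter H => Cfsg.charDegree (φ : H → ℂ) ^ 2)
      (fun _ _ => Nat.zero_le _) (mem_univ (⟨θ, hθ⟩ : Cfsg.IrrCharacter H))
  have h2i : 2 * i ≤ n := by
    rw [hn, hmi, ← pow_mul, mul_comm] at hle
    exact (Nat.pow_le_pow_iff_right hp.one_lt).1 hle
  have hdvd : Cfsg.charDegree θ ^ 2 ∣ lowSum H (Cfsg.charDegree θ) := by
    have hsplit := Finset.sum_filter_add_sum_filter_not Finset.univ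
      (fun φ : Cfsg.IrrCharacter H => Cfsg.charDegree (φ : H → ℂ) < Cfsg.charDegree θ)
      (fun φ => Cfsg.charDegree (φ : H → ℂ) ^ 2)
    rw [sum_sq_degree_nat H] at hsplit
    have h1 : Cfsg.charDegree θ ^ 2 ∣ Nat.card H := by
      rw [hn, hmi, ← pow_mul, mul_comm]
      exact pow_dvd_pow p h2i
    rw [← hsplit] at h1
    refine (Nat.dvd_add_left (Finset.dvd_sum fun φ hφ => ?_)).1 h1
    obtain ⟨j, -, hj⟩ := (Nat.dvd_prime_pow hp).1 (hn ▸ degree_dvd_card φ.2)
    have h3 : ¬ Cfsg.charDegree (φ : H → ℂ) < Cfsg.charDegree θ := (mem_filter.1 hφ).2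
    rw [hj, hmi] at h3 ⊢
    refine pow_dvd_pow_of_dvd (pow_dvd_pow p ?_) 2
    exact (Nat.pow_le_pow_iff_right hp.one_lt).1 (not_lt.1 h3)
  refine Nat.le_of_dvd ?_ hdvd
  refine Finset.sum_pos (fun φ _ => pow_pos (degree_spec φ.2).2 2)
    ⟨(⟨_, CharBasic.isIrrCharacter_one⟩ : Cfsg.IrrCharacter H), mem_filter.2 ⟨mem_univ _, ?_⟩⟩
  simpa [Cfsg.charDegree] using hm

theorem hom_injective {l l' : H →* ℂˣ} (h : (fun g => (l g : ℂ)) = fun g => (l' g : ℂ)) : l = l' :=
  MonoidHom.ext fun g => Units.ext (congrFun h g)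

theorem card_hom_le_lowSum {m : ℕ} (hm : 1 < m) : Nat.card (H →* ℂˣ) ≤ lowSum H m := by
  classical
  let T := Finset.univ.filter (fun φ : Cfsg.IrrCharacter H => Cfsg.charDegree (φ : H → ℂ) < m)
  have h1 : Nat.card (H →* ℂˣ) ≤ Nat.card T :=
    Nat.card_le_card_of_injective
      (fun l => (⟨⟨_, CharInduce.isIrrCharacter_hom l⟩, mem_filter.2 ⟨mem_univ _, by
        show Cfsg.charDegree (fun g => (l g : ℂ)) < m
        rwa [degree_hom]⟩⟩ : T))
      (fun l l' h => hom_injective (congrArg (fun t : T => ((t.1 : Cfsg.IrrCharacter H) : H → ℂ)) h))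
  rw [Nat.card_eq_fintype_card (α := T), Fintype.card_coe, Finset.card_eq_sum_ones] at h1
  exact h1.trans (Finset.sum_le_sum fun φ _ => Nat.one_le_pow _ _ (degree_spec φ.2).2)

theorem card_hom_eq : Nat.card (H →* ℂˣ) = (commutator H).index := by
  haveI : NeZero (Monoid.exponent (Abelianization H) : ℂ) :=
    ⟨Nat.cast_ne_zero.mpr Monoid.exponent_ne_zero_of_finite⟩
  obtain ⟨f⟩ := CommGroup.monoidHom_mulEquiv_of_hasEnoughRootsOfUnity (Abelianization H) ℂ
  rw [Nat.card_congr (Abelianization.lift (G := H) (A := ℂˣ)), Nat.card_congr f.toEquiv,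
    Subgroup.index_eq_card]
  rfl

theorem exists_hom_ne_one [Group.IsNilpotent H] [Nontrivial H] : ∃ l : H →* ℂˣ, l ≠ 1 := by
  by_contra h
  push Not at h
  have h1 : Nat.card (H →* ℂˣ) = 1 :=
    Nat.card_eq_one_iff_unique.2 ⟨⟨fun a b => (h a).trans (h b).symm⟩, ⟨1⟩⟩
  rw [card_hom_eq, Subgroup.index_eq_one] at h1
  exact absurd h1 (IsSolvable.commutator_lt_top_of_nontrivial (G := H)).ne

variable {A B : Type u} [Group A] [Group B] [Fintype A] [Fintype B] (e : H ≃* A × B)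

/-- The product of a character of each factor. -/
def outer (α : A → ℂ) (β : B → ℂ) : H → ℂ := fun u => α (e u).1 * β (e u).2

omit [Fintype A] [Fintype B] in
theorem isIrr_outer [Finite A] [Finite B] {α : A → ℂ} {β : B → ℂ} (hα : Cfsg.IsIrrCharacter A α)
    (hβ : Cfsg.IsIrrCharacter B β) : Cfsg.IsIrrCharacter H (outer e α β) :=
  CharInduce.IsIrr.comp (CharInduce.isIrrCharacter_outer hα hβ) e.toMonoidHom e.surjective

omit [Fintype H] in
theorem degree_outer {α : A → ℂ} {β : B → ℂ} (hα : Cfsg.IsIrrCharacter A α)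
    (hβ : Cfsg.IsIrrCharacter B β) :
    Cfsg.charDegree (outer e α β) = Cfsg.charDegree α * Cfsg.charDegree β := by
  have h : outer e α β 1 = ((Cfsg.charDegree α * Cfsg.charDegree β : ℕ) : ℂ) := by
    simp [outer, (degree_spec hα).1, (degree_spec hβ).1]
  rw [Cfsg.charDegree, h, Complex.natCast_re, Nat.floor_natCast]

omit [Fintype H] in
theorem outer_injective {α α' : A → ℂ} {β β' : B → ℂ} (hα : Cfsg.IsIrrCharacter A α)
    (hα' : Cfsg.IsIrrCharacter A α') (hβ : Cfsg.IsIrrCharacter B β)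
    (hβ' : Cfsg.IsIrrCharacter B β') (h : outer e α β = outer e α' β') : α = α' ∧ β = β' := by
  classical
  have h1 : (fun x : A × B => α x.1 * β x.2) = fun x => α' x.1 * β' x.2 := by
    funext x
    simpa [outer] using congrFun h (e.symm x)
  have h2 := CharInduce.classInner_outer α α' β β'
  rw [h1, CharBasic.classInner_irr_self (CharInduce.isIrrCharacter_outer hα' hβ'),
    CharBasic.classInner_irr hα hα', CharBasic.classInner_irr hβ hβ'] at h2
  split_ifs at h2 with ha hb <;> simp_all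

include e in
open Classical in
theorem lowSum_prod {a b : ℕ} (U : Finset (Cfsg.IrrCharacter B)) (hb : 0 < b)
    (hU : ∀ β ∈ U, Cfsg.charDegree (β : B → ℂ) ≤ b) :
    lowSum A a * ∑ β ∈ U, Cfsg.charDegree (β : B → ℂ) ^ 2 ≤ lowSum H (a * b) := by
  let TA := Finset.univ.filter (fun φ : Cfsg.IrrCharacter A => Cfsg.charDegree (φ : A → ℂ) < a)
  let f : Cfsg.IrrCharacter A × Cfsg.IrrCharacter B → Cfsg.IrrCharacter H :=
    fun q => ⟨_, isIrr_outer e q.1.2 q.2.2⟩
  have hf : Set.InjOn f ↑(TA ×ˢ U) := fun q _ r _ h => by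
    obtain ⟨h1, h2⟩ := outer_injective e q.1.2 r.1.2 q.2.2 r.2.2 (congrArg Subtype.val h)
    exact Prod.ext (Subtype.ext h1) (Subtype.ext h2)
  calc lowSum A a * ∑ β ∈ U, Cfsg.charDegree (β : B → ℂ) ^ 2
      = ∑ q ∈ TA ×ˢ U, Cfsg.charDegree (f q : H → ℂ) ^ 2 := by
        rw [lowSum, Finset.sum_mul_sum, Finset.sum_product]
        refine Finset.sum_congr rfl fun α _ => Finset.sum_congr rfl fun β _ => ?_
        rw [degree_outer e α.2 β.2, mul_pow]
    _ = ∑ φ ∈ (TA ×ˢ U).image f, Cfsg.charDegree (φ : H → ℂ) ^ 2 := by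
        rw [Finset.sum_image hf]
    _ ≤ _ := by
        refine Finset.sum_le_sum_of_subset fun φ hφ => ?_
        obtain ⟨⟨α, β⟩, hq, rfl⟩ := mem_image.1 hφ
        obtain ⟨hα, hβ⟩ := mem_product.1 hq
        refine mem_filter.2 ⟨mem_univ _, ?_⟩
        show Cfsg.charDegree (outer e (α : A → ℂ) (β : B → ℂ)) < a * b
        rw [degree_outer e α.2 β.2]
        exact Nat.mul_lt_mul_of_lt_of_le (mem_filter.1 hα).2 (hU β hβ) hb

/-- An automorphism sends a character of the `p'`-factor to one of that factor. -/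
theorem descend {p : ℕ} (hp : p.Prime) (hA : IsPGroup p A) (hB : (Nat.card B).Coprime p)
    (σ : H ≃* H) {β : B → ℂ} (hβ : Cfsg.IsIrrCharacter B β) :
    ∃ β' : Cfsg.IrrCharacter B, Cfsg.charDegree (β' : B → ℂ) = Cfsg.charDegree β ∧
      ∀ u : H, β (e (σ u)).2 = (β' : B → ℂ) (e u).2 := by
  have := Fact.mk hp
  let π : H →* B := (MonoidHom.snd A B).comp e.toMonoidHom
  let s : B →* B := (π.comp σ.toMonoidHom).comp (e.symm.toMonoidHom.comp (MonoidHom.inr A B))
  have hkey : ∀ u : H, (e (σ u)).2 = s (e u).2 := by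
    intro u
    have h1 : π (σ (e.symm ((e u).1, 1))) = 1 := by
      obtain ⟨k, hk⟩ := IsPGroup.iff_orderOf.1 hA (e u).1
      let f : A →* B := (π.comp σ.toMonoidHom).comp (e.symm.toMonoidHom.comp (MonoidHom.inl A B))
      have h2 : orderOf (f (e u).1) ∣ p ^ k := hk ▸ orderOf_map_dvd f _
      exact orderOf_eq_one_iff.1 (Nat.eq_one_of_dvd_coprimes (hB.pow_right k)
        (orderOf_dvd_natCard _) h2)
    have h3 : u = e.symm ((e u).1, 1) * e.symm (1, (e u).2) := by
      rw [← map_mul, Prod.mk_mul_mk, mul_one, one_mul, Prod.mk.eta, MulEquiv.symm_apply_apply]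
    calc (e (σ u)).2 = π (σ (e.symm ((e u).1, 1) * e.symm (1, (e u).2))) := by rw [← h3]; rfl
      _ = π (σ (e.symm (1, (e u).2))) := by rw [map_mul, map_mul, h1, one_mul]
      _ = s (e u).2 := rfl
  have hs : Function.Surjective s := fun y => ⟨(e (σ.symm (e.symm (1, y)))).2, by
    rw [← hkey, MulEquiv.apply_symm_apply, MulEquiv.apply_symm_apply]⟩
  refine ⟨⟨_, CharInduce.IsIrr.comp hβ s hs⟩, ?_, fun u => congrArg β (hkey u)⟩
  show Cfsg.charDegree (fun g => β (s g)) = _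
  simp [Cfsg.charDegree]

end Cfsg.Agent.H28.Frob
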