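import Mathlib
import Cfsg.Agent.PGroups.Commutator

/-!
A `2`-group of exponent `4` with central elementary commutators and exactly four square roots of
the identity (all central) has order at most `64`: a character sum over the squaring map.
-/

set_option autoImplicit false
set_option linter.unusedSectionVars false
set_option linter.unusedSimpArgs false

namespace Cfsg.Agent.H28.RankTwo

open scoped commutatorElement

variable {W : Type*} [Group W] [Finite W]

/-- A sign-valued multiplicative function on a subgroup sums to `0` or to the order. -/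
theorem sum_sign_hom [Fintype W] (R : Subgroup W) [DecidablePred (· ∈ R)] (s : W → ℤ)
    (hs : ∀ a ∈ R, ∀ b ∈ R, s (a * b) = s a * s b) (h1 : ∀ a ∈ R, s a = 1 ∨ s a = -1) :
    (∑ a ∈ Finset.univ.filter (· ∈ R), s a) = 0 ∨
      (∑ a ∈ Finset.univ.filter (· ∈ R), s a) = (Nat.card R : ℤ) := by
  by_cases h : ∃ a ∈ R, s a = -1
  · obtain ⟨a, ha, hsa⟩ := h
    left
    have key : (∑ x ∈ Finset.univ.filter (· ∈ R), s x) =
        ∑ x ∈ Finset.univ.filter (· ∈ R), s (a * x) := by
      refine Finset.sum_nbij' (fun x => a⁻¹ * x) (fun x => a * x) ?_ ?_ ?_ ?_ ?_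
      · intro x hx; simp only [Finset.mem_coe, Finset.mem_filter, Finset.mem_univ, true_and] at hx ⊢
        exact mul_mem (inv_mem ha) hx
      · intro x hx; simp only [Finset.mem_coe, Finset.mem_filter, Finset.mem_univ, true_and] at hx ⊢
        exact mul_mem ha hx
      · intro x _; simp
      · intro x _; simp
      · intro x _; simp
    have key2 : (∑ x ∈ Finset.univ.filter (· ∈ R), s (a * x)) =
        -(∑ x ∈ Finset.univ.filter (· ∈ R), s x) := by
      rw [← Finset.sum_neg_distrib]
      refine Finset.sum_congr rfl fun x hx => ?_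
      rw [hs a ha x (by simpa using hx), hsa, neg_one_mul]
    linarith
  · push Not at h
    right
    rw [Finset.sum_congr rfl (fun x hx => show s x = 1 from
      (h1 x (by simpa using hx)).resolve_right (h x (by simpa using hx))), Finset.sum_const,
      nsmul_eq_mul, mul_one, Nat.card_eq_fintype_card, Fintype.card_subtype]

/-- The sign function on the four square roots of `1` with kernel `{1, k}`. -/
noncomputable def sgn (k z : W) : ℤ := by
  classical exact if z = 1 ∨ z = k then 1 else -1

theorem sgn_cases (k z : W) : sgn k z = 1 ∨ sgn k z = -1 := by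
  unfold sgn; split_ifs <;> simp

theorem sgn_one (k : W) : sgn k (1 : W) = 1 := by simp [sgn]

theorem card_le_sixtyFour (h2 : IsPGroup 2 W) (hexp : ∀ x : W, x ^ 4 = 1)
    (hc : ∀ a b : W, ⁅a, b⁆ ∈ Subgroup.center W ∧ ⁅a, b⁆ ^ 2 = 1)
    (hz : ∀ x : W, x ^ 2 = 1 → x ∈ Subgroup.center W)
    (hI : Nat.card {x : W // x ^ 2 = 1} = 4) : Nat.card W ≤ 64 := by
  classical
  have := Fintype.ofFinite W
  have : Fact (Nat.Prime 2) := ⟨Nat.prime_two⟩
  by_contra hbig
  push Not at hbig
  obtain ⟨m, hm⟩ := h2.exists_card_eq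
  have hm7 : 7 ≤ m := by
    by_contra h
    have : 2 ^ m ≤ 2 ^ 6 := Nat.pow_le_pow_right (by norm_num) (by omega)
    omega
  -- the four square roots of the identity
  let Z : Finset W := Finset.univ.filter fun x => x ^ 2 = 1
  have hZ4 : Z.card = 4 := by
    rw [Nat.card_eq_fintype_card, Fintype.card_subtype] at hI; exact hI
  have hsq : ∀ g : W, (g ^ 2) ^ 2 = 1 := fun g => by rw [← pow_mul]; exact hexp g
  have hmulZ : ∀ a b : W, a ^ 2 = 1 → b ^ 2 = 1 → (a * b) ^ 2 = 1 := fun a b ha hb => by
    rw [(PGroups.commute_of_mem_center (hz a ha) b).mul_pow, ha, hb, one_mul]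
  have hZ1 : (1 : W) ∈ Z := by simp [Z]
  have hmul : ∀ k : W, k ^ 2 = 1 → k ≠ 1 → ∀ a b : W, a ^ 2 = 1 → b ^ 2 = 1 →
      sgn k (a * b) = sgn k a * sgn k b := by
    intro k hk hk1 a b ha hb
    have hZabk : ∀ c : W, c ^ 2 = 1 → c * c = 1 := fun c hc => by rw [← pow_two]; exact hc
    by_cases ha' : a = 1
    · subst ha'; simp [sgn]
    by_cases hb' : b = 1
    · subst hb'; simp [sgn]
    by_cases hak : a = k
    · subst hak
      have h1 : (a * b = 1 ∨ a * b = a) ↔ (b = a) := by
        constructor
        · rintro (h | h)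
          · calc b = a * a * b := by rw [hZabk a ha, one_mul]
              _ = a * (a * b) := mul_assoc _ _ _
              _ = a := by rw [h, mul_one]
          · exact absurd (mul_eq_left.1 h) hb'
        · rintro rfl; exact Or.inl (hZabk _ hb)
      simp only [sgn, h1, hb', false_or]
      simp
    by_cases hbk : b = k
    · subst hbk
      have h1 : (a * b = 1 ∨ a * b = b) ↔ False := by
        refine ⟨?_, False.elim⟩
        rintro (h | h)
        · refine hak ?_
          calc a = a * (b * b) := by rw [hZabk b hb, mul_one]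
            _ = a * b * b := (mul_assoc _ _ _).symm
            _ = b := by rw [h, one_mul]
        · exact ha' (mul_eq_right.1 h)
      have e : sgn b (a * b) = -1 := by unfold sgn; exact if_neg h1.1
      rw [e]; simp [sgn, ha', hak]
    -- both outside the kernel
    have hab : a * b = 1 ∨ a * b = k := by
      by_cases hab : a = b
      · left; subst hab; exact hZabk a ha
      right
      have hS : ({1, k, a, b} : Finset W) = Z := by
        refine Finset.eq_of_subset_of_card_le ?_ ?_
        · intro x hx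
          simp only [Finset.mem_insert, Finset.mem_singleton] at hx
          rcases hx with rfl | rfl | rfl | rfl <;> simp [Z, *]
        · rw [hZ4, Finset.card_insert_of_notMem (by simp [Ne.symm hk1, Ne.symm ha', Ne.symm hb']),
            Finset.card_insert_of_notMem (by simp [Ne.symm hak, Ne.symm hbk]),
            Finset.card_insert_of_notMem (by simpa using hab), Finset.card_singleton]
      have hmem : a * b ∈ ({1, k, a, b} : Finset W) := hS ▸ by simp [Z, hmulZ a b ha hb]
      simp only [Finset.mem_insert, Finset.mem_singleton] at hmem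
      rcases hmem with h | h | h | h
      · refine absurd ?_ hab
        calc a = a * (b * b) := by rw [hZabk b hb, mul_one]
          _ = a * b * b := (mul_assoc _ _ _).symm
          _ = b := by rw [h, one_mul]
      · exact h
      · exact absurd (mul_eq_left.1 h) hb'
      · exact absurd (mul_eq_right.1 h) ha'
    have e : sgn k (a * b) = 1 := by unfold sgn; exact if_pos hab
    rw [e]; simp [sgn, ha', hak, hb', hbk]
  let S : W → ℤ := fun k => ∑ g : W, sgn k (g ^ 2)
  -- each character sum is divisible by `32`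
  have hdiv : ∀ k : W, k ^ 2 = 1 → k ≠ 1 → (32 : ℤ) ∣ S k := by
    intro k hk hk1
    let β : W → W → ℤ := fun u g => sgn k ⁅u, g⁆
    let R : Subgroup W :=
      { carrier := {u | ∀ g, β u g = 1}
        one_mem' := fun g => by simp [β, sgn_one]
        mul_mem' := fun {a b} ha hb g => by
          show sgn k ⁅a * b, g⁆ = 1
          rw [PGroups.commutatorElement_mul_left_of_mem_center (hc b g).1,
            hmul k hk hk1 _ _ (hc a g).2 (hc b g).2]
          rw [show sgn k ⁅a, g⁆ = 1 from ha g, show sgn k ⁅b, g⁆ = 1 from hb g, mul_one]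
        inv_mem' := fun {a} ha g => by
          show sgn k ⁅a⁻¹, g⁆ = 1
          have h := PGroups.commutatorElement_mul_left_of_mem_center (a := a⁻¹) (hc a g).1
          rw [inv_mul_cancel, commutatorElement_one_left] at h
          have h' : ⁅a⁻¹, g⁆ = ⁅a, g⁆ := by
            rw [eq_inv_of_mul_eq_one_left h.symm]
            exact inv_eq_of_mul_eq_one_right (by rw [← pow_two]; exact (hc a g).2)
          rw [h']; exact ha g }
    have hinner : ∀ u : W, (∑ g : W, β u g) = if u ∈ R then (Nat.card W : ℤ) else 0 := by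
      intro u
      by_cases hu : u ∈ R
      · rw [if_pos hu, Finset.sum_congr rfl (fun g _ => hu g), Finset.sum_const, nsmul_eq_mul,
          mul_one, Nat.card_eq_fintype_card]; rfl
      · rw [if_neg hu]
        obtain ⟨g₀, hg₀⟩ : ∃ g₀, β u g₀ ≠ 1 := by
          by_contra h; push Not at h; exact hu h
        have hg1 : β u g₀ = -1 := (sgn_cases k _).resolve_left hg₀
        have key : (∑ g : W, β u g) = -(∑ g : W, β u g) := by
          conv_lhs => rw [← Equiv.sum_comp (Equiv.mulLeft g₀) (β u)]
          rw [← Finset.sum_neg_distrib]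
          refine Finset.sum_congr rfl fun g _ => ?_
          show sgn k ⁅u, g₀ * g⁆ = -β u g
          rw [PGroups.commutatorElement_mul_right_of_mem_center (hc u g).1,
            hmul k hk hk1 _ _ (hc u g₀).2 (hc u g).2, show sgn k ⁅u, g₀⁆ = -1 from hg1, neg_one_mul]
        linarith
    have hsqS : S k ^ 2 = (Nat.card W : ℤ) *
        ∑ u ∈ Finset.univ.filter (· ∈ R), sgn k (u ^ 2) := by
      have h1 : S k ^ 2 = ∑ g : W, ∑ u : W, sgn k (u ^ 2) * β u g := by
        rw [pow_two]
        simp only [S, Finset.sum_mul, Finset.mul_sum]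
        refine Finset.sum_congr rfl fun g _ => ?_
        rw [← Equiv.sum_comp (Equiv.mulLeft g)]
        refine Finset.sum_congr rfl fun u _ => ?_
        show sgn k ((g * u) ^ 2) * sgn k (g ^ 2) = _
        rw [mul_comm (sgn k ((g * u) ^ 2))]
        rw [PGroups.mul_pow_of_commutator_mem_center (hc u g).1, show Nat.choose 2 2 = 1 from rfl,
          pow_one, hmul k hk hk1 _ _ (hmulZ _ _ (hsq g) (hsq u)) (hc u g).2,
          hmul k hk hk1 _ _ (hsq g) (hsq u), ← mul_assoc, ← mul_assoc]
        rcases sgn_cases k (g ^ 2) with h | h <;> simp [h, β]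
      rw [h1, Finset.sum_comm, Finset.mul_sum, Finset.sum_filter]
      refine Finset.sum_congr rfl fun u _ => ?_
      rw [← Finset.mul_sum, hinner]
      split_ifs <;> ring
    obtain ⟨r, hr⟩ := (h2.to_subgroup R).exists_card_eq
    have hZR : ∀ x : W, x ^ 2 = 1 → x ∈ R := fun x hx g => by
      show sgn k ⁅x, g⁆ = 1
      rw [commutatorElement_eq_one_iff_commute.2 (PGroups.commute_of_mem_center (hz x hx) g),
        sgn_one]
    have hr2 : 2 ≤ r := by
      have hle : 4 ≤ Nat.card R := hI ▸ Nat.card_le_card_of_injective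
        (fun x : {x : W // x ^ 2 = 1} => (⟨x.1, hZR _ x.2⟩ : R))
        (fun a b h => Subtype.ext (congrArg (fun t : R => (t : W)) h))
      by_contra hr'
      have : 2 ^ r ≤ 2 ^ 1 := Nat.pow_le_pow_right (by norm_num) (by omega)
      omega
    have h512 : (512 : ℤ) ∣ S k ^ 2 := by
      rw [hsqS]
      rcases sum_sign_hom R (fun u => sgn k (u ^ 2)) (fun a _ b hb => by
          rw [PGroups.mul_pow_of_commutator_mem_center (hc b a).1, show Nat.choose 2 2 = 1 from rfl,
            pow_one, hmul k hk hk1 _ _ (hmulZ _ _ (hsq a) (hsq b)) (hc b a).2,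
            hmul k hk hk1 _ _ (hsq a) (hsq b), show sgn k ⁅b, a⁆ = 1 from hb a, mul_one])
        (fun a _ => sgn_cases k _) with h | h
      · rw [h, mul_zero]; exact dvd_zero _
      · rw [h, hm, hr]
        have : (512 : ℕ) ∣ 2 ^ m * 2 ^ r := by
          rw [← pow_add, show (512 : ℕ) = 2 ^ 9 by norm_num]
          exact pow_dvd_pow 2 (by omega)
        exact_mod_cast this
    have h16 : (16 : ℤ) ∣ S k := by
      refine (Int.pow_dvd_pow_iff (n := 2) (by norm_num)).1 ?_
      exact dvd_trans (by norm_num) h512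
    obtain ⟨t, ht⟩ := h16
    have ht2 : (2 : ℤ) ∣ t := by
      refine Int.prime_two.dvd_of_dvd_pow (n := 2) ?_
      rw [ht, mul_pow, show (512 : ℤ) = 16 ^ 2 * 2 by norm_num] at h512
      exact Int.dvd_of_mul_dvd_mul_left (by norm_num) h512
    rw [ht, show (32 : ℤ) = 16 * 2 by norm_num]
    exact mul_dvd_mul_left _ ht2
  -- counting square roots of the identity
  obtain ⟨z₁, z₂, hz₁, hz₁', hz₂, hz₂', h12⟩ : ∃ z₁ z₂ : W,
      z₁ ^ 2 = 1 ∧ z₁ ≠ 1 ∧ z₂ ^ 2 = 1 ∧ z₂ ≠ 1 ∧ z₁ ≠ z₂ := by
    have h3 : 1 < (Z.erase 1).card := by rw [Finset.card_erase_of_mem hZ1, hZ4]; norm_num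
    obtain ⟨a, ha, b, hb, hab⟩ := Finset.one_lt_card.1 h3
    simp only [Finset.mem_erase, Z, Finset.mem_filter, Finset.mem_univ, true_and] at ha hb
    exact ⟨a, b, ha.2, ha.1, hb.2, hb.1, hab⟩
  have hz₃ := hmulZ _ _ hz₁ hz₂
  have hz₃' : z₁ * z₂ ≠ 1 := fun h => h12 (by
    calc z₁ = z₁ * (z₂ * z₂) := by rw [← pow_two, hz₂, mul_one]
      _ = z₁ * z₂ * z₂ := (mul_assoc _ _ _).symm
      _ = z₂ := by rw [h, one_mul])
  have h31 : z₁ * z₂ ≠ z₁ := fun h => hz₂' (mul_eq_left.1 h)
  have h32 : z₁ * z₂ ≠ z₂ := fun h => hz₁' (mul_eq_right.1 h)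
  have hkey : ∀ g : W, (1 : ℤ) + sgn z₁ (g ^ 2) + sgn z₂ (g ^ 2) + sgn (z₁ * z₂) (g ^ 2) =
      if g ^ 2 = 1 then 4 else 0 := by
    intro g
    by_cases h : g ^ 2 = 1
    · simp [h, sgn]
    have hS : ({1, z₁, z₂, z₁ * z₂} : Finset W) = Z := by
      refine Finset.eq_of_subset_of_card_le ?_ ?_
      · intro x hx
        simp only [Finset.mem_insert, Finset.mem_singleton] at hx
        rcases hx with rfl | rfl | rfl | rfl <;> simp [Z, *]
      · rw [hZ4, Finset.card_insert_of_notMem (by simp [Ne.symm hz₁', Ne.symm hz₂', Ne.symm hz₃']),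
          Finset.card_insert_of_notMem (by simp [h12, Ne.symm h31]),
          Finset.card_insert_of_notMem (by simp [Ne.symm h32]), Finset.card_singleton]
    have hmem : g ^ 2 ∈ ({1, z₁, z₂, z₁ * z₂} : Finset W) := hS ▸ by simp [Z, hsq g]
    simp only [Finset.mem_insert, Finset.mem_singleton] at hmem
    rcases hmem with e | e | e | e
    · exact absurd e h
    all_goals rw [e]; simp [sgn, hz₁', hz₂', hz₃', h12, Ne.symm h12, h31, h32, Ne.symm h31,
      Ne.symm h32]
  have htot : (Nat.card W : ℤ) + S z₁ + S z₂ + S (z₁ * z₂) = 16 := by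
    have h1 := Finset.sum_congr rfl (s₁ := (Finset.univ : Finset W)) (fun g _ => hkey g)
    simp only [Finset.sum_add_distrib, Finset.sum_const, Finset.card_univ, nsmul_eq_mul, mul_one]
      at h1
    rw [Finset.sum_ite, Finset.sum_const_zero, add_zero, Finset.sum_const, hZ4] at h1
    rw [Nat.card_eq_fintype_card]
    simpa [S] using h1
  have h32W : (32 : ℤ) ∣ (Nat.card W : ℤ) := by
    rw [hm]
    have : (32 : ℕ) ∣ 2 ^ m := by
      rw [show (32 : ℕ) = 2 ^ 5 by norm_num]; exact pow_dvd_pow 2 (by omega)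
    exact_mod_cast this
  have := dvd_add (dvd_add (dvd_add h32W (hdiv _ hz₁ hz₁')) (hdiv _ hz₂ hz₂')) (hdiv _ hz₃ hz₃')
  rw [htot] at this
  norm_num at this

end Cfsg.Agent.H28.RankTwo
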