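import Mathlib
import Cfsg.Agent.PGroups.Commutator
import Cfsg.Agent.PGroups.CyclicMaximal
import Cfsg.Agent.H63.SixtyFourFPF
import Cfsg.Agent.H28.RankTwoSq

/-!
A `2`-group with four square roots of `1`, all central, and a fixed-point-free automorphism of
order `3` is homocyclic abelian of rank two or has order `64`.
-/

set_option autoImplicit false
set_option linter.unusedSectionVars false

namespace Cfsg.Agent.H28.RankTwo

open H63.SixtyFour
open scoped commutatorElement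

variable {T : Type*} [Group T] [Finite T]

/-- The standing hypotheses. -/
structure Hyp (T : Type*) [Group T] [Finite T] where
  p2 : IsPGroup 2 T
  σ : T ≃* T
  h3 : ∀ y, σ (σ (σ y)) = y
  hfp : ∀ y, σ y = y → y = 1
  hz : ∀ x : T, x ^ 2 = 1 → x ∈ Subgroup.center T
  hI : Nat.card {x : T // x ^ 2 = 1} = 4

namespace Hyp

variable (d : Hyp T)
include d

/-- A subgroup stable under the automorphism. -/
def Stable (A : Subgroup T) : Prop := ∀ x ∈ A, d.σ x ∈ A

theorem sq_mul {a b : T} (ha : a ^ 2 = 1) (hb : b ^ 2 = 1) : (a * b) ^ 2 = 1 := by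
  rw [(PGroups.commute_of_mem_center (d.hz a ha) b).mul_pow, ha, hb, one_mul]

/-- A non-trivial stable subgroup contains all square roots of `1`. -/
theorem sq_roots_mem {A : Subgroup T} (hA : d.Stable A) (hne : A ≠ ⊥) {x : T} (hx : x ^ 2 = 1) :
    x ∈ A := by
  classical
  have : Fact (Nat.Prime 2) := ⟨Nat.prime_two⟩
  obtain ⟨z, hzA, ho⟩ := PGroups.exists_orderOf_eq d.p2 hne
  have hz2 : z ^ 2 = 1 := ho ▸ pow_orderOf_eq_one z
  have hz1 : z ≠ 1 := fun h => by rw [h, orderOf_one] at ho; norm_num at ho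
  have hsz : d.σ z ≠ z := fun h => hz1 (d.hfp z h)
  have hs2 : d.σ z ^ 2 = 1 := by rw [← map_pow, hz2, map_one]
  have hs1 : d.σ z ≠ 1 := fun h => hz1 ((MulEquiv.map_eq_one_iff _).1 h)
  have hp1 : z * d.σ z ≠ 1 := fun h => hsz (by
    rw [pow_two] at hz2
    exact mul_left_cancel (h.trans hz2.symm))
  have := Fintype.ofFinite T
  have hS : ({1, z, d.σ z, z * d.σ z} : Finset T) = Finset.univ.filter (fun g => g ^ 2 = 1) := by
    refine Finset.eq_of_subset_of_card_le ?_ ?_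
    · intro g hg
      simp only [Finset.mem_insert, Finset.mem_singleton] at hg
      rcases hg with rfl | rfl | rfl | rfl <;> simp [hz2, hs2, d.sq_mul hz2 hs2]
    · have h4 := d.hI
      rw [Nat.card_eq_fintype_card, Fintype.card_subtype] at h4
      rw [h4, Finset.card_insert_of_notMem (by simp [Ne.symm hz1, Ne.symm hs1, Ne.symm hp1]),
        Finset.card_insert_of_notMem (by simp [Ne.symm hsz, hs1]),
        Finset.card_insert_of_notMem (by simp [hz1]), Finset.card_singleton]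
  have hmem : x ∈ ({1, z, d.σ z, z * d.σ z} : Finset T) := hS ▸ by simp [hx]
  simp only [Finset.mem_insert, Finset.mem_singleton] at hmem
  rcases hmem with rfl | rfl | rfl | rfl
  exacts [one_mem _, hzA, hA _ hzA, mul_mem hzA (hA _ hzA)]

/-- An abelian subgroup of exponent dividing `2 ^ n` has order at most `4 ^ n`. -/
theorem card_le : ∀ (n : ℕ) (A : Subgroup T), (∀ a ∈ A, ∀ b ∈ A, a * b = b * a) →
    (∀ a ∈ A, a ^ 2 ^ n = 1) → Nat.card A ≤ 4 ^ n := by
  intro n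
  induction n with
  | zero =>
    intro A _ h
    have : A = ⊥ := (Subgroup.eq_bot_iff_forall A).2 fun a ha => by simpa using h a ha
    rw [this]; simp
  | succ n ih =>
    intro A hc h
    let f : A →* T := MonoidHom.mk' (fun a => (a : T) ^ 2) fun a b => by
      show ((a * b : A) : T) ^ 2 = _
      rw [Subgroup.coe_mul, Commute.mul_pow (hc a a.2 b b.2)]
    have hk : Nat.card f.ker ≤ 4 := d.hI ▸ Nat.card_le_card_of_injective
      (fun a : f.ker => (⟨((a : A) : T), a.2⟩ : {x : T // x ^ 2 = 1}))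
      (fun a b hab => Subtype.ext (Subtype.ext (congrArg (fun x : {x : T // x ^ 2 = 1} => (x : T)) hab)))
    have hr : Nat.card f.range ≤ 4 ^ n := by
      refine ih f.range ?_ ?_
      · rintro _ ⟨a, rfl⟩ _ ⟨b, rfl⟩
        exact Commute.pow_pow (hc a a.2 b b.2) 2 2
      · rintro _ ⟨a, rfl⟩
        show ((a : T) ^ 2) ^ 2 ^ n = 1
        rw [← pow_mul, ← pow_succ']; exact h a a.2
    calc Nat.card A = Nat.card f.ker * Nat.card f.range := by
          rw [← Subgroup.index_ker, Subgroup.card_mul_index]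
      _ ≤ 4 * 4 ^ n := Nat.mul_le_mul hk hr
      _ = 4 ^ (n + 1) := (pow_succ' 4 n).symm

/-- A stable abelian subgroup is homocyclic of rank two. -/
theorem homocyclic (A : Subgroup T) (hA : d.Stable A) (hc : ∀ a ∈ A, ∀ b ∈ A, a * b = b * a) :
    ∃ n : ℕ, (∀ a ∈ A, a ^ 2 ^ n = 1) ∧ (∃ x ∈ A, orderOf x = 2 ^ n) ∧ Nat.card A = 4 ^ n ∧
      Nonempty (A ≃* Multiplicative (ZMod (2 ^ n) × ZMod (2 ^ n))) := by
  classical
  have := Fintype.ofFinite A
  obtain ⟨x, -, hmax⟩ := Finset.exists_max_image (Finset.univ : Finset A) (fun a => orderOf (a : T))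
    ⟨1, Finset.mem_univ _⟩
  obtain ⟨n, hn⟩ := IsPGroup.iff_orderOf.1 d.p2 (x : T)
  have hexp : ∀ a ∈ A, a ^ 2 ^ n = 1 := by
    intro a ha
    obtain ⟨k, hk⟩ := IsPGroup.iff_orderOf.1 d.p2 a
    have := hmax ⟨a, ha⟩ (Finset.mem_univ _)
    simp only at this
    rw [hk, hn] at this
    exact orderOf_dvd_iff_pow_eq_one.1
      (hk ▸ pow_dvd_pow 2 ((Nat.pow_le_pow_iff_right (le_refl 2)).1 this))
  let P : Subgroup T := Subgroup.zpowers (x : T)
  let Q : Subgroup T := Subgroup.zpowers (d.σ x)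
  have hPA : P ≤ A := Subgroup.zpowers_le.2 x.2
  have hQA : Q ≤ A := Subgroup.zpowers_le.2 (hA _ x.2)
  have hdis : Disjoint P Q := by
    rw [disjoint_iff]
    by_contra hne
    have : Fact (Nat.Prime 2) := ⟨Nat.prime_two⟩
    obtain ⟨z, ⟨hzP, hzQ⟩, ho⟩ := PGroups.exists_orderOf_eq d.p2 hne
    have hz2 : z ^ 2 = 1 := ho ▸ pow_orderOf_eq_one z
    have hz1 : z ≠ 1 := fun h => by rw [h, orderOf_one] at ho; norm_num at ho
    have hsQ : d.σ z ∈ Q := by
      obtain ⟨i, rfl⟩ := Subgroup.mem_zpowers_iff.1 hzP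
      exact ⟨i, (map_zpow d.σ _ i).symm⟩
    refine hz1 (d.hfp z ?_)
    exact PGroups.eq_of_sq_eq_one (H := Q) inferInstance hsQ hzQ
      (by rw [← map_pow, hz2, map_one]) hz2 (fun h => hz1 ((MulEquiv.map_eq_one_iff _).1 h)) hz1
  let f : P × Q →* A := MonoidHom.noncommCoprod (Subgroup.inclusion hPA) (Subgroup.inclusion hQA)
    fun p q => Subtype.ext (hc _ (hPA p.2) _ (hQA q.2))
  have hinj : Function.Injective f := by
    refine (injective_iff_map_eq_one f).2 ?_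
    rintro ⟨p, q⟩ h
    have h' : (p : T) * q = 1 := congrArg (fun a : A => (a : T)) h
    have hp : (p : T) ∈ P ⊓ Q := Subgroup.mem_inf.2 ⟨p.2, by
      rw [eq_inv_of_mul_eq_one_left h']; exact inv_mem q.2⟩
    rw [hdis.eq_bot, Subgroup.mem_bot] at hp
    rw [hp, one_mul] at h'
    exact Prod.ext (Subtype.ext hp) (Subtype.ext h')
  have hQn : orderOf (d.σ x) = 2 ^ n := by rw [MulEquiv.orderOf_eq, hn]
  have hPc : Nat.card P = 2 ^ n := by rw [Nat.card_zpowers, hn]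
  have hQc : Nat.card Q = 2 ^ n := by rw [Nat.card_zpowers, hQn]
  have hPQ : Nat.card (P × Q) = 4 ^ n := by
    rw [Nat.card_prod, hPc, hQc, ← mul_pow]; norm_num
  have hle : Nat.card A ≤ Nat.card (P × Q) := hPQ ▸ d.card_le n A hc hexp
  have hbij : Function.Bijective f :=
    hinj.bijective_of_nat_card_le hle
  let e1 : P ≃* Multiplicative (ZMod (2 ^ n)) := (hPc ▸ (zmodCyclicMulEquiv inferInstance)).symm
  let e2 : Q ≃* Multiplicative (ZMod (2 ^ n)) := (hQc ▸ (zmodCyclicMulEquiv inferInstance)).symm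
  refine ⟨n, hexp, ⟨x, x.2, hn⟩, ?_, ⟨?_⟩⟩
  · rw [← Nat.card_congr (Equiv.ofBijective f hbij), hPQ]
  · exact ((MulEquiv.ofBijective f hbij).symm.trans (MulEquiv.prodCongr e1 e2)).trans
      (MulEquiv.prodMultiplicative _ _).symm

/-- Roots in a homocyclic subgroup. -/
theorem exists_root (A : Subgroup T) (hc : ∀ a ∈ A, ∀ b ∈ A, a * b = b * a) {n k : ℕ}
    (hexp : ∀ a ∈ A, a ^ 2 ^ n = 1) (hcard : Nat.card A = 4 ^ n) (hk : k ≤ n) {g : T}
    (hg : g ∈ A) (hgk : g ^ 2 ^ k = 1) : ∃ a ∈ A, a ^ 2 ^ (n - k) = g := by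
  let f : A →* T := MonoidHom.mk' (fun a => (a : T) ^ 2 ^ (n - k)) fun a b => by
    show ((a * b : A) : T) ^ _ = _
    rw [Subgroup.coe_mul, Commute.mul_pow (hc a a.2 b b.2)]
  let K : Subgroup T :=
    { carrier := {a | a ∈ A ∧ a ^ 2 ^ k = 1}
      one_mem' := ⟨one_mem _, one_pow _⟩
      mul_mem' := fun {a b} (ha : a ∈ A ∧ a ^ 2 ^ k = 1) (hb : b ∈ A ∧ b ^ 2 ^ k = 1) =>
        ⟨mul_mem ha.1 hb.1, by rw [Commute.mul_pow (hc a ha.1 b hb.1), ha.2, hb.2, one_mul]⟩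
      inv_mem' := fun {a} (ha : a ∈ A ∧ a ^ 2 ^ k = 1) =>
        ⟨inv_mem ha.1, by rw [inv_pow, ha.2, inv_one]⟩ }
  have hK : Nat.card K ≤ 4 ^ k :=
    d.card_le k K (fun a ha b hb => hc a ha.1 b hb.1) (fun a ha => ha.2)
  have hker : Nat.card f.ker ≤ 4 ^ (n - k) := by
    refine (Nat.card_congr (f.ker.equivMapOfInjective A.subtype A.subtype_injective).toEquiv).trans_le
      (d.card_le (n - k) _ ?_ ?_)
    · rintro _ ⟨a, -, rfl⟩ _ ⟨b, -, rfl⟩; exact hc a a.2 b b.2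
    · rintro _ ⟨a, ha, rfl⟩; exact ha
  have hle : f.range ≤ K := by
    rintro _ ⟨a, rfl⟩
    refine ⟨pow_mem a.2 _, ?_⟩
    show ((a : T) ^ 2 ^ (n - k)) ^ 2 ^ k = 1
    rw [← pow_mul, ← pow_add, Nat.sub_add_cancel hk]
    exact hexp a a.2
  have heq : f.range = K := by
    refine Subgroup.eq_of_le_of_card_ge hle (le_trans hK ?_)
    have hm : Nat.card f.ker * Nat.card f.range = 4 ^ n := by
      rw [← Subgroup.index_ker, Subgroup.card_mul_index, hcard]
    by_contra hlt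
    push Not at hlt
    have : Nat.card f.ker * Nat.card f.range < 4 ^ (n - k) * 4 ^ k :=
      Nat.mul_lt_mul_of_le_of_lt hker hlt (pow_pos (by norm_num) _)
    rw [hm, ← pow_add, Nat.sub_add_cancel hk] at this
    exact lt_irrefl _ this
  have hgK : g ∈ f.range := heq ▸ (⟨hg, hgk⟩ : g ∈ K)
  obtain ⟨a, ha⟩ := hgK
  exact ⟨a, a.2, ha⟩

/-- The normal closure of `x` and `σ x`. -/
def cl (x : T) : Subgroup T :=
  Subgroup.closure {y | ∃ g : T, y = g * x * g⁻¹ ∨ y = g * d.σ x * g⁻¹}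

theorem mem_cl (x : T) : x ∈ d.cl x :=
  Subgroup.subset_closure ⟨1, Or.inl (by group)⟩

theorem commute_conj (x g : T) : Commute x (g * d.σ x * g⁻¹) := by
  have hsurj : ∃ h : T, h * d.σ h⁻¹ = g := by
    have hinj : Function.Injective (fun h : T => h * d.σ h⁻¹) := by
      intro a b h
      simp only [map_inv] at h
      have : d.σ (b⁻¹ * a) = b⁻¹ * a := by
        rw [map_mul, map_inv]
        calc (d.σ b)⁻¹ * d.σ a = b⁻¹ * (b * (d.σ b)⁻¹) * d.σ a := by group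
          _ = b⁻¹ * (a * (d.σ a)⁻¹) * d.σ a := by rw [h]
          _ = b⁻¹ * a := by group
      exact (inv_mul_eq_one.1 (d.hfp _ this)).symm
    exact Finite.surjective_of_injective hinj g
  obtain ⟨h, rfl⟩ := hsurj
  have hτ := comm_self ((MulAut.conj h)⁻¹.trans (d.σ.trans (MulAut.conj h)) : T ≃* T) ?_ ?_ x
  · simp only [MulEquiv.trans_apply, MulAut.conj_inv_apply, MulAut.conj_apply, map_mul] at hτ
    show x * _ = _ * x
    rw [map_inv] at *
    simpa [mul_assoc, mul_inv_rev] using hτ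
  · intro y
    simp only [MulEquiv.trans_apply, MulAut.conj_inv_apply, MulAut.conj_apply]
    have e : ∀ w : T, h⁻¹ * (h * w * h⁻¹) * h = w := fun w => by group
    simp only [e, d.h3]
    group
  · intro y hy
    simp only [MulEquiv.trans_apply, MulAut.conj_inv_apply, MulAut.conj_apply] at hy
    have : d.σ (h⁻¹ * y * h) = h⁻¹ * y * h := by
      conv_rhs => rw [← hy]
      group
    have h1 := d.hfp _ this
    calc y = h * (h⁻¹ * y * h) * h⁻¹ := by group
      _ = 1 := by rw [h1]; group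

theorem commute_conj_two (x g : T) : Commute x (g * d.σ (d.σ x) * g⁻¹) := by
  have h1 := (d.commute_conj (d.σ (d.σ x)) g⁻¹)
  rw [d.h3] at h1
  have h2 := congrArg (fun w => g * w * g⁻¹) h1.eq
  show x * _ = _ * x
  simpa [mul_assoc, mul_inv_rev] using h2.symm

theorem commute_conj_self (x g : T) : Commute x (g * x * g⁻¹) := by
  have h1 := H63.SixtyFour.norm_one d.σ d.h3 d.hfp x
  have e : g * x * g⁻¹ = (g * d.σ x * g⁻¹ * (g * d.σ (d.σ x) * g⁻¹))⁻¹ := by
    rw [show g * d.σ x * g⁻¹ * (g * d.σ (d.σ x) * g⁻¹) = g * (d.σ x * d.σ (d.σ x)) * g⁻¹ by group,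
      show d.σ x * d.σ (d.σ x) = x⁻¹ from eq_inv_of_mul_eq_one_right (by rw [← mul_assoc]; exact h1)]
    group
  rw [e]
  exact ((d.commute_conj x g).mul_right (d.commute_conj_two x g)).inv_right

theorem cl_comm (x : T) : ∀ a ∈ d.cl x, ∀ b ∈ d.cl x, a * b = b * a := by
  have hconj : ∀ {u v : T}, (∀ g, Commute u (g * v * g⁻¹)) →
      ∀ g h : T, Commute (g * u * g⁻¹) (h * v * h⁻¹) := by
    intro u v huv g h
    have := congrArg (fun w => g * w * g⁻¹) (huv (g⁻¹ * h)).eq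
    show _ = _
    simpa [mul_assoc, mul_inv_rev] using this
  have key : ∀ a ∈ {y | ∃ g : T, y = g * x * g⁻¹ ∨ y = g * d.σ x * g⁻¹},
      ∀ b ∈ {y | ∃ g : T, y = g * x * g⁻¹ ∨ y = g * d.σ x * g⁻¹}, a * b = b * a := by
    rintro _ ⟨g, rfl | rfl⟩ _ ⟨h, rfl | rfl⟩
    · exact hconj (d.commute_conj_self x) g h
    · exact hconj (d.commute_conj x) g h
    · exact (hconj (d.commute_conj x) h g).symm
    · exact hconj (d.commute_conj_self (d.σ x)) g h
  have := Subgroup.isMulCommutative_closure key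
  intro a ha b hb
  exact congrArg Subtype.val (this.is_comm.comm (⟨a, ha⟩ : d.cl x) ⟨b, hb⟩)

theorem cl_normal (x : T) : (d.cl x).Normal := by
  refine ⟨fun n hn g => ?_⟩
  induction hn using Subgroup.closure_induction with
  | mem y hy =>
    obtain ⟨k, hk⟩ := hy
    refine Subgroup.subset_closure ⟨g * k, ?_⟩
    rcases hk with rfl | rfl
    · left; group
    · right; group
  | one => simp
  | mul a b _ _ ha hb =>
    rw [show g * (a * b) * g⁻¹ = (g * a * g⁻¹) * (g * b * g⁻¹) by group]; exact mul_mem ha hb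
  | inv a _ ha =>
    rw [show g * a⁻¹ * g⁻¹ = (g * a * g⁻¹)⁻¹ by group]; exact inv_mem ha

theorem cl_stable (x : T) : d.Stable (d.cl x) := by
  intro y hy
  have : (d.cl x).Normal := d.cl_normal x
  have hss : d.σ (d.σ x) ∈ d.cl x := by
    rw [show d.σ (d.σ x) = (x * d.σ x)⁻¹ from
      eq_inv_of_mul_eq_one_right (H63.SixtyFour.norm_one d.σ d.h3 d.hfp x)]
    exact inv_mem (mul_mem (d.mem_cl x) (Subgroup.subset_closure ⟨1, Or.inr (by group)⟩))
  induction hy using Subgroup.closure_induction with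
  | mem y hy =>
    obtain ⟨k, rfl | rfl⟩ := hy <;> rw [map_mul, map_mul, map_inv]
    · exact Subgroup.subset_closure ⟨d.σ k, Or.inr rfl⟩
    · exact this.conj_mem _ hss _
  | one => rw [map_one]; exact one_mem _
  | mul a b _ _ ha hb => rw [map_mul]; exact mul_mem ha hb
  | inv a _ ha => rw [map_inv]; exact inv_mem ha

omit d [Finite T] in
/-- Power formula when `c` commutes with both elements. -/
theorem pow_formula {a b c : T} (h : b * a = a * b * c) (ha : Commute c a) (hb : Commute c b) :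
    ∀ n : ℕ, b ^ n * a = a * b ^ n * c ^ n ∧ b * a ^ n = a ^ n * b * c ^ n ∧
      (a * b) ^ n = a ^ n * b ^ n * c ^ n.choose 2 := by
  intro n
  induction n with
  | zero => simp
  | succ n ih =>
    obtain ⟨h1, h2, h3⟩ := ih
    refine ⟨?_, ?_, ?_⟩
    · calc b ^ (n + 1) * a = b * (b ^ n * a) := by rw [pow_succ', mul_assoc]
        _ = b * (a * b ^ n * c ^ n) := by rw [h1]
        _ = (b * a) * b ^ n * c ^ n := by group
        _ = a * b * (c * b ^ n) * c ^ n := by rw [h]; group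
        _ = a * b * (b ^ n * c) * c ^ n := by rw [(hb.pow_right n).eq]
        _ = a * b ^ (n + 1) * c ^ (n + 1) := by rw [pow_succ' b, pow_succ' c]; group
    · calc b * a ^ (n + 1) = (b * a ^ n) * a := by rw [pow_succ, mul_assoc]
        _ = a ^ n * b * (c ^ n * a) := by rw [h2]; group
        _ = a ^ n * b * (a * c ^ n) := by rw [(ha.pow_left n).eq]
        _ = a ^ n * (b * a) * c ^ n := by group
        _ = a ^ (n + 1) * b * c ^ (n + 1) := by rw [h, pow_succ a, pow_succ' c]; group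
    · calc (a * b) ^ (n + 1) = a ^ n * b ^ n * (c ^ n.choose 2 * a) * b := by
            rw [pow_succ, h3]; group
        _ = a ^ n * (b ^ n * a) * (c ^ n.choose 2 * b) := by
            rw [(ha.pow_left _).eq]; group
        _ = a ^ n * a * b ^ n * (c ^ n * b) * c ^ n.choose 2 := by
            rw [h1, (hb.pow_left _).eq]; group
        _ = a ^ n * a * b ^ n * b * (c ^ n * c ^ n.choose 2) := by
            rw [(hb.pow_left n).eq]; group
        _ = _ := by
            rw [← pow_add, ← pow_succ, mul_assoc _ (b ^ n) b, ← pow_succ,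
              Nat.choose_succ_succ' n 1, Nat.choose_one_right]

/-- Two non-commuting stable abelian normal subgroups have order `16`, meeting in the `4` square
roots of `1`. -/
theorem pair_core (A B : Subgroup T) [A.Normal] [B.Normal] (hA : d.Stable A) (hB : d.Stable B)
    (hcA : ∀ u ∈ A, ∀ v ∈ A, u * v = v * u) (hcB : ∀ u ∈ B, ∀ v ∈ B, u * v = v * u)
    {a b : ℕ} (hexA : ∀ u ∈ A, u ^ 2 ^ a = 1) (hcardA : Nat.card A = 4 ^ a)
    (hexB : ∀ u ∈ B, u ^ 2 ^ b = 1) (hmaxB : ∃ y ∈ B, orderOf y = 2 ^ b)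
    (hcardB : Nat.card B = 4 ^ b) (hne : ∃ u ∈ A, ∃ v ∈ B, u * v ≠ v * u) (hba : b ≤ a) :
    a = 2 ∧ b = 2 ∧ ∀ g ∈ A ⊓ B, g ^ 2 = 1 := by
  obtain ⟨u₀, hu₀, v₀, hv₀, hne⟩ := hne
  let D := A ⊓ B
  obtain ⟨k, hexD, ⟨z, hzD, hzk⟩, hcardD, -⟩ := d.homocyclic D
    (fun x hx => ⟨hA x hx.1, hB x hx.2⟩) (fun u hu v hv => hcA u hu.1 v hv.1)
  -- commutators lie in `D`
  have hcD : ∀ u ∈ A, ∀ v ∈ B, (u * v)⁻¹ * (v * u) ∈ D := by
    intro u hu v hv
    refine Subgroup.mem_inf.2 ⟨?_, ?_⟩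
    · rw [show (u * v)⁻¹ * (v * u) = (v⁻¹ * u⁻¹ * v⁻¹⁻¹) * u by group]
      exact mul_mem (Subgroup.Normal.conj_mem inferInstance _ (inv_mem hu) _) hu
    · rw [show (u * v)⁻¹ * (v * u) = v⁻¹ * (u⁻¹ * v * u⁻¹⁻¹) by group]
      exact mul_mem (inv_mem hv) (Subgroup.Normal.conj_mem inferInstance _ hv _)
  have hDA : ∀ g ∈ D, ∀ u ∈ A, Commute g u := fun g hg u hu => hcA g hg.1 u hu
  have hDB : ∀ g ∈ D, ∀ v ∈ B, Commute g v := fun g hg v hv => hcB g hg.2 v hv
  -- `κ y v` is the commutator factor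
  let κ : T → T → T := fun y v => (v * y)⁻¹ * (y * v)
  have hκ : ∀ y v : T, y * v = v * y * κ y v := fun y v => by
    show _ = v * y * ((v * y)⁻¹ * (y * v)); group
  have hκD : ∀ y ∈ B, ∀ v ∈ A, κ y v ∈ D := fun y hy v hv => hcD v hv y hy
  have hF : ∀ y ∈ B, ∀ v ∈ A, ∀ n : ℕ, y ^ n * v = v * y ^ n * κ y v ^ n ∧
      y * v ^ n = v ^ n * y * κ y v ^ n ∧ (v * y) ^ n = v ^ n * y ^ n * κ y v ^ n.choose 2 :=
    fun y hy v hv n => pow_formula (hκ y v) (hDA _ (hκD y hy v hv) v hv)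
      (hDB _ (hκD y hy v hv) y hy) n
  have hkb : k ≤ b := by
    obtain ⟨-, hz⟩ := hzD
    have h := orderOf_dvd_iff_pow_eq_one.2 (hexB z hz)
    rw [hzk] at h
    exact (Nat.pow_dvd_pow_iff_le_right (le_refl 2)).1 h
  have hkb' : k < b := by
    refine lt_of_le_of_ne hkb fun h => hne ?_
    have hBD : D = B := Subgroup.eq_of_le_of_card_ge inf_le_right (by rw [hcardD, hcardB, h])
    exact hcA u₀ hu₀ v₀ (inf_le_left (a := A) (b := B) (hBD.ge hv₀))
  -- the elements of `B` of order dividing `2 ^ k` form `D`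
  have hBk : ∀ g ∈ B, g ^ 2 ^ k = 1 → g ∈ D := by
    let K : Subgroup T :=
      { carrier := {g | g ∈ B ∧ g ^ 2 ^ k = 1}
        one_mem' := ⟨one_mem _, one_pow _⟩
        mul_mem' := fun {p q} (hp : p ∈ B ∧ p ^ 2 ^ k = 1) (hq : q ∈ B ∧ q ^ 2 ^ k = 1) =>
          ⟨mul_mem hp.1 hq.1, by rw [Commute.mul_pow (hcB p hp.1 q hq.1), hp.2, hq.2, one_mul]⟩
        inv_mem' := fun {p} (hp : p ∈ B ∧ p ^ 2 ^ k = 1) =>
          ⟨inv_mem hp.1, by rw [inv_pow, hp.2, inv_one]⟩ }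
    have hDK : D ≤ K := fun g hg => ⟨hg.2, hexD g hg⟩
    have := Subgroup.eq_of_le_of_card_ge hDK (hcardD ▸
      d.card_le k K (fun p hp q hq => hcB p hp.1 q hq.1) (fun p hp => hp.2))
    intro g hg hgk
    exact this.ge ⟨hg, hgk⟩
  obtain ⟨y, hy, hyo⟩ := hmaxB
  obtain ⟨e, he⟩ : ∃ e, b = k + e + 1 := ⟨b - k - 1, by omega⟩
  have hA1 : A ≠ ⊥ := fun h => hne (by rw [(Subgroup.eq_bot_iff_forall A).1 h u₀ hu₀]; simp)
  have hB1 : B ≠ ⊥ := fun h => hne (by rw [(Subgroup.eq_bot_iff_forall B).1 h v₀ hv₀]; simp)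
  have hk1 : 1 ≤ k := by
    by_contra h
    have hbot : D = ⊥ := (Subgroup.eq_bot_iff_forall D).2 fun g hg => by
      have := hexD g hg
      rwa [show k = 0 by omega, pow_zero, pow_one] at this
    refine hne ?_
    have := hcD u₀ hu₀ v₀ hv₀
    rw [hbot, Subgroup.mem_bot, inv_mul_eq_one] at this
    exact this
  let m := 2 ^ (e + 1)
  have hm : m = 2 * 2 ^ e := by show 2 ^ (e + 1) = _; rw [pow_succ']
  have hC : Nat.choose m 2 = 2 ^ e * (m - 1) := by
    rw [Nat.choose_two_right, hm, mul_assoc, Nat.mul_div_cancel_left _ two_pos]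
  have hym : y ^ m ∈ D := hBk _ (pow_mem hy _) (by
    rw [← pow_mul]
    show y ^ (2 ^ (e + 1) * 2 ^ k) = 1
    rw [← pow_add, show e + 1 + k = b by omega]
    exact hexB y hy)
  -- no element of `A` cancels the power
  have hkey : ∀ v ∈ A, v ^ m * y ^ m * κ y v ^ (2 ^ e * (m - 1)) = 1 → False := by
    intro v hv h
    have hu : (v * y) ^ m = 1 := by rw [(hF y hy v hv m).2.2, hC]; exact h
    have h2 : ((v * y) ^ 2 ^ e) ^ 2 = 1 := by rw [← pow_mul, mul_comm, ← hm, hu]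
    have hmemA : (v * y) ^ 2 ^ e ∈ A := d.sq_roots_mem hA hA1 h2
    rw [(hF y hy v hv _).2.2] at hmemA
    have hyA : y ^ 2 ^ e ∈ A := by
      have h3 := mul_mem (mul_mem (inv_mem (pow_mem hv (2 ^ e))) hmemA)
        (inv_mem (pow_mem (hκD y hy v hv).1 ((2 ^ e).choose 2)))
      convert h3 using 1
      group
    have h4 := hexD _ ⟨hyA, pow_mem hy _⟩
    rw [← pow_mul, ← pow_add] at h4
    have h5 := orderOf_dvd_of_pow_eq_one h4
    rw [hyo, Nat.pow_dvd_pow_iff_le_right (le_refl 2)] at h5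
    omega
  -- an element of `A` with the inverse power
  obtain ⟨x₁, hx₁, hx₁e⟩ := d.exists_root A hcA hexA hcardA (k := k) (by omega)
    (inv_mem hym.1) (hexD _ (inv_mem hym))
  have hκm : ∀ v ∈ A, κ y v ^ m = 1 := by
    intro v hv
    have h1 := (hF y hy v hv m).1
    rw [(hDA _ hym v hv).eq] at h1
    exact mul_left_cancel (h1.symm.trans (mul_one _).symm)
  have hκsq : ∀ v ∈ A, κ y (v ^ 2) = κ y v ^ 2 := by
    intro v hv
    have h1 := (hF y hy v hv 2).2.1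
    rw [hκ y (v ^ 2)] at h1
    exact mul_left_cancel h1
  have hab : a = b := by
    refine le_antisymm ?_ hba
    by_contra hlt
    push Not at hlt
    obtain ⟨j, hj⟩ : ∃ j, a = b + j + 1 := ⟨a - b - 1, by omega⟩
    refine hkey ((x₁ ^ 2 ^ j) ^ 2) (pow_mem (pow_mem hx₁ _) _) ?_
    rw [hκsq _ (pow_mem hx₁ _), ← pow_mul (κ y _), ← mul_assoc 2, ← hm, pow_mul (κ y _),
      hκm _ (pow_mem hx₁ _), one_pow, mul_one,
      show ((x₁ ^ 2 ^ j) ^ 2) ^ m = x₁ ^ 2 ^ (a - k) by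
        rw [← pow_mul, ← pow_mul]
        congr 1
        show 2 ^ j * (2 * 2 ^ (e + 1)) = _
        rw [← pow_succ', ← pow_add]; congr 1; omega,
      hx₁e, inv_mul_cancel]
  have hroot : x₁ ^ m = (y ^ m)⁻¹ := by
    rw [← hx₁e]; congr 1; show 2 ^ (e + 1) = _; congr 1; omega
  have hk : k = 1 := by
    by_contra hk2
    let ε := κ y x₁ ^ (2 ^ e * (m - 1))
    have hε : ε ^ 2 = 1 := by
      show (κ y x₁ ^ (2 ^ e * (m - 1))) ^ 2 = 1
      rw [← pow_mul, show 2 ^ e * (m - 1) * 2 = m * (m - 1) by rw [hm]; ring, pow_mul,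
        hκm _ hx₁, one_pow]
    obtain ⟨t, ht, hte⟩ := d.exists_root A hcA hexA hcardA (k := 1) (by omega)
      (inv_mem (pow_mem (hκD y hy _ hx₁).1 _) : ε⁻¹ ∈ A) (by rw [pow_one, inv_pow, hε, inv_one])
    obtain ⟨k', hk'⟩ : ∃ k', k = k' + 2 := ⟨k - 2, by omega⟩
    let t₂ := t ^ 2 ^ k'
    have ht₂ : t₂ ∈ A := pow_mem ht _
    have htm : (t₂ ^ 2) ^ m = ε⁻¹ := by
      rw [← hte]
      show ((t ^ 2 ^ k') ^ 2) ^ 2 ^ (e + 1) = _
      rw [← pow_mul, ← pow_mul]
      congr 1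
      rw [← pow_succ', ← pow_add]; congr 1; omega
    have hmul : κ y (x₁ * t₂ ^ 2) = κ y x₁ * κ y (t₂ ^ 2) := by
      have hD := hκD y hy _ hx₁
      have hct := (hDA _ hD _ (pow_mem ht₂ 2)).eq
      have hcκ : Commute (κ y (t₂ ^ 2)) (κ y x₁) :=
        hDA _ (hκD y hy _ (pow_mem ht₂ 2)) _ hD.1
      refine mul_left_cancel (a := x₁ * t₂ ^ 2 * y) ?_
      rw [← hκ]
      calc y * (x₁ * t₂ ^ 2) = x₁ * y * (κ y x₁ * t₂ ^ 2) := by
            rw [← mul_assoc, hκ y x₁]; group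
        _ = x₁ * (y * t₂ ^ 2) * κ y x₁ := by rw [hct]; group
        _ = x₁ * t₂ ^ 2 * y * (κ y (t₂ ^ 2) * κ y x₁) := by rw [hκ y (t₂ ^ 2)]; group
        _ = _ := by rw [hcκ.eq]
    refine hkey (x₁ * t₂ ^ 2) (mul_mem hx₁ (pow_mem ht₂ 2)) ?_
    have hcε : Commute (κ y x₁) (κ y (t₂ ^ 2)) :=
      hDA _ (hκD y hy _ hx₁) _ (hκD y hy _ (pow_mem ht₂ 2)).1
    rw [hmul, hcε.mul_pow, hκsq _ ht₂, ← pow_mul (κ y t₂), ← mul_assoc 2, ← hm, pow_mul (κ y t₂),
      hκm _ ht₂, one_pow, mul_one, Commute.mul_pow (hcA _ hx₁ _ (pow_mem ht₂ 2)), hroot, htm]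
    have hyc : Commute ε (y ^ m) := (hDA _ hym _ (pow_mem (hκD y hy _ hx₁).1 _)).symm
    show (y ^ m)⁻¹ * ε⁻¹ * y ^ m * ε = 1
    rw [mul_assoc, mul_assoc, ← hyc.eq]
    group
  have he0 : e = 0 := by
    by_contra h
    refine hkey x₁ hx₁ ?_
    have h2 : κ y x₁ ^ 2 = 1 := by
      have := hexD _ (hκD y hy _ hx₁)
      rwa [hk, pow_one] at this
    have hev : 2 ∣ 2 ^ e * (m - 1) := Dvd.dvd.mul_right (dvd_pow_self 2 h) _
    obtain ⟨q, hq⟩ := hev
    rw [hq, pow_mul, h2, one_pow, mul_one, hroot, inv_mul_cancel]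
  refine ⟨by omega, by omega, fun g hg => ?_⟩
  have := hexD g hg
  rwa [hk, pow_one] at this

/-- The normal closures of two non-commuting elements. -/
theorem cl_pair {x y : T} (hne : x * y ≠ y * x) :
    Nat.card (d.cl x) = 16 ∧ x ^ 4 = 1 ∧ y ^ 4 = 1 ∧ ∀ g ∈ d.cl x ⊓ d.cl y, g ^ 2 = 1 := by
  have := d.cl_normal x
  have := d.cl_normal y
  obtain ⟨a, hexA, hmaxA, hcA, -⟩ := d.homocyclic (d.cl x) (d.cl_stable x) (d.cl_comm x)
  obtain ⟨b, hexB, hmaxB, hcB, -⟩ := d.homocyclic (d.cl y) (d.cl_stable y) (d.cl_comm y)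
  have hn1 : ∃ u ∈ d.cl x, ∃ v ∈ d.cl y, u * v ≠ v * u := ⟨x, d.mem_cl x, y, d.mem_cl y, hne⟩
  have hn2 : ∃ u ∈ d.cl y, ∃ v ∈ d.cl x, u * v ≠ v * u :=
    ⟨y, d.mem_cl y, x, d.mem_cl x, fun h => hne h.symm⟩
  obtain ⟨ha, hb, hD⟩ : a = 2 ∧ b = 2 ∧ ∀ g ∈ d.cl x ⊓ d.cl y, g ^ 2 = 1 := by
    rcases le_total b a with h | h
    · exact d.pair_core _ _ (d.cl_stable x) (d.cl_stable y) (d.cl_comm x) (d.cl_comm y) hexA hcA
        hexB hmaxB hcB hn1 h
    · obtain ⟨h1, h2, h3⟩ := d.pair_core _ _ (d.cl_stable y) (d.cl_stable x) (d.cl_comm y)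
        (d.cl_comm x) hexB hcB hexA hmaxA hcA hn2 h
      exact ⟨h2, h1, fun g hg => h3 g ⟨hg.2, hg.1⟩⟩
  subst ha hb
  exact ⟨by rw [hcA]; norm_num, by simpa using hexA x (d.mem_cl x),
    by simpa using hexB y (d.mem_cl y), hD⟩

/-- A non-abelian such group has order `64`. -/
theorem card_sixtyFour (hna : ¬ IsMulCommutative T) : Nat.card T = 64 := by
  classical
  have hnc : ∀ g : T, g ∉ Subgroup.center T → ∃ g', g * g' ≠ g' * g := by
    intro g hg
    by_contra h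
    push Not at h
    exact hg (Subgroup.mem_center_iff.2 fun g' => (h g').symm)
  obtain ⟨x, y, hxy⟩ : ∃ x y : T, x * y ≠ y * x := by
    by_contra h
    push Not at h
    exact hna ⟨⟨h⟩⟩
  -- central elements have order at most two
  have hcen : ∀ g ∈ Subgroup.center T, g ^ 2 = 1 := by
    intro g hg
    by_contra hg2
    obtain ⟨j, hj⟩ := IsPGroup.iff_orderOf.1 d.p2 g
    have hj2 : 2 ≤ j := by
      by_contra h
      refine hg2 (orderOf_dvd_iff_pow_eq_one.1 (hj ▸ ?_))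
      calc (2 : ℕ) ^ j ∣ 2 ^ 1 := pow_dvd_pow 2 (by omega)
        _ = 2 := pow_one 2
    obtain ⟨i, rfl⟩ : ∃ i, j = i + 2 := ⟨j - 2, by omega⟩
    set w := g ^ 2 ^ i with hw
    have hwo : orderOf w = 4 := by
      rw [hw, orderOf_pow' g (pow_ne_zero _ two_ne_zero), hj,
        Nat.gcd_eq_right (pow_dvd_pow 2 (by omega)), pow_add,
        Nat.mul_div_cancel_left _ (pow_pos two_pos _)]
      norm_num
    have hwc : w ∈ Subgroup.center T := pow_mem hg _
    let U : Subgroup T :=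
      { carrier := {q | ∃ c ∈ Subgroup.center T, c ^ 2 = q}
        one_mem' := ⟨1, one_mem _, one_pow _⟩
        mul_mem' := by
          rintro _ _ ⟨p, hp, rfl⟩ ⟨q, hq, rfl⟩
          exact ⟨p * q, mul_mem hp hq, (PGroups.commute_of_mem_center hp q).mul_pow 2⟩
        inv_mem' := by
          rintro _ ⟨p, hp, rfl⟩
          exact ⟨p⁻¹, inv_mem hp, inv_pow p 2⟩ }
    have hUs : d.Stable U := by
      rintro _ ⟨c, hc, rfl⟩
      exact ⟨d.σ c, H63.SixtyFour.Dat.map_center d.σ hc, (map_pow d.σ c 2).symm⟩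
    have hU1 : U ≠ ⊥ := fun h => by
      have := (Subgroup.eq_bot_iff_forall U).1 h (w ^ 2) ⟨w, hwc, rfl⟩
      have := orderOf_dvd_of_pow_eq_one this
      rw [hwo] at this
      norm_num at this
    have hy4 := (d.cl_pair hxy).2.2.1
    obtain ⟨c, hc, hce⟩ := d.sq_roots_mem hUs hU1
      (show (y ^ 2) ^ 2 = 1 by rw [← pow_mul]; exact hy4)
    have h2 : (y * c⁻¹) ^ 2 = 1 := by
      rw [(PGroups.commute_of_mem_center (inv_mem hc) y).symm.mul_pow, inv_pow, hce, mul_inv_cancel]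
    have hyc : y ∈ Subgroup.center T := by
      have := mul_mem (d.hz _ h2) hc
      rwa [inv_mul_cancel_right] at this
    exact hxy (Subgroup.mem_center_iff.1 hyc x)
  have hexp : ∀ g : T, g ^ 4 = 1 := by
    intro g
    by_cases hg : g ∈ Subgroup.center T
    · rw [show (4 : ℕ) = 2 * 2 from rfl, pow_mul, hcen g hg, one_pow]
    · obtain ⟨g', hg'⟩ := hnc g hg
      exact (d.cl_pair hg').2.1
  have hcom : ∀ p q : T, ⁅p, q⁆ ^ 2 = 1 := by
    intro p q
    by_cases h : p * q = q * p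
    · rw [commutatorElement_eq_one_iff_commute.2 h, one_pow]
    · refine (d.cl_pair h).2.2.2 _ (Subgroup.mem_inf.2 ⟨?_, ?_⟩)
      · rw [commutatorElement_def, mul_assoc, mul_assoc]
        exact mul_mem (d.mem_cl p) (by
          rw [← mul_assoc]
          exact (d.cl_normal p).conj_mem _ (inv_mem (d.mem_cl p)) q)
      · rw [commutatorElement_def]
        exact mul_mem ((d.cl_normal q).conj_mem _ (d.mem_cl q) p) (inv_mem (d.mem_cl q))
  refine le_antisymm (card_le_sixtyFour d.p2 hexp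
    (fun p q => ⟨d.hz _ (hcom p q), hcom p q⟩) d.hz d.hI) ?_
  -- the two closures
  obtain ⟨hx16, -, -, hD⟩ := d.cl_pair hxy
  obtain ⟨hy16, -, -, -⟩ := d.cl_pair (Ne.symm hxy)
  have hinf : Nat.card (d.cl x ⊓ d.cl y : Subgroup T) ≤ 4 := d.hI ▸ Nat.card_le_card_of_injective
    (fun g : (d.cl x ⊓ d.cl y : Subgroup T) => (⟨g.1, hD g g.2⟩ : {g : T // g ^ 2 = 1}))
    (fun a b h => Subtype.ext (congrArg (fun g : {g : T // g ^ 2 = 1} => (g : T)) h))
  have h1 : (d.cl x).relIndex (d.cl y) ≤ (d.cl x).index := by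
    rw [← Subgroup.relIndex_top_right]
    exact Subgroup.relIndex_le_of_le_right le_top (by
      rw [Subgroup.relIndex_top_right]; exact Subgroup.index_ne_zero_of_finite)
  have h2 := Subgroup.relIndex_mul_index (inf_le_right : d.cl x ⊓ d.cl y ≤ d.cl y)
  rw [Subgroup.inf_relIndex_right] at h2
  have h3 := Subgroup.card_mul_index (d.cl x)
  have h4 := Subgroup.card_mul_index (d.cl y)
  have h5 := Subgroup.card_mul_index (d.cl x ⊓ d.cl y)
  rw [hx16] at h3
  rw [hy16] at h4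
  have h6 : Nat.card (d.cl x ⊓ d.cl y : Subgroup T) * (d.cl x).relIndex (d.cl y) = 16 := by
    refine Nat.eq_of_mul_eq_mul_right (Nat.pos_of_ne_zero
      (Subgroup.index_ne_zero_of_finite (H := d.cl y))) ?_
    rw [mul_assoc, h2, h5, h4]
  have h7 : 4 ≤ (d.cl x).relIndex (d.cl y) := by nlinarith
  omega

end Hyp

end Cfsg.Agent.H28.RankTwo
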