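import Mathlib
import Cfsg.Agent.H63.SixtyFourModel

/-!
Non-abelian groups of order `64` with a fixed-point-free automorphism of order `3` whose square
roots of `1` are central are all isomorphic.
-/

set_option autoImplicit false
set_option linter.unusedSectionVars false
set_option linter.unusedSimpArgs false

namespace Cfsg.Agent.H28.RankTwo

open Subgroup H63.SixtyFour

variable {T : Type*} [Group T]

/-- the squares of the coordinates -/
def sqw (i : V2) : V2 := (i.1 + i.2, i.1)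

/-- multiplication in coordinates -/
def smul64 (p q : P6) : P6 :=
  (p.1 + q.1, p.2.1 + q.2.1, p.2.2 + q.2.2 + sqw (p.1 * q.1) + sqw (p.2.1 * q.2.1) + κ p.2.1 q.1)

theorem smul64_facts :
    (∀ p : P6, (smul64 p p).1 = 0 ∧ (smul64 p p).2.1 = 0) ∧
    (∀ a b : V2, (smul64 (a, b, 0) (a, b, 0)).2.2 = 0 → a = 0 ∧ b = 0) := by
  constructor
  · decide
  · decide

theorem smul64_div : ∀ p q : P6, ∃ r : P6, smul64 q r = p := by
  intro p q
  refine ⟨(p.1 + q.1, p.2.1 + q.2.1,
    p.2.2 + q.2.2 + sqw (q.1 * (p.1 + q.1)) + sqw (q.2.1 * (p.2.1 + q.2.1)) + κ q.2.1 (p.1 + q.1)), ?_⟩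
  have h : ∀ a b : V2, a + (b + a) = b := by decide
  have h' : ∀ p₃ q₃ s₁ s₂ s₃ : V2, q₃ + (p₃ + q₃ + s₁ + s₂ + s₃) + s₁ + s₂ + s₃ = p₃ := by
    intro p₃ q₃ s₁ s₂ s₃
    have h2 : ∀ a : V2, a + a = 0 := by decide
    calc q₃ + (p₃ + q₃ + s₁ + s₂ + s₃) + s₁ + s₂ + s₃
        = p₃ + (q₃ + q₃) + (s₁ + s₁) + (s₂ + s₂) + (s₃ + s₃) := by abel
      _ = p₃ := by rw [h2, h2, h2, h2]; simp
  refine Prod.ext (h _ _) (Prod.ext (h _ _) (h' _ _ _ _ _))

/-- carrying for commuting elements -/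
theorem pw2_mul_carry {g h : T} (hgh : g * h = h * g) (i j : V2) :
    pw2 g h i * pw2 g h j = pw2 g h (i + j) * pw2 (g * g) (h * h) (i * j) := by
  have v0 : (0 : ZMod 2).val = 0 := rfl
  have v1 : (1 : ZMod 2).val = 1 := rfl
  have e : (1 : ZMod 2) + 1 = 0 := rfl
  have k3 : ∀ x : T, h * (g * x) = g * (h * x) := fun x => by rw [← mul_assoc, ← hgh, mul_assoc]
  obtain ⟨i1, i2⟩ := i
  obtain ⟨j1, j2⟩ := j
  rcases bit_cases i1 with rfl | rfl <;> rcases bit_cases i2 with rfl | rfl <;>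
    rcases bit_cases j1 with rfl | rfl <;> rcases bit_cases j2 with rfl | rfl <;>
    simp [pw2, v0, v1, e, mul_assoc, k3, ← hgh]

theorem pw2_sqw {z w : T} (hz : z * z = 1) (hzw : z * w = w * z) (i : V2) :
    pw2 (z * w) z i = pw2 z w (sqw i) := by
  have v0 : (0 : ZMod 2).val = 0 := rfl
  have v1 : (1 : ZMod 2).val = 1 := rfl
  have e : (1 : ZMod 2) + 1 = 0 := rfl
  obtain ⟨i1, i2⟩ := i
  have h1 : z * w * z = w := by rw [hzw, mul_assoc, hz, mul_one]
  rcases bit_cases i1 with rfl | rfl <;> rcases bit_cases i2 with rfl | rfl <;>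
    simp [pw2, sqw, v0, v1, e, h1]

variable [Finite T]

/-- A frame: `c y x` generates the centre and both squares are determined by it. -/
def IsFrame (d : Dat T) (x y : T) : Prop :=
  Dat.c y x ≠ 1 ∧ x * x = Dat.c y x * d.σ (Dat.c y x) ∧ y * y = Dat.c y x * d.σ (Dat.c y x)

variable (d : Dat T)

/-- coordinate map -/
def coord (x y : T) (p : P6) : T :=
  pw2 x (d.σ x) p.1 * pw2 y (d.σ y) p.2.1 * pw2 (Dat.c y x) (d.σ (Dat.c y x)) p.2.2

theorem coord_mul {x y : T} (hf : IsFrame d x y) (p q : P6) :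
    coord d x y p * coord d x y q = coord d x y (smul64 p q) := by
  obtain ⟨-, hxx, hyy⟩ := hf
  obtain ⟨a, b, k⟩ := p
  obtain ⟨a', b', k'⟩ := q
  have hz := d.c_mem y x
  set z := Dat.c y x with hzdef
  set A := pw2 x (d.σ x)
  set B := pw2 y (d.σ y)
  set C := pw2 z (d.σ z)
  have hzs := Dat.map_center d.σ hz
  have hzw : z * d.σ z = d.σ z * z := (mem_center_iff.1 hz _).symm
  have hC : ∀ i j, C (i + j) = C i * C j := pw2_add (d.center_sq hz) (d.center_sq hzs) hzw
  have hcen : ∀ i g, g * C i = C i * g := fun i g => mem_center_iff.1 (d.pw2_center z hz i) g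
  have hs : d.σ (z * d.σ z) = z := by
    rw [map_mul, d.sigma_two z]
    have h2 : d.σ z * d.σ z = 1 := d.center_sq hzs
    rw [mul_inv_rev, ← mul_assoc, mul_inv_cancel, one_mul]
    exact inv_eq_of_mul_eq_one_right (d.center_sq hz)
  have hsx : d.σ x * d.σ x = z := by rw [← map_mul, hxx, hs]
  have hsy : d.σ y * d.σ y = z := by rw [← map_mul, hyy, hs]
  have hA : ∀ i j, A i * A j = A (i + j) * C (sqw (i * j)) := fun i j => by
    show pw2 x (d.σ x) i * pw2 x (d.σ x) j = _
    rw [pw2_mul_carry (comm_self d.σ d.h3 d.hfp x), hxx, hsx,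
      pw2_sqw (d.center_sq hz) hzw]
  have hB : ∀ i j, B i * B j = B (i + j) * C (sqw (i * j)) := fun i j => by
    show pw2 y (d.σ y) i * pw2 y (d.σ y) j = _
    rw [pw2_mul_carry (comm_self d.σ d.h3 d.hfp y), hyy, hsy,
      pw2_sqw (d.center_sq hz) hzw]
  have hBA : B b * A a' = C (κ b a') * (A a' * B b) := by
    rw [Dat.mul_eq, d.c_pw2]
  show A a * B b * C k * (A a' * B b' * C k') =
    A (a + a') * B (b + b') * C (k + k' + sqw (a * a') + sqw (b * b') + κ b a')
  calc A a * B b * C k * (A a' * B b' * C k')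
      = A a * B b * (C k * (A a' * B b')) * C k' := by simp only [mul_assoc]
    _ = A a * (B b * A a') * B b' * (C k * C k') := by
        rw [← hcen k (A a' * B b')]; simp only [mul_assoc]
    _ = (A a * A a') * (B b * B b') * (C (κ b a') * (C k * C k')) := by
        rw [hBA, ← hcen (κ b a') (A a' * B b)]
        rw [show A a * (A a' * B b * C (κ b a')) * B b' * (C k * C k') =
          A a * A a' * B b * (C (κ b a') * B b') * (C k * C k') by simp only [mul_assoc],
          ← hcen (κ b a') (B b')]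
        simp only [mul_assoc]
    _ = A (a + a') * B (b + b') *
          (C (sqw (a * a')) * C (sqw (b * b')) * (C (κ b a') * (C k * C k'))) := by
        rw [hA, hB, show A (a + a') * C (sqw (a * a')) * (B (b + b') * C (sqw (b * b'))) =
          A (a + a') * (C (sqw (a * a')) * B (b + b')) * C (sqw (b * b')) by simp only [mul_assoc],
          ← hcen (sqw (a * a')) (B (b + b'))]
        simp only [mul_assoc]
    _ = _ := by
        congr 1
        rw [← hC, ← hC, ← hC, ← hC]
        congr 1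
        abel

theorem coord_injective {x y : T} (hf : IsFrame d x y) : Function.Injective (coord d x y) := by
  have hz := d.c_mem y x
  obtain ⟨h1, h2, h3, -⟩ := d.center_elts hz hf.1
  have hCinj : Function.Injective (pw2 (Dat.c y x) (d.σ (Dat.c y x))) :=
    pw2_inj hf.1 h1 h3 h2.symm (d.center_sq hz) (d.center_sq (Dat.map_center d.σ hz))
  have h0 : pw2 (Dat.c y x) (d.σ (Dat.c y x)) 0 = 1 := by simp [pw2]
  have hthird : ∀ k : V2, coord d x y (0, 0, k) = pw2 (Dat.c y x) (d.σ (Dat.c y x)) k := by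
    intro k; simp [coord, pw2]
  have hker : ∀ p : P6, coord d x y p = 1 → p = 0 := by
    rintro ⟨a, b, k⟩ h
    have hsq := coord_mul d hf (a, b, k) (a, b, k)
    rw [h, one_mul] at hsq
    obtain ⟨e1, e2⟩ := smul64_facts.1 (a, b, k)
    have hk2 : (smul64 (a, b, k) (a, b, k)).2.2 = (smul64 (a, b, 0) (a, b, 0)).2.2 := by
      have : ∀ u : V2, u + u = 0 := by decide
      simp [smul64, this]
    rw [show smul64 (a, b, k) (a, b, k) = (0, 0, (smul64 (a, b, k) (a, b, k)).2.2) from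
      Prod.ext e1 (Prod.ext e2 rfl), hthird, hk2, ← h0] at hsq
    obtain ⟨rfl, rfl⟩ := smul64_facts.2 a b (hCinj hsq).symm
    have hk := h
    rw [hthird, ← h0] at hk
    rw [hCinj hk]; rfl
  intro p q hpq
  obtain ⟨r, hr⟩ := smul64_div p q
  have h := coord_mul d hf q r
  rw [hr, hpq, mul_eq_left] at h
  have h1 : ∀ u : P6, smul64 u 0 = u := by decide
  rw [← hr, hker r h, h1]

include d in
/-- A frame exists, after possibly replacing the automorphism by its square. -/
theorem exists_frame (hsq : ∀ g : T, g * g = 1 → g ∈ center T) :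
    ∃ (d' : Dat T) (x y : T), IsFrame d' x y := by
  classical
  haveI : Finite (center T) := inferInstance
  obtain ⟨x, hx⟩ : ∃ x, x ∉ center T := by
    by_contra h
    push Not at h
    exact d.hna ⟨⟨fun a b => mem_center_iff.1 (h b) a⟩⟩
  obtain ⟨y₀, hy₀⟩ : ∃ y, Dat.c x y ≠ 1 := by
    by_contra h
    push Not at h
    refine hx (mem_center_iff.2 fun g => ?_)
    have := Dat.mul_eq x g
    rw [h g, one_mul] at this
    exact this.symm
  set z := x * x with hzdef
  have hz : z ∈ center T := d.sq_mem x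
  have hz1 : z ≠ 1 := fun h => hx (hsq x h)
  obtain ⟨hs1, hsz, hp1, hss⟩ := d.center_elts hz hz1
  -- the centre
  have hZ : ∀ w ∈ center T, w ≠ 1 → w = z ∨ w = d.σ z ∨ w = d.σ (d.σ z) := by
    intro w hw hw1
    have := Fintype.ofFinite (center T)
    have hS : ({1, ⟨z, hz⟩, ⟨d.σ z, Dat.map_center d.σ hz⟩,
        ⟨z * d.σ z, mul_mem hz (Dat.map_center d.σ hz)⟩} : Finset (center T)) = Finset.univ := by
      refine Finset.eq_univ_of_card _ ?_
      rw [← Nat.card_eq_fintype_card, d.card_center,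
        Finset.card_insert_of_notMem (by simp [Subtype.ext_iff, Ne.symm hz1, Ne.symm hs1, Ne.symm hp1]),
        Finset.card_insert_of_notMem (by simp [Subtype.ext_iff, Ne.symm hsz, hs1]),
        Finset.card_insert_of_notMem (by simp [Subtype.ext_iff, hz1]), Finset.card_singleton]
    have hmem : (⟨w, hw⟩ : center T) ∈ _ := hS.ge (Finset.mem_univ _)
    simp only [Finset.mem_insert, Finset.mem_singleton, Subtype.ext_iff] at hmem
    rw [hss]
    rcases hmem with h | h | h | h
    · exact absurd h hw1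
    all_goals tauto
  have hy₀c : y₀ ∉ center T := fun h => hy₀ (by rw [d.c_comm, Dat.c_central_left h])
  -- choose `y` with the same square
  obtain ⟨y, hy, hyz⟩ : ∃ y, Dat.c x y ≠ 1 ∧ y * y = z := by
    have hmv : ∀ y, Dat.c x y ≠ 1 → Dat.c x (d.σ y) ≠ 1 := by
      intro y hy h
      obtain ⟨e, -⟩ := d.cross x y
      rw [h] at e
      obtain ⟨-, -, h3, -⟩ := d.center_elts (d.c_mem x y) hy
      exact h3 e.symm
    have ht1 : y₀ * y₀ ≠ 1 := fun h => hy₀c (hsq _ h)
    rcases hZ _ (d.sq_mem y₀) ht1 with h | h | h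
    · exact ⟨y₀, hy₀, h⟩
    · exact ⟨d.σ (d.σ y₀), hmv _ (hmv _ hy₀), by rw [← map_mul, ← map_mul, h, d.h3]⟩
    · exact ⟨d.σ y₀, hmv _ hy₀, by rw [← map_mul, h, d.h3]⟩
  set w := Dat.c x y with hwdef
  have hw : w ∈ center T := d.c_mem x y
  have hwne : w ≠ z := by
    intro h
    obtain ⟨e1, -⟩ := d.cross x y
    rw [← hwdef, h] at e1
    have hc : Dat.c (d.σ y) x = z * d.σ z := by rw [d.c_comm, e1]
    have hcs : (x * d.σ y) * (x * d.σ y) = 1 := by
      have e2 := Dat.mul_eq (d.σ y) x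
      rw [hc] at e2
      calc x * d.σ y * (x * d.σ y) = x * (d.σ y * x) * d.σ y := by simp only [mul_assoc]
        _ = (z * d.σ z) * (x * x * (d.σ y * d.σ y)) := by
            rw [e2, ← mul_assoc x, mem_center_iff.1 (mul_mem hz (Dat.map_center d.σ hz)) x]
            simp only [mul_assoc]
        _ = (z * d.σ z) * (z * d.σ z) := by rw [← map_mul, hyz]
        _ = 1 := d.center_sq (mul_mem hz (Dat.map_center d.σ hz))
    have := Dat.c_central_left (hsq _ hcs) x
    rw [d.c_mul_left, Dat.c_self, one_mul, hc] at this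
    exact hp1 this
  rcases hZ w hw hy with h | h | h
  · exact absurd h hwne
  · refine ⟨d, x, y, ?_, ?_, ?_⟩ <;> rw [d.c_comm, ← hwdef, h]
    · exact hs1
    all_goals rw [← d.center_elts (Dat.map_center d.σ hz) hs1 |>.2.2.2, d.h3]
    exact hyz
  · let d' : Dat T :=
      ⟨d.σ.trans d.σ, fun u => by simp only [MulEquiv.trans_apply, d.h3],
        sq_fp d.σ d.h3 d.hfp, d.card, d.hna⟩
    have hs' : d'.σ z = d.σ (d.σ z) := rfl
    have hne' : d'.σ z ≠ 1 := fun e => hz1 ((MulEquiv.map_eq_one_iff _).1 e)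
    refine ⟨d', x, y, ?_, ?_, ?_⟩ <;> rw [d.c_comm, ← hwdef, h, ← hs']
    · exact hne'
    all_goals rw [← d'.center_elts (Dat.map_center d'.σ hz) hne' |>.2.2.2, d'.h3]
    exact hyz

/-- Two such groups are isomorphic. -/
theorem nonempty_mulEquiv {T' : Type*} [Group T'] [Finite T'] (d₁ : Dat T) (d₂ : Dat T')
    (h₁ : ∀ g : T, g * g = 1 → g ∈ center T) (h₂ : ∀ g : T', g * g = 1 → g ∈ center T') :
    Nonempty (T ≃* T') := by
  obtain ⟨e₁, x₁, y₁, f₁⟩ := exists_frame d₁ h₁
  obtain ⟨e₂, x₂, y₂, f₂⟩ := exists_frame d₂ h₂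
  have hP : Nat.card P6 = 64 := by simp [Nat.card_eq_fintype_card]
  have b₁ : Function.Bijective (coord e₁ x₁ y₁) :=
    (coord_injective e₁ f₁).bijective_of_nat_card_le (by rw [hP, e₁.card])
  have b₂ : Function.Bijective (coord e₂ x₂ y₂) :=
    (coord_injective e₂ f₂).bijective_of_nat_card_le (by rw [hP, e₂.card])
  refine ⟨{ toEquiv := (Equiv.ofBijective _ b₁).symm.trans (Equiv.ofBijective _ b₂),
            map_mul' := fun g g' => ?_ }⟩
  obtain ⟨p, rfl⟩ := b₁.2 g
  obtain ⟨q, rfl⟩ := b₁.2 g'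
  show Equiv.ofBijective _ b₂ ((Equiv.ofBijective _ b₁).symm (coord e₁ x₁ y₁ p * coord e₁ x₁ y₁ q)) =
    Equiv.ofBijective _ b₂ ((Equiv.ofBijective _ b₁).symm (coord e₁ x₁ y₁ p)) *
      Equiv.ofBijective _ b₂ ((Equiv.ofBijective _ b₁).symm (coord e₁ x₁ y₁ q))
  rw [coord_mul e₁ f₁, Equiv.ofBijective_symm_apply_apply, Equiv.ofBijective_symm_apply_apply,
    Equiv.ofBijective_symm_apply_apply]
  exact (coord_mul e₂ f₂ p q).symm

end Cfsg.Agent.H28.RankTwo
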