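import Mathlib
import Cfsg.Agent.PGroups.Critical
import Cfsg.Prelude.Def_CaseTheorems
import Cfsg.Agent.S1898
import Cfsg.Agent.H28.RankTwoSq

/-!
A `2`-group with exactly three involutions, all central, cyclically permuted by an automorphism
has such an automorphism of order exactly `3`, and it is fixed-point-free.
-/

set_option autoImplicit false
set_option linter.unusedSectionVars false

namespace Cfsg.Agent.H28.RankTwo

open scoped commutatorElement

variable {T : Type*} [Group T] [Finite T]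

/-- The `4`-torsion of a subgroup with central elementary commutators. -/
theorem exists_omega_two (hT : IsPGroup 2 T) (C : Subgroup T)
    (hfr : (frattini C).map C.subtype ≤ Subgroup.centralizer (C : Set T)) :
    ∃ W : Subgroup T, (∀ g : T, g ∈ W ↔ g ∈ C ∧ g ^ 4 = 1) ∧
      (∀ a b : W, ⁅a, b⁆ ∈ Subgroup.center W ∧ ⁅a, b⁆ ^ 2 = 1) ∧
      ∀ φ : MulAut C, (∀ g : C, g ^ 4 = 1 → φ g = g) → ∃ k : ℕ, φ ^ (2 ^ k) = 1 := by
  have : Fact (Nat.Prime 2) := ⟨Nat.prime_two⟩
  have hC : IsPGroup 2 C := hT.to_subgroup C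
  have hfc : frattini C ≤ Subgroup.center C := fun f hf => Subgroup.mem_center_iff.2 fun c =>
    Subtype.ext (Subgroup.mem_centralizer_iff.1 (hfr ⟨f, hf, rfl⟩) c.1 c.2)
  have hcc : commutator C ≤ Subgroup.center C :=
    (PGroups.commutator_le_frattini hC).trans hfc
  have hsq : ∀ x : C, x ^ 2 ∈ Subgroup.center C := fun x => hfc (PGroups.pow_mem_frattini hC x)
  have hmc : ∀ a b : C, ⁅a, b⁆ ∈ Subgroup.center C := fun a b =>
    hcc (Subgroup.commutator_mem_commutator (Subgroup.mem_top a) (Subgroup.mem_top b))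
  have hc2 : ∀ a b : C, ⁅a, b⁆ ^ 2 = 1 := fun a b => by
    rw [← PGroups.commutatorElement_pow_left_of_mem_center (hmc a b),
      commutatorElement_eq_one_iff_commute.2 (PGroups.commute_of_mem_center (hsq a) b)]
  have hel : Cfsg.IsElementaryAbelian 2 (commutator C) := by
    refine ⟨⟨⟨fun a b => Subtype.ext (Subgroup.mem_center_iff.1 (hcc b.2) a.1)⟩⟩, fun x hx => ?_⟩
    rw [commutator_eq_closure] at hx
    induction hx using Subgroup.closure_induction with
    | mem x hx => obtain ⟨a, b, rfl⟩ := hx; exact hc2 a b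
    | one => exact one_pow _
    | mul x y hx hy h1 h2 =>
      have hxc : x ∈ Subgroup.center C := hcc (by rw [commutator_eq_closure]; exact hx)
      rw [(PGroups.commute_of_mem_center hxc y).mul_pow, h1, h2, one_mul]
    | inv x _ h1 => rw [inv_pow, h1, inv_one]
  obtain ⟨h4, hφ⟩ := Cfsg.Agent.S1898.result hC hel hcc
  refine ⟨{ carrier := {g | g ∈ C ∧ g ^ 4 = 1}
            one_mem' := ⟨one_mem _, one_pow _⟩
            mul_mem' := ?_
            inv_mem' := fun {x} hx => ⟨inv_mem hx.1, by rw [inv_pow, hx.2, inv_one]⟩ },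
    fun g => Iff.rfl, ?_, hφ⟩
  · rintro a b ⟨ha, ha4⟩ ⟨hb, hb4⟩
    refine ⟨mul_mem ha hb, ?_⟩
    have := h4 (⟨a, ha⟩ * ⟨b, hb⟩) (mul_mem (Subgroup.subset_closure (Subtype.ext ha4))
      (Subgroup.subset_closure (Subtype.ext hb4)))
    exact congrArg Subtype.val this
  · intro a b
    constructor
    · refine Subgroup.mem_center_iff.2 fun c => Subtype.ext ?_
      have := Subgroup.mem_center_iff.1 (hmc ⟨a.1, a.2.1⟩ ⟨b.1, b.2.1⟩) ⟨c.1, c.2.1⟩
      have h' := congrArg Subtype.val this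
      simpa [commutatorElement_def] using h'
    · refine Subtype.ext ?_
      have h' := congrArg (fun t : C => (t : T)) (hc2 ⟨a.1, a.2.1⟩ ⟨b.1, b.2.1⟩)
      simpa [commutatorElement_def] using h'

/-- An automorphism of order `3 ^ s` fixing no involution has order `3`. -/
theorem order_three (hT : IsPGroup 2 T) (hz : ∀ x : T, x ^ 2 = 1 → x ∈ Subgroup.center T)
    (hI : Nat.card {x : T // x ^ 2 = 1} = 4) (ψ : MulAut T) (s : ℕ) (hs : orderOf ψ = 3 ^ s)
    (h3 : ∀ x : T, x ^ 2 = 1 → (ψ ^ 3) x = x) : ψ ^ 3 = 1 := by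
  classical
  have : Fact (Nat.Prime 2) := ⟨Nat.prime_two⟩
  by_contra hne
  have hs2 : 2 ≤ s := by
    by_contra h
    refine hne (orderOf_dvd_iff_pow_eq_one.1 (hs ▸ ?_))
    calc (3 : ℕ) ^ s ∣ 3 ^ 1 := pow_dvd_pow 3 (by omega)
      _ = 3 := pow_one 3
  obtain ⟨t, rfl⟩ : ∃ t, s = t + 2 := ⟨s - 2, by omega⟩
  let σ := ψ ^ (3 ^ (t + 1))
  have hσ : orderOf σ = 3 := by
    show orderOf (ψ ^ (3 ^ (t + 1))) = 3
    rw [orderOf_pow' ψ (pow_ne_zero _ (by norm_num)), hs,
      Nat.gcd_eq_right (pow_dvd_pow 3 (by omega)), pow_succ 3 (t + 1),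
      Nat.mul_div_cancel_left _ (pow_pos (by norm_num) _)]
  have hσI : ∀ x : T, x ^ 2 = 1 → σ x = x := fun x hx => by
    show (ψ ^ (3 ^ (t + 1))) x = x
    rw [pow_succ', pow_mul]
    generalize 3 ^ t = n
    induction n with
    | zero => rfl
    | succ n ih => rw [pow_succ, MulAut.mul_apply, h3 x hx, ih]
  obtain ⟨C, hCchar, hfr, -, hCC⟩ := PGroups.exists_critical hT
  obtain ⟨W, hW, hWc, hWaut⟩ := exists_omega_two hT C hfr
  have hWψ : ∀ (f : MulAut T) (g : T), g ∈ W → f g ∈ W := fun f g hg => by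
    rw [hW] at hg ⊢
    exact ⟨(PGroups.apply_mem_iff_of_characteristic hCchar f).2 hg.1, by
      rw [← map_pow, hg.2, map_one]⟩
  have hIW : ∀ x : T, x ^ 2 = 1 → x ∈ W := fun x hx => by
    rw [hW]
    refine ⟨hCC (Subgroup.mem_centralizer_iff.2 fun h _ => ?_), by
      rw [show (4 : ℕ) = 2 * 2 from rfl, pow_mul, hx, one_pow]⟩
    exact Subgroup.mem_center_iff.1 (hz x hx) h
  -- the subgroup `W` is small
  have hW64 : Nat.card W ≤ 64 := by
    refine card_le_sixtyFour (hT.to_subgroup W) (fun x => Subtype.ext ((hW x.1).1 x.2).2) hWc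
      (fun x hx => Subgroup.mem_center_iff.2 fun y => Subtype.ext
        (Subgroup.mem_center_iff.1 (hz x.1 (congrArg Subtype.val hx)) y.1)) ?_
    rw [← hI]
    exact Nat.card_congr
      { toFun := fun x => ⟨x.1.1, congrArg Subtype.val x.2⟩
        invFun := fun x => ⟨⟨x.1, hIW x.1 x.2⟩, Subtype.ext x.2⟩
        left_inv := fun _ => rfl
        right_inv := fun _ => rfl }
  -- the fixed points of `σ` in `W`
  let W₀ : Subgroup T := W ⊓ σ.toMonoidHom.eqLocus (MonoidHom.id T)
  have hW0 : ∀ g : T, g ∈ W₀ ↔ g ∈ W ∧ σ g = g := fun g => Iff.rfl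
  have hWeq : W₀ = W := by
    let X := {g : T // g ∈ W ∧ g ∉ W₀}
    have hcomm : ∀ k ∈ Subgroup.zpowers ψ, σ * k = k * σ := by
      rintro _ ⟨i, rfl⟩
      exact ((Commute.refl ψ).pow_left _).zpow_right i
    letI act : MulAction (Subgroup.zpowers ψ) X :=
      { smul := fun k x => ⟨(k : MulAut T) x.1, hWψ k _ x.2.1, fun h => x.2.2 (by
          rw [hW0] at h ⊢
          refine ⟨x.2.1, ?_⟩
          have h2 := h.2
          rw [← MulAut.mul_apply, hcomm _ k.2, MulAut.mul_apply] at h2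
          exact (k : MulAut T).injective h2)⟩
        one_smul := fun x => Subtype.ext rfl
        mul_smul := fun a b x => Subtype.ext rfl }
    have hfree : ∀ x : X, MulAction.stabilizer (Subgroup.zpowers ψ) x = ⊥ := by
      intro x
      rw [Subgroup.eq_bot_iff_forall]
      rintro ⟨k, hk⟩ hkx
      by_contra hk1
      refine x.2.2 ((hW0 _).2 ⟨x.2.1, ?_⟩)
      have hkx' : k x.1 = x.1 := congrArg Subtype.val hkx
      obtain ⟨i, rfl⟩ := Subgroup.mem_zpowers_iff.1 hk
      -- every non-trivial power generates a subgroup containing `σ`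
      have hσk : σ ∈ Subgroup.zpowers (ψ ^ i) := by
        have hdvd : orderOf (ψ ^ i) ∣ 3 ^ (t + 2) := by
          rw [← hs]
          exact orderOf_dvd_of_pow_eq_one (by
            rw [← zpow_natCast, ← zpow_mul, mul_comm, zpow_mul, zpow_natCast, pow_orderOf_eq_one,
              one_zpow])
        obtain ⟨j, hj, hord⟩ := (Nat.dvd_prime_pow Nat.prime_three).1 hdvd
        have hj1 : 1 ≤ j := by
          by_contra h
          refine hk1 (Subtype.ext ?_)
          show ψ ^ i = 1
          exact orderOf_eq_one_iff.1 (by rw [hord, show j = 0 by omega, pow_zero])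
        have hle : Subgroup.zpowers (ψ ^ i) ≤ Subgroup.zpowers ψ :=
          Subgroup.zpowers_le.2 ⟨i, rfl⟩
        -- in a cyclic group, compare orders
        obtain ⟨u, hu⟩ : ∃ u, u = (ψ ^ i) ^ (3 ^ (j - 1)) := ⟨_, rfl⟩
        have hu3 : orderOf u = 3 := by
          rw [hu, orderOf_pow' _ (pow_ne_zero _ (by norm_num)), hord,
            Nat.gcd_eq_right (pow_dvd_pow 3 (by omega))]
          obtain ⟨j', rfl⟩ : ∃ j', j = j' + 1 := ⟨j - 1, by omega⟩
          rw [Nat.add_sub_cancel, pow_succ, Nat.mul_div_cancel_left _ (pow_pos (by norm_num) _)]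
        have hσz : σ ∈ Subgroup.zpowers ψ := ⟨(3 ^ (t + 1) : ℕ), zpow_natCast ψ _⟩
        have huz : u ∈ Subgroup.zpowers ψ := hu ▸ pow_mem (hle (Subgroup.mem_zpowers _)) _
        have heq : Subgroup.zpowers (⟨u, huz⟩ : Subgroup.zpowers ψ) =
            Subgroup.zpowers ⟨σ, hσz⟩ := by
          have := Fintype.ofFinite (Subgroup.zpowers ψ)
          let K := Finset.univ.filter fun a : Subgroup.zpowers ψ => a ^ 3 = 1
          have hK : ∀ a : Subgroup.zpowers ψ, orderOf a = 3 →
              ∀ b, b ∈ Subgroup.zpowers a ↔ b ∈ K := by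
            intro a ha
            have hsub : (Finset.univ.filter (· ∈ Subgroup.zpowers a)) = K := by
              refine Finset.eq_of_subset_of_card_le ?_ ?_
              · intro b hb
                simp only [Finset.mem_filter, Finset.mem_univ, true_and, K] at hb ⊢
                obtain ⟨l, rfl⟩ := Subgroup.mem_zpowers_iff.1 hb
                rw [← zpow_natCast, ← zpow_mul, mul_comm, zpow_mul, zpow_natCast, ← ha,
                  pow_orderOf_eq_one, one_zpow]
              · refine le_trans (IsCyclic.card_pow_eq_one_le (by norm_num)) (le_of_eq ?_)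
                rw [← ha, ← Nat.card_zpowers, Nat.card_eq_fintype_card, Fintype.card_subtype]
            intro b
            rw [← hsub]; simp
          ext b
          rw [hK _ (by rw [Subgroup.orderOf_mk, hu3]), hK _ (by rw [Subgroup.orderOf_mk, hσ])]
        have hmem : (⟨σ, hσz⟩ : Subgroup.zpowers ψ) ∈ Subgroup.zpowers ⟨u, huz⟩ :=
          heq ▸ Subgroup.mem_zpowers _
        obtain ⟨l, hl⟩ := Subgroup.mem_zpowers_iff.1 hmem
        refine Subgroup.zpowers_le.2 (hu ▸ pow_mem (Subgroup.mem_zpowers _) _) ?_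
        exact ⟨l, congrArg Subtype.val hl⟩
      have hfix : Subgroup.zpowers (ψ ^ i) ≤ MulAction.stabilizer (MulAut T) x.1 :=
        Subgroup.zpowers_le.2 hkx'
      exact hfix hσk
    have hcard := Nat.card_congr (MulAction.selfEquivOrbitsQuotientProd hfree)
    rw [Nat.card_prod, Nat.card_zpowers, hs] at hcard
    have hsum : Nat.card W = Nat.card W₀ + Nat.card X := by
      rw [← Nat.card_sum]
      exact Nat.card_congr
        { toFun := fun g => if h : g.1 ∈ W₀ then Sum.inl ⟨g.1, h⟩ else Sum.inr ⟨g.1, g.2, h⟩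
          invFun := Sum.elim (fun g => ⟨g.1, g.2.1⟩) (fun g => ⟨g.1, g.2.1⟩)
          left_inv := fun g => by dsimp only; split_ifs <;> rfl
          right_inv := fun g => by
            rcases g with g | g
            · simp [g.2]
            · simp [g.2.2] }
    obtain ⟨a, ha⟩ := (hT.to_subgroup W).exists_card_eq
    obtain ⟨b, hb⟩ := (hT.to_subgroup W₀).exists_card_eq
    have hb2 : 2 ≤ b := by
      have h4 : 4 ≤ Nat.card W₀ := hI ▸ Nat.card_le_card_of_injective
        (fun x : {x : T // x ^ 2 = 1} => (⟨x.1, hIW _ x.2, hσI _ x.2⟩ : W₀))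
        (fun p q h => Subtype.ext (congrArg (fun g : W₀ => (g : T)) h))
      by_contra h
      have : 2 ^ b ≤ 2 ^ 1 := Nat.pow_le_pow_right (by norm_num) (by omega)
      omega
    have ha6 : a ≤ 6 := (Nat.pow_le_pow_iff_right (le_refl 2)).1
      (show 2 ^ a ≤ 2 ^ 6 by rw [← ha]; exact hW64)
    have hba : b ≤ a := (Nat.pow_le_pow_iff_right (le_refl 2)).1
      (show 2 ^ b ≤ 2 ^ a by rw [← ha, ← hb]; exact Subgroup.card_le_of_le inf_le_left)
    have h9 : 9 ∣ 2 ^ a - 2 ^ b := by
      rw [← ha, ← hb, hsum, Nat.add_sub_cancel_left, hcard, pow_add]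
      exact Dvd.dvd.mul_left (Dvd.dvd.mul_left (by norm_num) _) _
    have hab : a = b := by
      interval_cases a <;> interval_cases b <;> norm_num at h9 <;> rfl
    exact Subgroup.eq_of_le_of_card_ge inf_le_left (by rw [ha, hb, hab])
  -- hence `σ` fixes the critical subgroup, so is trivial
  let σC : MulAut C :=
    { toFun := fun c => ⟨σ c, (PGroups.apply_mem_iff_of_characteristic hCchar σ).2 c.2⟩
      invFun := fun c => ⟨σ.symm c, (PGroups.apply_mem_iff_of_characteristic hCchar σ.symm).2 c.2⟩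
      left_inv := fun c => Subtype.ext (σ.symm_apply_apply c.1)
      right_inv := fun c => Subtype.ext (σ.apply_symm_apply c.1)
      map_mul' := fun a b => Subtype.ext (map_mul σ a.1 b.1) }
  have hpow : ∀ (n : ℕ) (c : C), ((σC ^ n) c : T) = (σ ^ n) c := by
    intro n
    induction n with
    | zero => intro c; rfl
    | succ n ih =>
      intro c
      rw [pow_succ', pow_succ', MulAut.mul_apply, MulAut.mul_apply, ← ih]
      rfl
  obtain ⟨k, hk⟩ := hWaut σC fun g hg => Subtype.ext (by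
    have : g.1 ∈ W₀ := hWeq.ge ((hW _).2 ⟨g.2, congrArg Subtype.val hg⟩)
    exact this.2)
  have hσC3 : σC ^ 3 = 1 := MulEquiv.ext fun c => Subtype.ext (by
    rw [hpow, ← hσ, pow_orderOf_eq_one]; rfl)
  have hσC : σC = 1 := by
    have h1 : orderOf σC ∣ 3 := orderOf_dvd_of_pow_eq_one hσC3
    have h2 : orderOf σC ∣ 2 ^ k := orderOf_dvd_of_pow_eq_one hk
    exact orderOf_eq_one_iff.1 (Nat.eq_one_of_dvd_coprimes
      (Nat.Coprime.pow_right k (by norm_num : Nat.Coprime 3 2)) h1 h2)
  have := hCchar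
  have h1 : σ = 1 := PGroups.mulAut_eq_one_of_fixed hT C hCC σ
    (by rw [hσ]; norm_num) (fun x hx => congrArg (fun f : MulAut C => ((f ⟨x, hx⟩ : C) : T)) hσC)
  rw [h1, orderOf_one] at hσ
  norm_num at hσ

/-- The setting: four square roots of `1` and an automorphism of order `3` without fixed points. -/
theorem exists_fpf (hT : IsPGroup 2 T) (h2 : Cfsg.PRankLE 2 2 T) (h1 : ¬ Cfsg.PRankLE 2 1 T)
    (φ : MulAut T)
    (htrans : ∀ s t : T, orderOf s = 2 → orderOf t = 2 → ∃ k : ℕ, (φ ^ k) s = t) :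
    (∀ x : T, x ^ 2 = 1 → x ∈ Subgroup.center T) ∧ Nat.card {x : T // x ^ 2 = 1} = 4 ∧
    ∃ σ : T ≃* T, (∀ y, σ (σ (σ y)) = y) ∧ (∀ y, σ y = y → y = 1) := by
  classical
  have : Fact (Nat.Prime 2) := ⟨Nat.prime_two⟩
  unfold Cfsg.PRankLE at h1
  push Not at h1
  obtain ⟨A, hAc, hA2, hA⟩ := h1
  have : Nontrivial T := by
    by_contra h
    rw [not_nontrivial_iff_subsingleton] at h
    have := Subgroup.card_le_card_group A
    rw [Nat.card_unique (α := T)] at this
    omega
  -- all involutions are central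
  obtain ⟨z₀, hz₀⟩ : ∃ z : T, orderOf z = 2 ∧ z ∈ Subgroup.center T := by
    have hne : (⊤ : Subgroup T) ≠ ⊥ := bot_ne_top.symm
    obtain ⟨z, -, hz, ho⟩ := PGroups.exists_mem_center_orderOf_eq hT ⊤ hne
    exact ⟨z, ho, hz⟩
  have hord : ∀ x : T, x ^ 2 = 1 → x ≠ 1 → orderOf x = 2 := fun x hx hx1 =>
    orderOf_eq_prime (by exact hx) hx1
  have hz : ∀ x : T, x ^ 2 = 1 → x ∈ Subgroup.center T := by
    intro x hx
    by_cases hx1 : x = 1
    · rw [hx1]; exact one_mem _
    obtain ⟨k, hk⟩ := htrans z₀ x hz₀.1 (hord x hx hx1)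
    rw [← hk]
    refine Subgroup.mem_center_iff.2 fun g => ?_
    obtain ⟨g, rfl⟩ := (φ ^ k).surjective g
    rw [← map_mul, ← map_mul, Subgroup.mem_center_iff.1 hz₀.2 g]
  let Ω : Subgroup T :=
    { carrier := {x | x ^ 2 = 1}
      one_mem' := one_pow _
      mul_mem' := fun {a b} (ha : a ^ 2 = 1) (hb : b ^ 2 = 1) => by
        show (a * b) ^ 2 = 1
        rw [(PGroups.commute_of_mem_center (hz a ha) b).mul_pow, ha, hb, one_mul]
      inv_mem' := fun {a} (ha : a ^ 2 = 1) => by
        show a⁻¹ ^ 2 = 1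
        rw [inv_pow, ha, inv_one] }
  have hΩle : Nat.card Ω ≤ 4 := h2 Ω
    ⟨⟨fun a b => Subtype.ext ((Subgroup.mem_center_iff.1 (hz a.1 a.2) b.1).symm)⟩⟩ fun a ha => ha
  have hAΩ : 2 < Nat.card Ω := lt_of_lt_of_le (by simpa using hA)
    (Subgroup.card_le_of_le fun a ha => hA2 a ha)
  obtain ⟨m, hm⟩ := (hT.to_subgroup Ω).exists_card_eq
  have hI : Nat.card Ω = 4 := by
    rcases Nat.lt_or_ge m 2 with h | h
    · have : 2 ^ m ≤ 2 ^ 1 := Nat.pow_le_pow_right (by norm_num) (by omega)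
      omega
    · have : 2 ^ 2 ≤ 2 ^ m := Nat.pow_le_pow_right (by norm_num) h
      omega
  refine ⟨hz, hI, ?_⟩
  -- the permutation of the three involutions
  let Inv := {x : T // orderOf x = 2}
  have hInv3 : Nat.card Inv = 3 := by
    have := Fintype.ofFinite Ω
    have hc : Nat.card {x : Ω // x ≠ 1} = 3 := by
      have := Fintype.card_subtype_compl (fun x : Ω => x = 1)
      rw [Fintype.card_subtype_eq, ← Nat.card_eq_fintype_card (α := Ω), hI] at this
      rw [Nat.card_eq_fintype_card]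
      exact this
    rw [← hc]
    exact Nat.card_congr
      { toFun := fun x => ⟨⟨x.1, by
          show x.1 ^ 2 = 1
          exact orderOf_dvd_iff_pow_eq_one.1 (dvd_of_eq x.2)⟩, fun h => by
            have h' : x.1 = 1 := congrArg Subtype.val h
            have := x.2
            rw [h', orderOf_one] at this
            norm_num at this⟩
        invFun := fun x => ⟨x.1.1, hord _ x.1.2 (fun h => x.2 (Subtype.ext h))⟩
        left_inv := fun _ => rfl
        right_inv := fun _ => rfl }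
  letI act : MulAction (Subgroup.zpowers φ) Inv :=
    { smul := fun f x => ⟨(f : MulAut T) x.1, by rw [MulEquiv.orderOf_eq]; exact x.2⟩
      one_smul := fun x => Subtype.ext rfl
      mul_smul := fun a b x => Subtype.ext rfl }
  have : MulAction.IsPretransitive (Subgroup.zpowers φ) Inv := ⟨fun x y => by
    obtain ⟨k, hk⟩ := htrans x.1 y.1 x.2 y.2
    exact ⟨⟨φ ^ k, pow_mem (Subgroup.mem_zpowers φ) k⟩, Subtype.ext hk⟩⟩
  have hz2 : orderOf z₀ = 2 := hz₀.1
  let x₀ : Inv := ⟨z₀, hz2⟩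
  have hidx : (MulAction.stabilizer (Subgroup.zpowers φ) x₀).index = 3 := by
    rw [MulAction.index_stabilizer_of_transitive, hInv3]
  have h3dvd : 3 ∣ orderOf φ := by
    rw [← Nat.card_zpowers, ← hidx]
    exact Subgroup.index_dvd_card _
  obtain ⟨s, m', hm', horder⟩ : ∃ s m', ¬ 3 ∣ m' ∧ orderOf φ = 3 ^ s * m' :=
    ⟨_, _, Nat.not_dvd_ordCompl Nat.prime_three (orderOf_pos φ).ne',
      (Nat.ordProj_mul_ordCompl_eq_self (orderOf φ) 3).symm⟩
  have hmpos : m' ≠ 0 := fun h => hm' (h ▸ dvd_zero 3)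
  let ψ := φ ^ m'
  have hψ : orderOf ψ = 3 ^ s := by
    show orderOf (φ ^ m') = 3 ^ s
    rw [orderOf_pow' φ hmpos, horder, Nat.gcd_eq_right (dvd_mul_left _ _),
      Nat.mul_div_cancel _ (Nat.pos_of_ne_zero hmpos)]
  -- powers of `φ` fixing one involution
  have hcomm : ∀ a b : Subgroup.zpowers φ, a * b = b * a := fun a b => by
    obtain ⟨i, hi⟩ := a.2
    obtain ⟨j, hj⟩ := b.2
    refine Subtype.ext ?_
    show a.1 * b.1 = b.1 * a.1
    rw [← hi, ← hj]
    exact ((Commute.refl φ).zpow_zpow i j)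
  have hnorm : (MulAction.stabilizer (Subgroup.zpowers φ) x₀).Normal :=
    ⟨fun n hn g => by rw [hcomm g n, mul_inv_cancel_right]; exact hn⟩
  have hcube : ∀ f : Subgroup.zpowers φ, ∀ x : Inv, f ^ 3 • x = x := by
    intro f x
    have hf : f ^ 3 ∈ MulAction.stabilizer (Subgroup.zpowers φ) x₀ := by
      have := Subgroup.pow_index_mem (MulAction.stabilizer (Subgroup.zpowers φ) x₀) f
      rwa [hidx] at this
    obtain ⟨g, hg⟩ := MulAction.exists_smul_eq (Subgroup.zpowers φ) x₀ x
    rw [← hg, ← mul_smul, hcomm, mul_smul, MulAction.mem_stabilizer_iff.1 hf]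
  have h3 : ∀ x : T, x ^ 2 = 1 → (ψ ^ 3) x = x := by
    intro x hx
    by_cases hx1 : x = 1
    · rw [hx1, map_one]
    have := hcube ⟨ψ, pow_mem (Subgroup.mem_zpowers φ) m'⟩ ⟨x, hord x hx hx1⟩
    exact congrArg Subtype.val this
  have hψ3 := order_three hT hz hI ψ s hψ h3
  have hfix : ∀ x : T, orderOf x = 2 → ψ x ≠ x := by
    intro x hx heq
    let f : Subgroup.zpowers φ := ⟨ψ, pow_mem (Subgroup.mem_zpowers φ) m'⟩
    have hall : ∀ y : Inv, f • y = y := by
      intro y
      obtain ⟨g, hg⟩ := MulAction.exists_smul_eq (Subgroup.zpowers φ) (⟨x, hx⟩ : Inv) y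
      rw [← hg, ← mul_smul, hcomm, mul_smul, show f • (⟨x, hx⟩ : Inv) = ⟨x, hx⟩ from Subtype.ext heq]
    -- then `φ` to a power prime to three would fix an involution
    let g : Subgroup.zpowers φ := ⟨φ, Subgroup.mem_zpowers φ⟩
    have hgm : g ^ m' ∈ MulAction.stabilizer (Subgroup.zpowers φ) x₀ := by
      rw [MulAction.mem_stabilizer_iff, show g ^ m' = f from Subtype.ext rfl]
      exact hall x₀
    have hg3 : g ^ 3 ∈ MulAction.stabilizer (Subgroup.zpowers φ) x₀ :=
      MulAction.mem_stabilizer_iff.2 (hcube g x₀)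
    have hg1 : g ∈ MulAction.stabilizer (Subgroup.zpowers φ) x₀ := by
      have hco : Nat.Coprime m' 3 := ((Nat.Prime.coprime_iff_not_dvd Nat.prime_three).2 hm').symm
      have hb := Nat.gcd_eq_gcd_ab m' 3
      rw [hco] at hb
      have : g = (g ^ m') ^ (Nat.gcdA m' 3) * (g ^ 3) ^ (Nat.gcdB m' 3) := by
        rw [← zpow_natCast g m', ← zpow_natCast g 3, ← zpow_mul, ← zpow_mul, ← zpow_add, ← hb]
        simp
      rw [this]
      exact mul_mem (zpow_mem hgm _) (zpow_mem hg3 _)
    have htop : MulAction.stabilizer (Subgroup.zpowers φ) x₀ = ⊤ := by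
      refine eq_top_iff.2 fun a _ => ?_
      obtain ⟨i, hi⟩ := a.2
      have : a = g ^ i := Subtype.ext (by rw [Subgroup.coe_zpow]; exact hi.symm)
      rw [this]; exact zpow_mem hg1 i
    rw [htop, Subgroup.index_top] at hidx
    norm_num at hidx
  refine ⟨ψ, fun y => ?_, fun y hy => ?_⟩
  · calc ψ (ψ (ψ y)) = (ψ ^ 3) y := by simp [pow_succ, MulAut.mul_apply]
      _ = y := by rw [hψ3]; rfl
  · by_contra hy1
    obtain ⟨k, hk⟩ := IsPGroup.iff_orderOf.1 hT y
    obtain ⟨k', rfl⟩ : ∃ k', k = k' + 1 := by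
      refine ⟨k - 1, ?_⟩
      rcases Nat.eq_zero_or_pos k with rfl | h
      · exact absurd (orderOf_eq_one_iff.1 (by simpa using hk)) hy1
      · omega
    have ho : orderOf (y ^ 2 ^ k') = 2 := by
      rw [orderOf_pow' y (pow_ne_zero _ two_ne_zero), hk,
        Nat.gcd_eq_right (pow_dvd_pow 2 (Nat.le_succ k')), pow_succ,
        Nat.mul_div_cancel_left _ (pow_pos two_pos _)]
    exact hfix _ ho (by rw [map_pow, hy])

end Cfsg.Agent.H28.RankTwo
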