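import Cfsg.Prelude.Def_LieExceptional
import Cfsg.Agent.H33.Zassenhaus
import Cfsg.Agent.Frobenius.Action
import Cfsg.Agent.Frobenius.KernelTheorem
import Cfsg.Agent.Frobenius.FPFAut

/-!
The Frobenius kernel of a point stabiliser of a finite Zassenhaus group.
-/

set_option autoImplicit false

namespace Cfsg.Agent.H28.Zass

open MulAction

variable {G Ω : Type*} [Group G] [MulAction G Ω] [Finite Ω]

/-- `H` is the kernel of the stabiliser of `a`: order one less than the degree, non-identity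
elements fix only `a`. -/
structure IsKer (a : Ω) (H : Subgroup G) : Prop where
  le : H ≤ stabilizer G a
  card : Nat.card H + 1 = Nat.card Ω
  fix : ∀ u ∈ H, u ≠ 1 → ∀ c : Ω, u • c = c → c = a

theorem finite_of_zas (hZ : Cfsg.IsZassenhausGroup G Ω) : Finite G := by
  have := hZ.1
  exact Finite.of_injective (toPerm (α := G) (β := Ω)) toPerm_injective

theorem exists_third (hZ : Cfsg.IsZassenhausGroup G Ω) (a b : Ω) : ∃ c : Ω, c ≠ a ∧ c ≠ b := by
  by_contra h
  push Not at h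
  have h3 := H33.zas_three_le_card hZ
  have hsub : (Set.univ : Set Ω) ⊆ {a, b} := fun c _ => by
    by_cases hc : c = a
    · exact Or.inl hc
    · exact Or.inr (h c hc)
  have h2 : (Set.univ : Set Ω).ncard ≤ 2 :=
    (Set.ncard_le_ncard hsub).trans ((Set.ncard_insert_le _ _).trans (by simp))
  rw [Set.ncard_univ] at h2
  omega

theorem exists_fix_pair (hZ : Cfsg.IsZassenhausGroup G Ω) {a b : Ω} (hab : a ≠ b) :
    ∃ x : G, x ≠ 1 ∧ x • a = a ∧ x • b = b := by
  obtain ⟨g, hg, c, d, hcd, hc, hd⟩ := hZ.2.2.2.1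
  obtain ⟨k, hka, hkb⟩ := H33.zas_map_pair hZ hcd hab
  refine ⟨k * g * k⁻¹, fun h => hg (conj_eq_one_iff.1 h), ?_, ?_⟩
  · rw [← hka, mul_smul, mul_smul, inv_smul_smul, hc]
  · rw [← hkb, mul_smul, mul_smul, inv_smul_smul, hd]

theorem two_pt_ne_bot (hZ : Cfsg.IsZassenhausGroup G Ω) {a b : Ω} (hab : a ≠ b) :
    stabilizer G a ⊓ stabilizer G b ≠ ⊥ := by
  obtain ⟨x, hx, hxa, hxb⟩ := exists_fix_pair hZ hab
  intro h
  have : x ∈ stabilizer G a ⊓ stabilizer G b := Subgroup.mem_inf.2 ⟨hxa, hxb⟩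
  rw [h, Subgroup.mem_bot] at this
  exact hx this

theorem exists_ker (hZ : Cfsg.IsZassenhausGroup G Ω) (a : Ω) :
    ∃ H : Subgroup G, IsKer a H ∧
      ∀ u : G, u ∈ H ↔ u • a = a ∧ (u = 1 ∨ ∀ c : Ω, u • c = c → c = a) := by
  have := finite_of_zas hZ
  obtain ⟨h2, h3⟩ := And.intro hZ.2.1 hZ.2.2.1
  set L := stabilizer G a with hL
  set X := SubMulAction.ofStabilizer G a with hX
  obtain ⟨b, hb, -⟩ := exists_third hZ a a
  obtain ⟨c, hca, hcb⟩ := exists_third hZ a b
  let bX : X := ⟨b, hb⟩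
  let cX : X := ⟨c, hca⟩
  have hfixX : ∀ g : L, g ≠ 1 → ∀ u v : X, g • u = u → g • v = v → u = v := by
    intro g hg u v hu hv
    by_contra huv
    exact hg (Subtype.ext (h3 g a u v (fun h => u.2 h.symm) (fun h => huv (Subtype.ext h))
      (fun h => v.2 h.symm) g.2 (congrArg Subtype.val hu) (congrArg Subtype.val hv)))
  have htrX : ∀ u v : X, ∃ g : L, g • u = v := by
    intro u v
    obtain ⟨g, hga, hgu⟩ := H33.zas_map_pair hZ (a := a) (b := (u : Ω)) (c := a) (d := (v : Ω))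
      (fun h => u.2 h.symm) (fun h => v.2 h.symm)
    exact ⟨⟨g, hga⟩, Subtype.ext hgu⟩
  have hne : stabilizer L bX ≠ ⊥ := by
    obtain ⟨x, hx, hxa, hxb⟩ := exists_fix_pair hZ hb.symm
    intro h
    have hmem : (⟨x, hxa⟩ : L) ∈ stabilizer L bX := Subtype.ext hxb
    rw [h, Subgroup.mem_bot] at hmem
    exact hx (congrArg Subtype.val hmem)
  have htop : stabilizer L bX ≠ ⊤ := by
    intro h
    obtain ⟨g, hg⟩ := htrX bX cX
    have : g • bX = bX := (h ▸ Subgroup.mem_top g : g ∈ stabilizer L bX)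
    exact hcb (congrArg Subtype.val (hg.symm.trans this))
  have hH := Frobenius.stabilizer_isFrobeniusComplement hfixX bX hne htop
  set K := Frobenius.kernel hH with hK
  have hKmem : ∀ k : L, k ∈ K ↔ k = 1 ∨ ∀ u : X, k • u ≠ u := fun k => by
    rw [← SetLike.mem_coe, hK, Frobenius.coe_kernel hH,
      Frobenius.kernel_stabilizer_eq htrX]
    rfl
  have hmem : ∀ u : G, u ∈ K.map L.subtype ↔ u • a = a ∧ (u = 1 ∨ ∀ d : Ω, u • d = d → d = a) := by
    intro u
    constructor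
    · rintro ⟨k, hk, rfl⟩
      refine ⟨k.2, ((hKmem k).1 hk).imp (fun h => by rw [h]; rfl) fun h d hd => ?_⟩
      by_contra hda
      exact h ⟨d, hda⟩ (Subtype.ext hd)
    · rintro ⟨hua, hu⟩
      refine ⟨⟨u, hua⟩, (hKmem _).2 (hu.imp (fun h => Subtype.ext h) fun h v hv => ?_), rfl⟩
      exact v.2 (h _ (congrArg Subtype.val hv))
  refine ⟨K.map L.subtype, ⟨fun u hu => ((hmem u).1 hu).1, ?_, fun u hu hu1 => ?_⟩, hmem⟩
  · have : IsPretransitive L X := ⟨htrX⟩
    rw [Subgroup.card_map_of_injective L.subtype_injective, ← SetLike.coe_sort_coe,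
      Frobenius.coe_kernel hH, Frobenius.card_kernel hH, index_stabilizer_of_transitive]
    have hc' := Set.ncard_compl ({a} : Set Ω)
    rw [Set.ncard_singleton, ← Nat.card_coe_set_eq] at hc'
    have hXc : Nat.card X = Nat.card Ω - 1 := hc'
    have := H33.zas_three_le_card hZ
    omega
  · exact ((hmem u).1 hu).2.resolve_left hu1

variable {a b : Ω} {H : Subgroup G}

theorem IsKer.mem_iff (hH : IsKer a H) (hZ : Cfsg.IsZassenhausGroup G Ω) {u : G} :
    u ∈ H ↔ u • a = a ∧ (u = 1 ∨ ∀ c : Ω, u • c = c → c = a) := by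
  have := finite_of_zas hZ
  obtain ⟨K, hK, hKmem⟩ := exists_ker hZ a
  have hle : H ≤ K := fun v hv => (hKmem v).2 ⟨hH.le hv,
    (em (v = 1)).imp id fun h => hH.fix v hv h⟩
  have hKfin : (K : Set G).Finite := Set.toFinite _
  have hcard : Nat.card K ≤ Nat.card H := by
    have h1 := hH.card
    have h2 := hK.card
    omega
  have : H = K := Subgroup.eq_of_le_of_card_ge hle hcard
  rw [this, hKmem]

theorem IsKer.conj_mem (hH : IsKer a H) (hZ : Cfsg.IsZassenhausGroup G Ω) {g u : G}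
    (hg : g • a = a) (hu : u ∈ H) : g * u * g⁻¹ ∈ H := by
  rw [hH.mem_iff hZ]
  have hg' : g⁻¹ • a = a := inv_smul_eq_iff.2 hg.symm
  have hua : u • a = a := hH.le hu
  refine ⟨by rw [mul_smul, mul_smul, hg', hua, hg], ?_⟩
  rcases eq_or_ne u 1 with rfl | hu1
  · exact Or.inl (by group)
  · refine Or.inr fun c hc => ?_
    rw [mul_smul, mul_smul] at hc
    have h1 : u • g⁻¹ • c = g⁻¹ • c := eq_inv_smul_iff.2 hc
    have h2 := hH.fix u hu hu1 _ h1
    rwa [inv_smul_eq_iff, hg] at h2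

theorem IsKer.le_normalizer (hH : IsKer a H) (hZ : Cfsg.IsZassenhausGroup G Ω) :
    stabilizer G a ≤ Subgroup.normalizer (H : Set G) := by
  intro g hg
  rw [Subgroup.mem_normalizer_iff]
  intro u
  refine ⟨fun hu => hH.conj_mem hZ hg hu, fun hu => ?_⟩
  have hg' : g⁻¹ • a = a := inv_smul_eq_iff.2 (Eq.symm hg)
  have := hH.conj_mem hZ hg' hu
  simpa [mul_assoc] using this

/-- Conjugation keeps a non-identity kernel element in the kernel only from inside `G_a`. -/
theorem IsKer.smul_eq_of_conj_mem (hH : IsKer a H) {g u : G} (hu : u ∈ H)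
    (hu1 : u ≠ 1) (h : g * u * g⁻¹ ∈ H) : g • a = a := by
  refine hH.fix _ h (fun h' => hu1 (conj_eq_one_iff.1 h')) (g • a) ?_
  rw [mul_smul, mul_smul, inv_smul_smul, (hH.le hu : u • a = a)]

theorem IsKer.ne_bot (hH : IsKer a H) (hZ : Cfsg.IsZassenhausGroup G Ω) : H ≠ ⊥ := by
  intro h
  have h1 := hH.card
  rw [h, Subgroup.card_bot] at h1
  have := H33.zas_three_le_card hZ
  omega

theorem IsKer.normalizer_eq (hH : IsKer a H) (hZ : Cfsg.IsZassenhausGroup G Ω) :
    Subgroup.normalizer (H : Set G) = stabilizer G a := by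
  refine le_antisymm (fun g hg => ?_) (hH.le_normalizer hZ)
  obtain ⟨u, hu, hu1⟩ := (Subgroup.bot_or_exists_ne_one H).resolve_left (hH.ne_bot hZ)
  exact hH.smul_eq_of_conj_mem hu hu1 ((Subgroup.mem_normalizer_iff.1 hg u).1 hu)

theorem IsKer.eq_one_of_fix (hH : IsKer a H) {u : G} (hu : u ∈ H) {c : Ω} (hc : c ≠ a)
    (h : u • c = c) : u = 1 :=
  by_contra fun hu1 => hc (hH.fix u hu hu1 c h)

theorem IsKer.regular (hH : IsKer a H) (hZ : Cfsg.IsZassenhausGroup G Ω) {c d : Ω} (hc : c ≠ a)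
    (hd : d ≠ a) : ∃! u : H, (u : G) • c = d := by
  classical
  have := finite_of_zas hZ
  have := Fintype.ofFinite H
  have := Fintype.ofFinite Ω
  let f : H → {w : Ω // w ≠ a} := fun u => ⟨(u : G) • c, fun h => hc
    (MulAction.injective (u : G) (h.trans (hH.le u.2 : (u : G) • a = a).symm))⟩
  have hinj : Function.Injective f := by
    intro u v huv
    have h1 : (u : G) • c = (v : G) • c := congrArg Subtype.val huv
    have h2 : (v : G)⁻¹ * u = 1 := hH.eq_one_of_fix (mul_mem (inv_mem v.2) u.2) hc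
      (by rw [mul_smul, h1, inv_smul_smul])
    exact Subtype.ext (inv_mul_eq_one.1 h2).symm
  have hcard : Fintype.card H = Fintype.card {w : Ω // w ≠ a} := by
    rw [Fintype.card_subtype_compl, Fintype.card_subtype_eq, ← Nat.card_eq_fintype_card,
      ← Nat.card_eq_fintype_card]
    have := hH.card
    omega
  obtain ⟨u, hu⟩ := ((Fintype.bijective_iff_injective_and_card f).2 ⟨hinj, hcard⟩).2 ⟨d, hd⟩
  refine ⟨u, congrArg Subtype.val hu, fun v hv => hinj ?_⟩
  rw [hu]
  exact Subtype.ext hv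

theorem IsKer.inf_two_pt (hH : IsKer a H) (hab : a ≠ b) :
    H ⊓ (stabilizer G a ⊓ stabilizer G b) = ⊥ := by
  rw [eq_bot_iff]
  intro u hu
  obtain ⟨h1, h2⟩ := Subgroup.mem_inf.1 hu
  exact Subgroup.mem_bot.2 (hH.eq_one_of_fix h1 hab.symm (Subgroup.mem_inf.1 h2).2)

/-- `G_a = H E` uniquely. -/
theorem IsKer.decomp (hH : IsKer a H) (hZ : Cfsg.IsZassenhausGroup G Ω) (hab : a ≠ b) {g : G}
    (hg : g • a = a) : ∃ u ∈ H, ∃ x ∈ stabilizer G a ⊓ stabilizer G b, g = u * x := by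
  obtain ⟨u, hu, -⟩ := hH.regular hZ hab.symm (d := g • b)
    (fun h => hab.symm (MulAction.injective g (h.trans hg.symm)))
  refine ⟨u, u.2, (u : G)⁻¹ * g, Subgroup.mem_inf.2 ⟨?_, ?_⟩, by group⟩
  · show ((u : G)⁻¹ * g) • a = a
    rw [mul_smul, hg, inv_smul_eq_iff]
    exact (hH.le u.2 : (u : G) • a = a).symm
  · show ((u : G)⁻¹ * g) • b = b
    rw [mul_smul, ← hu, inv_smul_smul]

theorem IsKer.decomp_unique (hH : IsKer a H) (hab : a ≠ b) {u u' x x' : G} (hu : u ∈ H)
    (hu' : u' ∈ H) (hx : x ∈ stabilizer G a ⊓ stabilizer G b)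
    (hx' : x' ∈ stabilizer G a ⊓ stabilizer G b) (h : u * x = u' * x') : u = u' ∧ x = x' := by
  have h1 : u'⁻¹ * u = x' * x⁻¹ := by
    rw [eq_mul_inv_iff_mul_eq, mul_assoc, h]; group
  have h2 : u'⁻¹ * u ∈ H ⊓ (stabilizer G a ⊓ stabilizer G b) :=
    Subgroup.mem_inf.2 ⟨mul_mem (inv_mem hu') hu, h1 ▸ mul_mem hx' (inv_mem hx)⟩
  rw [hH.inf_two_pt hab, Subgroup.mem_bot, inv_mul_eq_one] at h2
  subst h2
  exact ⟨rfl, mul_left_cancel h⟩

theorem IsKer.card_stabilizer (hH : IsKer a H) (hZ : Cfsg.IsZassenhausGroup G Ω) (hab : a ≠ b) :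
    Nat.card (stabilizer G a) =
      Nat.card H * Nat.card ↥(stabilizer G a ⊓ stabilizer G b) := by
  rw [← Nat.card_prod]
  refine (Nat.card_congr (Equiv.ofBijective
    (fun p : H × ↥(stabilizer G a ⊓ stabilizer G b) =>
      (⟨(p.1 : G) * p.2, mul_mem (hH.le p.1.2) (Subgroup.mem_inf.1 p.2.2).1⟩ : stabilizer G a))
    ⟨?_, ?_⟩)).symm
  · rintro ⟨u, x⟩ ⟨u', x'⟩ h
    obtain ⟨h1, h2⟩ := hH.decomp_unique hab u.2 u'.2 x.2 x'.2 (congrArg Subtype.val h)
    exact Prod.ext (Subtype.ext h1) (Subtype.ext h2)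
  · rintro ⟨g, hg⟩
    obtain ⟨u, hu, x, hx, rfl⟩ := hH.decomp hZ hab hg
    exact ⟨(⟨u, hu⟩, ⟨x, hx⟩), rfl⟩

theorem IsKer.card_group (hH : IsKer a H) (hZ : Cfsg.IsZassenhausGroup G Ω) (hab : a ≠ b) :
    Nat.card G = Nat.card Ω * (Nat.card H * Nat.card ↥(stabilizer G a ⊓ stabilizer G b)) := by
  have : IsPretransitive G Ω := isPretransitive_of_is_two_pretransitive (h2 := hZ.2.1)
  rw [← hH.card_stabilizer hZ hab, ← index_stabilizer_of_transitive G a,
    Subgroup.index_mul_card]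

theorem two_pt_dvd (hH : IsKer a H) (hZ : Cfsg.IsZassenhausGroup G Ω) (hab : a ≠ b) :
    Nat.card ↥(stabilizer G a ⊓ stabilizer G b) ∣ Nat.card H - 1 := by
  have := finite_of_zas hZ
  set E := stabilizer G a ⊓ stabilizer G b
  let Y : SubMulAction E Ω :=
    { carrier := {w | w ≠ a ∧ w ≠ b}
      smul_mem' := by
        rintro ⟨g, hg⟩ w ⟨hwa, hwb⟩
        obtain ⟨hga, hgb⟩ := Subgroup.mem_inf.1 hg
        exact ⟨fun h => hwa (MulAction.injective g (h.trans (Eq.symm hga))),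
          fun h => hwb (MulAction.injective g (h.trans (Eq.symm hgb)))⟩ }
  have hfree : ∀ (k : E) (y : Y), k • y = y → k = 1 := by
    intro k y hy
    by_contra hk
    obtain ⟨hka, hkb⟩ := Subgroup.mem_inf.1 k.2
    exact hk (Subtype.ext (H33.zas_eq_one hZ hab y.2.2.symm y.2.1.symm hka hkb
      (congrArg Subtype.val hy)))
  have h := Frobenius.dvd_card_of_free E hfree
  have hY : Nat.card Y = Nat.card H - 1 := by
    have hc : Nat.card Y = ({a, b}ᶜ : Set Ω).ncard := by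
      rw [← Nat.card_coe_set_eq]
      refine Nat.card_congr (Equiv.subtypeEquivRight fun w => ?_)
      show (w ≠ a ∧ w ≠ b) ↔ _
      simp
    rw [hc, Set.ncard_compl, Set.ncard_pair hab]
    have := hH.card
    omega
  rwa [hY] at h

theorem IsKer.coprime (hH : IsKer a H) (hZ : Cfsg.IsZassenhausGroup G Ω) (hab : a ≠ b) :
    (Nat.card ↥(stabilizer G a ⊓ stabilizer G b)).Coprime (Nat.card H) := by
  have := finite_of_zas hZ
  have h1 := two_pt_dvd hH hZ hab
  have hpos : 0 < Nat.card H := Nat.card_pos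
  refine Nat.Coprime.coprime_dvd_left h1 ?_
  have h2 := ((Nat.coprime_self_sub_right (m := 1) (n := Nat.card H) (by omega)).2
    (Nat.coprime_one_right _))
  exact h2.symm

/-- The centraliser of a non-identity kernel element lies in the kernel. -/
theorem IsKer.centralizer_le (hH : IsKer a H) (hZ : Cfsg.IsZassenhausGroup G Ω) {u : G}
    (hu : u ∈ H) (hu1 : u ≠ 1) : Subgroup.centralizer ({u} : Set G) ≤ H := by
  intro g hg
  have hcom : g * u = u * g := Subgroup.mem_centralizer_singleton_iff.1 hg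
  have hga : g • a = a := hH.smul_eq_of_conj_mem hu hu1
    (by rw [hcom, mul_inv_cancel_right]; exact hu)
  rw [hH.mem_iff hZ]
  refine ⟨hga, or_iff_not_imp_left.2 fun hg1 c hc => ?_⟩
  by_contra hca
  have hgu : g • u • c = u • c := by rw [smul_smul, hcom, mul_smul, hc]
  have huc : u • c ≠ c := fun h => hu1 (hH.eq_one_of_fix hu hca h)
  exact hg1 (H33.zas_eq_one hZ (Ne.symm hca) huc.symm
    (fun h => hca (MulAction.injective u
      ((Eq.symm h).trans (hH.le hu : u • a = a).symm))) hga hc hgu)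

theorem IsKer.fpf (hH : IsKer a H) (hZ : Cfsg.IsZassenhausGroup G Ω) (hab : a ≠ b) {x u : G}
    (hx : x ∈ stabilizer G a ⊓ stabilizer G b) (hx1 : x ≠ 1) (hu : u ∈ H)
    (h : x * u * x⁻¹ = u) : u = 1 := by
  by_contra hu1
  have hxH : x ∈ H := hH.centralizer_le hZ hu hu1
    (Subgroup.mem_centralizer_singleton_iff.2 (mul_inv_eq_iff_eq_mul.1 h))
  have := Subgroup.mem_inf.2 ⟨hxH, hx⟩
  rw [hH.inf_two_pt hab, Subgroup.mem_bot] at this
  exact hx1 this

/-- The kernel is nilpotent (Thompson). -/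
theorem IsKer.nilpotent (hH : IsKer a H) (hZ : Cfsg.IsZassenhausGroup G Ω) :
    Group.IsNilpotent H := by
  have := finite_of_zas hZ
  obtain ⟨b, hb, -⟩ := exists_third hZ a a
  obtain ⟨p, hp, hpd⟩ := Nat.exists_prime_and_dvd
    (n := Nat.card ↥(stabilizer G a ⊓ stabilizer G b))
    (fun h => two_pt_ne_bot hZ hb.symm (Subgroup.card_eq_one.1 h))
  have := Fact.mk hp
  obtain ⟨⟨x, hx⟩, hxo⟩ := exists_prime_orderOf_dvd_card' p hpd
  rw [Subgroup.orderOf_mk] at hxo
  have hx1 : x ≠ 1 := fun h => by rw [h, orderOf_one] at hxo; exact hp.ne_one hxo.symm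
  have hmap : H.map ((MulAut.conj x : G ≃* G) : G →* G) = H := by
    ext u
    constructor
    · rintro ⟨v, hv, rfl⟩
      exact hH.conj_mem hZ (Subgroup.mem_inf.1 hx).1 hv
    · intro hu
      exact ⟨x⁻¹ * u * x, by
        simpa using hH.conj_mem hZ (inv_smul_eq_iff.2 (Subgroup.mem_inf.1 hx).1.symm) hu,
        by simp [MulAut.conj_apply, mul_assoc]⟩
  refine Frobenius.isNilpotent_of_fpf (Nat.card H) hp H
    (Frobenius.restrictEquiv (MulAut.conj x) H hmap) rfl ?_ ?_
  · intro u hu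
    have h1 : x * (u : G) * x⁻¹ = u := congrArg Subtype.val hu
    exact Subtype.ext (hH.fpf hZ hb.symm hx hx1 u.2 h1)
  · intro u
    refine Subtype.ext ?_
    rw [Frobenius.iterate_restrictEquiv]
    have hiter : ∀ (n : ℕ) (g : G), (⇑(MulAut.conj x))^[n] g = x ^ n * g * (x ^ n)⁻¹ := by
      intro n
      induction n with
      | zero => intro g; simp
      | succ n ih =>
        intro g
        rw [Function.iterate_succ_apply', ih, MulAut.conj_apply, pow_succ']
        group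
    rw [hiter, ← hxo, pow_orderOf_eq_one]
    simp

end Cfsg.Agent.H28.Zass
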