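import Mathlib

/-!
A group generated by involutions that satisfy the exchange condition is a Coxeter group
(Matsumoto's theorem).
-/

set_option autoImplicit false

namespace Cfsg.Agent.H28

variable {W : Type*} [Group W] {ι : Type*}

/-- The product in `W` of a word in the generators `f`. -/
def wprod (f : ι → W) (L : List ι) : W := (L.map f).prod

/-- A word is reduced if no shorter word has the same product. -/
def IsReducedWord (f : ι → W) (L : List ι) : Prop :=
  ∀ L' : List ι, wprod f L' = wprod f L → L.length ≤ L'.length

/-- The exchange condition. -/
def ExchangeCond (f : ι → W) : Prop :=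
  ∀ (L : List ι) (i : ι), IsReducedWord f L → ¬ IsReducedWord f (i :: L) →
    ∃ L' : List ι, L'.Sublist L ∧ L'.length + 1 = L.length ∧ wprod f L' = f i * wprod f L

/-- The alternating word `s t s t ...` of length `k`. -/
def altWord (s t : ι) : ℕ → List ι
  | 0 => []
  | k + 1 => s :: altWord t s k

@[simp] theorem wprod_nil (f : ι → W) : wprod f [] = 1 := rfl

theorem wprod_cons (f : ι → W) (i : ι) (L : List ι) : wprod f (i :: L) = f i * wprod f L := by
  simp [wprod]

theorem wprod_append (f : ι → W) (L L' : List ι) :
    wprod f (L ++ L') = wprod f L * wprod f L' := by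
  simp [wprod]

theorem altWord_length (s t : ι) : ∀ k, (altWord s t k).length = k := by
  intro k
  induction k generalizing s t with
  | zero => rfl
  | succ k ih => simp [altWord, ih]

theorem altWord_prod (f : ι → W) (hinv : ∀ i, f i * f i = 1) (s t : ι) : ∀ k,
    wprod f (altWord s t k) * (wprod f (altWord t s k))⁻¹ = (f s * f t) ^ k := by
  intro k
  induction k generalizing s t with
  | zero => simp [altWord]
  | succ k ih =>
    simp only [altWord, wprod_cons]
    have e : f s * wprod f (altWord t s k) * (f t * wprod f (altWord s t k))⁻¹ =
        f s * (wprod f (altWord t s k) * (wprod f (altWord s t k))⁻¹) * (f t)⁻¹ := by group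
    rw [e, ih t s, inv_eq_of_mul_eq_one_right (hinv t), pow_succ' (f s * f t) k]
    have hsw : ∀ m : ℕ, f s * (f t * f s) ^ m * f t = f s * f t * (f s * f t) ^ m := by
      intro m
      induction m with
      | zero => simp
      | succ m ihm =>
        rw [pow_succ, pow_succ, ← mul_assoc (f s * f t) ((f s * f t) ^ m), ← ihm]
        group
    exact hsw k

theorem IsReducedWord.of_eq {f : ι → W} {L L' : List ι} (h : IsReducedWord f L)
    (he : wprod f L' = wprod f L) (hl : L'.length = L.length) : IsReducedWord f L' :=
  fun M hM => hl ▸ h M (hM.trans he)

theorem IsReducedWord.tail {f : ι → W} {i : ι} {L : List ι} (h : IsReducedWord f (i :: L)) :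
    IsReducedWord f L := fun M hM => by
  have := h (i :: M) (by simp [wprod_cons, hM])
  simpa using this

theorem IsReducedWord.init {f : ι → W} {i : ι} {L : List ι} (h : IsReducedWord f (L ++ [i])) :
    IsReducedWord f L := fun M hM => by
  have := h (M ++ [i]) (by simp [wprod_append, hM])
  simpa using this

theorem exists_reduced {f : ι → W} {w : W} (h : ∃ L, wprod f L = w) :
    ∃ L, wprod f L = w ∧ IsReducedWord f L := by
  classical
  have h' : ∃ n, ∃ L, wprod f L = w ∧ L.length = n := by
    obtain ⟨L, hL⟩ := h
    exact ⟨_, L, hL, rfl⟩
  obtain ⟨L, hL, hl⟩ := Nat.find_spec h'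
  exact ⟨L, hL, fun M hM => hl ▸ Nat.find_min' h' ⟨M, hM.trans hL, rfl⟩⟩

section

variable {H : Type*} [Group H] {f : ι → W} {g : ι → H}

/-- Matsumoto: in the presence of the exchange condition, two reduced words for the same element
have equal products under any assignment satisfying the dihedral relations. -/
theorem wprod_eq_of_reduced (hinv : ∀ i, f i * f i = 1) (hex : ExchangeCond f)
    (ginv : ∀ i, g i * g i = 1)
    (hord : ∀ i j, (g i * g j) ^ orderOf (f i * f j) = 1) :
    ∀ n : ℕ, ∀ a b : List ι, a.length = n → b.length = n → IsReducedWord f a →
      IsReducedWord f b → wprod f a = wprod f b → wprod g a = wprod g b := by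
  intro n
  induction n with
  | zero =>
    intro a b ha hb _ _ _
    rw [List.length_eq_zero_iff] at ha hb
    rw [ha, hb]
  | succ n ih =>
    -- same first or last letter
    have hh : ∀ (i : ι) (a b : List ι), a.length = n → b.length = n →
        IsReducedWord f (i :: a) → IsReducedWord f (i :: b) →
        wprod f (i :: a) = wprod f (i :: b) → wprod g (i :: a) = wprod g (i :: b) := by
      intro i a b ha hb hra hrb he
      simp only [wprod_cons, mul_right_inj] at he ⊢
      exact ih a b ha hb hra.tail hrb.tail he
    have hl : ∀ (i : ι) (a b : List ι), a.length = n → b.length = n →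
        IsReducedWord f (a ++ [i]) → IsReducedWord f (b ++ [i]) →
        wprod f (a ++ [i]) = wprod f (b ++ [i]) → wprod g (a ++ [i]) = wprod g (b ++ [i]) := by
      intro i a b ha hb hra hrb he
      simp only [wprod_append, mul_left_inj] at he ⊢
      exact ih a b ha hb hra.init hrb.init he
    have hstep : ∀ (s z : ι) (a b : List ι), a.length = n → b.length = n →
        IsReducedWord f (s :: a) → IsReducedWord f (b ++ [z]) →
        wprod f (s :: a) = wprod f (b ++ [z]) →
        wprod g (s :: a) = wprod g (b ++ [z]) ∨
          (IsReducedWord f (s :: b) ∧ wprod f (s :: b) = wprod f (b ++ [z]) ∧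
            wprod g (s :: a) = wprod g (s :: b)) := by
      intro s z a b ha hb hra hrb he
      have hnr : ¬ IsReducedWord f (s :: (b ++ [z])) := fun h => by
        have := h a (by rw [wprod_cons, ← he, wprod_cons, ← mul_assoc, hinv, one_mul])
        simp [hb] at this
        omega
      obtain ⟨D, hD, hDl, hDe⟩ := hex _ s hrb hnr
      have hDn : D.length = n := by simp [hb] at hDl; omega
      have hsD : wprod f (s :: D) = wprod f (b ++ [z]) := by
        rw [wprod_cons, hDe, ← mul_assoc, hinv, one_mul]
      have hrD : IsReducedWord f (s :: D) := hrb.of_eq hsD (by simp [hDn, hb])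
      have h1 : wprod g (s :: a) = wprod g (s :: D) :=
        hh s a D ha hDn hra hrD (he.trans hsD.symm)
      obtain ⟨D1, D2, rfl, hD1, hD2⟩ := List.sublist_append_iff.1 hD
      rcases List.sublist_singleton.1 hD2 with rfl | rfl
      · rw [List.append_nil] at hDn hsD hrD h1
        obtain rfl : D1 = b := hD1.eq_of_length (hDn.trans hb.symm)
        exact Or.inr ⟨hrD, hsD, h1⟩
      · left
        rw [h1]
        simp only [List.length_append, List.length_singleton] at hDn
        rw [← List.cons_append] at hsD hrD ⊢
        exact hl z (s :: D1) b (by simp; omega) hb hrD hrb hsD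
    -- the alternating recursion
    have halt : ∀ d k : ℕ, k + d = n + 1 → 1 ≤ k → ∀ (s t : ι) (a b : List ι),
        a.length = n + 1 → b.length = n + 1 → IsReducedWord f a → IsReducedWord f b →
        wprod f a = wprod f b → a.take k = altWord s t k → b.take k = altWord t s k →
        wprod g a = wprod g b := by
      intro d
      induction d with
      | zero =>
        intro k hk _ s t a b ha hb _ _ he hak hbk
        rw [List.take_of_length_le (by omega)] at hak hbk
        subst hak hbk
        have h1 : (f s * f t) ^ k = 1 := by
          rw [← altWord_prod f hinv, he, mul_inv_cancel]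
        have h2 : (g s * g t) ^ k = 1 := by
          obtain ⟨c, hc⟩ := orderOf_dvd_of_pow_eq_one h1
          rw [hc, pow_mul, hord, one_pow]
        rwa [← altWord_prod g ginv, mul_inv_eq_one] at h2
      | succ d ihd =>
        intro k hk h1k s t a b ha hb hra hrb he hak hbk
        obtain ⟨k', rfl⟩ : ∃ k', k = k' + 1 := ⟨k - 1, by omega⟩
        match a, ha, hra, he, hak with
        | x :: a, ha, hra, he, hak =>
          obtain rfl : x = s := by simp [altWord] at hak; exact hak.1
          have ha' : a.length = n := by simpa using ha
          obtain ⟨b0, z, rfl⟩ : ∃ b0 z, b = b0 ++ [z] := by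
            rcases List.eq_nil_or_concat b with rfl | ⟨b0, z, rfl⟩
            · simp at hb
            · exact ⟨b0, z, List.concat_eq_append⟩
          have hb0 : b0.length = n := by simpa using hb
          rcases hstep x z a b0 ha' hb0 hra hrb he with h | ⟨hr1, he1, hg1⟩
          · exact h
          rw [hg1]
          have hpre1 : (x :: b0).take (k' + 2) = altWord x t (k' + 2) := by
            rw [List.take_succ_cons, altWord]
            congr 1
            rwa [List.take_append_of_le_length (by omega)] at hbk
          obtain ⟨b1, hb1⟩ : ∃ b1, b0 ++ [z] = t :: b1 := by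
            match h : b0 ++ [z], hbk with
            | [], hbk => simp at h
            | y :: b1, hbk =>
              simp [altWord] at hbk
              exact ⟨b1, by rw [hbk.1]⟩
          obtain ⟨b2, z2, hb2⟩ : ∃ b2 z2, x :: b0 = b2 ++ [z2] := by
            rcases List.eq_nil_or_concat (x :: b0) with h | ⟨b2, z2, h⟩
            · simp at h
            · exact ⟨b2, z2, h.trans List.concat_eq_append⟩
          have hb1l : b1.length = n := by
            have := congrArg List.length hb1
            simp at this
            omega
          have hb2l : b2.length = n := by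
            have := congrArg List.length hb2
            simp at this
            omega
          rw [hb1] at hrb he1 ⊢
          rw [hb2] at hr1 he1 hpre1 ⊢
          rcases hstep t z2 b1 b2 hb1l hb2l hrb hr1 he1.symm with h | ⟨hr2, he2, hg2⟩
          · exact h.symm
          rw [hg2]
          refine ihd (k' + 2) (by omega) (by omega) x t _ _ (by simp [hb2l]) (by simp [hb2l]) hr1
            hr2 he2.symm hpre1 ?_
          rw [List.take_succ_cons, altWord]
          congr 1
          have hp : (b2 ++ [z2]).take (k' + 1) = altWord x t (k' + 1) := by
            rw [← hb2, List.take_succ_cons, altWord]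
            congr 1
            have h3 := congrArg (List.take k') (congrArg List.tail hpre1)
            rw [← hb2] at h3
            have hbt : ∀ (p q : ι) (m : ℕ), (altWord p q (m + 1)).take m = altWord p q m := by
              intro p q m
              induction m generalizing p q with
              | zero => rfl
              | succ m ihm =>
                rw [altWord, List.take_succ_cons, ihm]
                rfl
            simp [altWord, List.take_take] at h3
            exact h3.trans (hbt t x k')
          rwa [List.take_append_of_le_length (by omega)] at hp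
    intro a b ha hb hra hrb he
    match a, b, ha, hb, hra, hrb, he with
    | s :: a, t :: b, ha, hb, hra, hrb, he =>
      exact halt n 1 (by omega) (le_refl _) s t _ _ ha hb hra hrb he (by simp [altWord])
        (by simp [altWord])

end

/-- A group generated by distinct nontrivial involutions satisfying the exchange condition,
together with these involutions, is a Coxeter system. -/
theorem exists_coxeterSystem_of_exchange (f : ι → W) (hinv : ∀ i, f i * f i = 1)
    (hinj : Function.Injective f) (hgen : ∀ w, ∃ L, wprod f L = w) (hex : ExchangeCond f) :
    ∃ (M : CoxeterMatrix ι) (cs : CoxeterSystem M W), ∀ i, cs.simple i = f i := by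
  classical
  have hsymm : ∀ i j, orderOf (f j * f i) = orderOf (f i * f j) := fun i j => by
    rw [← orderOf_inv (f i * f j), mul_inv_rev, inv_eq_of_mul_eq_one_right (hinv i),
      inv_eq_of_mul_eq_one_right (hinv j)]
  let M : CoxeterMatrix ι :=
    { M := Matrix.of fun i j => orderOf (f i * f j)
      isSymm := by
        ext i j
        exact hsymm i j
      diagonal := fun i => by simp [hinv]
      off_diagonal := fun i j hij h => hij (hinj (by
        simp only [Matrix.of_apply, orderOf_eq_one_iff] at h
        rw [← inv_eq_of_mul_eq_one_right (hinv i)]
        exact inv_eq_of_mul_eq_one_right h)) }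
  let cs := M.toCoxeterSystem
  have hlift : M.IsLiftable f := fun i j => pow_orderOf_eq_one _
  let φ : M.Group →* W := cs.lift ⟨f, hlift⟩
  have hφ : ∀ i, φ (cs.simple i) = f i := fun i => cs.lift_apply_simple hlift i
  have hφw : ∀ L, φ (wprod cs.simple L) = wprod f L := fun L => by
    induction L with
    | nil => simp
    | cons i L ih => simp [wprod_cons, ih, hφ]
  have key : ∀ a b : List ι, IsReducedWord f a → IsReducedWord f b → wprod f a = wprod f b →
      wprod cs.simple a = wprod cs.simple b := fun a b hra hrb he => by
    have hl : a.length = b.length := le_antisymm (hra b he.symm) (hrb a he)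
    exact wprod_eq_of_reduced hinv hex cs.simple_mul_simple_self
      (fun i j => cs.simple_mul_simple_pow i j) _ a b hl rfl hra hrb he
  have hsect : ∀ x : M.Group, ∀ L, IsReducedWord f L → wprod f L = φ x →
      x = wprod cs.simple L := by
    intro x
    induction x using cs.simple_induction_left with
    | one =>
      intro L hL he
      rw [map_one] at he
      have := hL [] (by simp [he])
      simp at this
      simp [this]
    | mul_simple_left x i ih =>
      intro L hL he
      rw [map_mul, hφ] at he
      obtain ⟨R, hRe, hR⟩ := exists_reduced (hgen (φ x))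
      have hx := ih R hR hRe
      subst hx
      by_cases hiR : IsReducedWord f (i :: R)
      · rw [key L (i :: R) hL hiR (by rw [he, wprod_cons, hRe]), wprod_cons]
      · obtain ⟨D, hD, hDl, hDe⟩ := hex R i hR hiR
        rw [hRe, ← he] at hDe
        have hLR : R.length ≤ L.length + 1 := by
          simpa using hR (i :: L) (by rw [wprod_cons, he, hRe, ← mul_assoc, hinv, one_mul])
        have hDL : D.length = L.length := by
          have := hL D hDe
          omega
        have hrD : IsReducedWord f D := hL.of_eq hDe hDL
        have hiD : wprod f (i :: D) = wprod f R := by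
          rw [wprod_cons, hDe, he, hRe, ← mul_assoc, hinv, one_mul]
        have h1 := key (i :: D) R (hR.of_eq hiD (by simp; omega)) hR hiD
        rw [key L D hL hrD hDe.symm, ← h1, wprod_cons, ← mul_assoc, cs.simple_mul_simple_self,
          one_mul]
  have hbij : Function.Bijective φ := by
    refine ⟨(injective_iff_map_eq_one φ).2 fun x hx => ?_, fun w => ?_⟩
    · exact (hsect x [] (fun _ _ => Nat.zero_le _) (by simp [hx])).trans (wprod_nil _)
    · obtain ⟨L, hL⟩ := hgen w
      exact ⟨wprod cs.simple L, (hφw L).trans hL⟩
  exact ⟨M, cs.map (MulEquiv.ofBijective φ hbij), fun i => by simp [hφ]⟩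

end Cfsg.Agent.H28
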