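import Mathlib

/-!
A finite field structure with an automorphism of prime order fixing only `0` and `1` has `2 ^ r`
elements.
-/

set_option autoImplicit false

namespace Cfsg.Agent.H28

theorem card_eq_two_pow_of_field_aut {M : Type*} [AddCommGroup M] [Finite M]
    (mu : M → M →+ M) (a : M) (ha : a ≠ 0)
    (hcomm : ∀ x y, mu x y = mu y x)
    (hassoc : ∀ x y z, mu (mu x y) z = mu x (mu y z))
    (hone : ∀ x, mu a x = x)
    (hinv : ∀ x, x ≠ 0 → ∃ y, mu x y = a)
    (σ : M ≃+ M) (hσ : ∀ x y, σ (mu x y) = mu (σ x) (σ y))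
    (hne : ∃ x, σ x ≠ x) {r : ℕ} (hr : r.Prime) (hσr : ∀ x, σ^[r] x = x) (hfix : ∀ x, σ x = x ↔ x = 0 ∨ x = a) :
    Nat.card M = 2 ^ r := by
  classical
  haveI := Fintype.ofFinite M
  letI : CommRing M :=
    { (inferInstance : AddCommGroup M) with
      mul := fun x y => mu x y
      one := a
      mul_assoc := hassoc
      one_mul := hone
      mul_one := fun x => (hcomm x a).trans (hone x)
      mul_comm := hcomm
      left_distrib := fun x y z => map_add (mu x) y z
      right_distrib := fun x y z => by
        show mu (x + y) z = mu x z + mu y z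
        rw [hcomm (x + y) z, hcomm x z, hcomm y z, map_add]
      zero_mul := fun x => by
        show mu 0 x = 0
        rw [hcomm 0 x, map_zero]
      mul_zero := fun x => map_zero (mu x) }
  have hF : IsField M := ⟨⟨0, a, fun h => ha h.symm⟩, mul_comm, fun {x} hx => hinv x hx⟩
  letI : Field M := hF.toField
  let s : M ≃+* M := { σ with map_mul' := hσ }
  have hpow : ∀ (n : ℕ) (x : M), (s ^ n) x = σ^[n] x := by
    intro n
    induction n with
    | zero => intro x; rfl
    | succ n ih =>
      intro x
      rw [pow_succ', RingAut.mul_apply, ih, Function.iterate_succ_apply']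
      rfl
  have hsr : s ^ r = 1 := RingEquiv.ext fun x => by rw [hpow, hσr]; rfl
  let A := Subgroup.zpowers s
  letI : MulSemiringAction A M := MulSemiringAction.compHom M A.subtype
  haveI : Finite A := by
    haveI : Finite (M ≃+* M) := Finite.of_injective (fun f => (f : M → M)) DFunLike.coe_injective
    infer_instance
  haveI := Fintype.ofFinite A
  have hset : ∀ x : M, x ∈ FixedPoints.subfield A M ↔ x = 0 ∨ x = a := by
    intro x
    rw [← hfix]
    refine ⟨fun h => h ⟨s, Subgroup.mem_zpowers s⟩, fun h g => ?_⟩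
    have hmem : s ∈ MulAction.stabilizer (M ≃+* M) x := h
    exact (Subgroup.zpowers_le.2 hmem) g.2
  have hcard2 : Nat.card (FixedPoints.subfield A M) = 2 := by
    rw [← SetLike.coe_sort_coe, Nat.card_coe_set_eq,
      show ((FixedPoints.subfield A M : Subfield M) : Set M) = {0, a} from Set.ext hset,
      Set.ncard_pair ha.symm]
  have hfr := @FixedPoints.finrank_eq_card A M _ _ _ _
    ⟨fun {g g'} h => Subtype.ext (RingEquiv.ext fun x => h x)⟩
  have h := Module.natCard_eq_pow_finrank (K := FixedPoints.subfield A M) (V := M)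
  rw [hcard2, hfr] at h
  rw [h]
  congr 1
  rw [← Nat.card_eq_fintype_card, Nat.card_zpowers]
  refine orderOf_eq_prime (hp := ⟨hr⟩) hsr ?_
  intro hs1
  obtain ⟨x, hx⟩ := hne
  exact hx (show s x = x by rw [hs1]; rfl)

end Cfsg.Agent.H28
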