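import Cfsg.Prelude.Def_Blocks
import Cfsg.Agent.CharInduce.Induce
import Cfsg.Agent.CharInduce.Twist
import Cfsg.Agent.CharBasic.Kernel

/-!
Irreducible characters of a group with a normal subgroup containing the centralisers of its
non-identity elements.
-/

set_option autoImplicit false

namespace Cfsg.Agent.H28.Frob

open Cfsg.Agent Finset

universe u

theorem degree_spec {L : Type u} [Group L] {χ : L → ℂ} (h : Cfsg.IsIrrCharacter L χ) :
    χ 1 = (Cfsg.charDegree χ : ℂ) ∧ 0 < Cfsg.charDegree χ := by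
  obtain ⟨d, hd, hd'⟩ := CharBasic.IsIrr.exists_degree h
  have : Cfsg.charDegree χ = d := by simp [Cfsg.charDegree, hd']
  rw [this]; exact ⟨hd', hd⟩

/-- Linear characters are the irreducible characters of degree one. -/
theorem degree_hom {L : Type u} [Group L] (l : L →* ℂˣ) :
    Cfsg.charDegree (fun g => (l g : ℂ)) = 1 := by
  simp [Cfsg.charDegree]

variable {N : Type u} [Group N]

/-- Centralisers of non-identity elements of `H` lie in `H`. -/
def IsFrobKer (H : Subgroup N) : Prop :=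
  ∀ h ∈ H, h ≠ 1 → Subgroup.centralizer ({h} : Set N) ≤ H

variable [Fintype N] {H : Subgroup N} [H.Normal]

theorem eq_one_of_fixed (hC : IsFrobKer H) {τ : H → ℂ} (hτ : Cfsg.IsIrrCharacter H τ) {g : N}
    (hg : CharInduce.conjFun H τ g = τ) (hgH : g ∉ H) : τ = fun _ => 1 := by
  have hcount := CharInduce.card_fixed_irr_mul (G := H) (MulAut.conjNormal g : H ≃* H)
    (CharInduce.isIrr_comp_mulEquiv _)
  have hpairs : Nat.card {p : H × H // p.2 * p.1 * p.2⁻¹ = (MulAut.conjNormal g : H ≃* H) p.1}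
      = Nat.card H := by
    refine Nat.card_congr ⟨fun p => p.1.2, fun x => ⟨(1, x), by simp⟩, ?_, fun x => rfl⟩
    rintro ⟨⟨k, x⟩, hx⟩
    have hx' : (x : N) * k * (x : N)⁻¹ = g * k * g⁻¹ := congrArg Subtype.val hx
    have hnot : (x : N)⁻¹ * g ∉ H := fun hm => hgH (by simpa using H.mul_mem x.2 hm)
    have hk1 : (k : N) = 1 := by
      by_contra hk
      refine hnot (hC k k.2 hk (Subgroup.mem_centralizer_singleton_iff.2 ?_))
      calc (x : N)⁻¹ * g * k = (x : N)⁻¹ * (g * k * g⁻¹) * g := by group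
        _ = (x : N)⁻¹ * ((x : N) * k * (x : N)⁻¹) * g := by rw [hx']
        _ = (k : N) * ((x : N)⁻¹ * g) := by group
    obtain rfl : k = 1 := Subtype.ext hk1
    rfl
  rw [hpairs, Nat.mul_eq_right Nat.card_pos.ne'] at hcount
  obtain ⟨hsub, -⟩ := Nat.card_eq_one_iff_unique.1 hcount
  have h1 : (τ ∘ (MulAut.conjNormal g : H ≃* H)) = τ := by
    conv_rhs => rw [← hg, CharInduce.conjFun_eq_comp]
    rfl
  let a : {φ : Cfsg.IrrCharacter H //
      (φ : H → ℂ) ∘ (MulAut.conjNormal g : H ≃* H) = φ} := ⟨⟨τ, hτ⟩, h1⟩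
  let b : {φ : Cfsg.IrrCharacter H //
      (φ : H → ℂ) ∘ (MulAut.conjNormal g : H ≃* H) = φ} :=
    ⟨⟨_, CharBasic.isIrrCharacter_one⟩, rfl⟩
  exact congrArg (fun c => ((c.1 : Cfsg.IrrCharacter H) : H → ℂ)) (Subsingleton.elim a b)

theorem conjFun_eq_iff (hC : IsFrobKer H) {τ : H → ℂ} (hτ : Cfsg.IsIrrCharacter H τ)
    (hτ1 : τ ≠ fun _ => 1) (x y : N) :
    CharInduce.conjFun H τ x = CharInduce.conjFun H τ y ↔ x * y⁻¹ ∈ H := by
  rw [CharInduce.conjFun_eq_iff, CharInduce.mem_inertia]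
  exact ⟨fun h => by_contra fun hx => hτ1 (eq_one_of_fixed hC hτ h hx),
    fun h => CharInduce.le_inertia H (CharBasic.IsIrr.isClassFunction hτ) h⟩

open Classical in
theorem ind_isIrr (hC : IsFrobKer H) {τ : H → ℂ} (hτ : Cfsg.IsIrrCharacter H τ)
    (hτ1 : τ ≠ fun _ => 1) : Cfsg.IsIrrCharacter N (Cfsg.indFun H τ) := by
  have := Fintype.ofFinite H
  refine CharInduce.isIrr_of_norm_one (CharInduce.IsChar.ind H (CharBasic.IsIrr.isCharacter hτ)) ?_
  rw [CharInduce.classInner_indFun_left H τ _ (CharInduce.isClassFunction_indFun H τ),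
    CharInduce.indFun_res_normal, CharBasic.classInner_smul_right, CharBasic.classInner_sum_right]
  simp only [CharBasic.classInner_irr hτ (CharInduce.isIrrCharacter_conjFun H hτ _), map_inv₀,
    map_natCast, Finset.sum_boole]
  have hin : ∀ x : N, τ = CharInduce.conjFun H τ x ↔ x ∈ H := fun x => by
    have h := conjFun_eq_iff hC hτ hτ1 1 x
    rwa [CharInduce.conjFun_one, one_mul, inv_mem_iff] at h
  rw [Finset.filter_congr (q := fun x => x ∈ H) fun x _ => hin x,
    ← Fintype.card_subtype, ← Nat.card_eq_fintype_card,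
    inv_mul_cancel₀ (CharInduce.card_ne_zero_complex H)]

theorem ind_degree {τ : H → ℂ} (hτ : Cfsg.IsIrrCharacter H τ) :
    Cfsg.indFun H τ 1 = ((H.index * Cfsg.charDegree τ : ℕ) : ℂ) := by
  rw [CharInduce.indFun_one, (degree_spec hτ).1, Nat.cast_mul]

/-- Induced characters are not constant on `H`. -/
theorem ind_not_const (hC : IsFrobKer H) {τ : H → ℂ} (hτ : Cfsg.IsIrrCharacter H τ)
    (hτ1 : τ ≠ fun _ => 1) : ∃ h ∈ H, Cfsg.indFun H τ h ≠ Cfsg.indFun H τ 1 := by
  classical
  have := Fintype.ofFinite H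
  by_contra hne
  push Not at hne
  have hcl := CharInduce.isClassFunction_indFun H τ
  have h1 : (fun n : H => Cfsg.indFun H τ n) =
      (Cfsg.indFun H τ 1) • (fun _ : H => (1 : ℂ)) := by
    funext n; simp [hne n n.2]
  have h2 : Cfsg.classInner τ (fun n : H => Cfsg.indFun H τ n) = 1 := by
    rw [← CharInduce.classInner_indFun_left H τ _ hcl,
      CharBasic.classInner_irr_self (ind_isIrr hC hτ hτ1)]
  rw [h1, CharBasic.classInner_smul_right,
    CharBasic.classInner_irr_of_ne hτ CharBasic.isIrrCharacter_one hτ1, mul_zero] at h2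
  exact zero_ne_one h2

/-- An irreducible character not constant on `H` is induced from `H`. -/
theorem exists_ind_eq (hC : IsFrobKer H) {χ : N → ℂ} (hχ : Cfsg.IsIrrCharacter N χ)
    (hne : ∃ h ∈ H, χ h ≠ χ 1) :
    ∃ τ : H → ℂ, Cfsg.IsIrrCharacter H τ ∧ τ ≠ (fun _ => 1) ∧ χ = Cfsg.indFun H τ := by
  classical
  have := Fintype.ofFinite H
  have hcl := CharBasic.IsIrr.isClassFunction hχ
  have hres : Cfsg.IsClassFunction H (fun n : H => χ n) := fun a b => by
    simp only [Subgroup.coe_mul, InvMemClass.coe_inv]; rw [hcl]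
  obtain ⟨h, hh, hne⟩ := hne
  by_contra hcon
  push Not at hcon
  apply hne
  have hexp := CharBasic.classFunction_expansion hres
  have hzero : ∀ ψ : Cfsg.IrrCharacter H, (ψ : H → ℂ) ≠ (fun _ => 1) →
      Cfsg.classInner (fun n : H => χ n) (ψ : H → ℂ) = 0 := by
    intro ψ hψ
    rw [← CharInduce.classInner_indFun_right H (ψ : H → ℂ) χ hcl]
    exact CharBasic.classInner_irr_of_ne hχ (ind_isIrr hC ψ.2 hψ) (hcon ψ ψ.2 hψ)
  rw [Finset.sum_eq_single (⟨_, CharBasic.isIrrCharacter_one⟩ : Cfsg.IrrCharacter H)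
    (fun ψ _ hψ => by
      rw [hzero ψ (fun e => hψ (Subtype.ext e)), zero_smul])
    (fun h => absurd (mem_univ _) h)] at hexp
  have e1 := congrFun hexp ⟨h, hh⟩
  have e2 := congrFun hexp (1 : H)
  simp only [Pi.smul_apply, smul_eq_mul, mul_one, Subgroup.coe_one] at e1 e2
  rw [e1, e2]

theorem exists_conj_of_ind_eq (hC : IsFrobKer H) {τ σ : H → ℂ} (hτ : Cfsg.IsIrrCharacter H τ)
    (hτ1 : τ ≠ fun _ => 1) (hσ : Cfsg.IsIrrCharacter H σ)
    (h : Cfsg.indFun H τ = Cfsg.indFun H σ) : ∃ x : N, σ = CharInduce.conjFun H τ x := by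
  classical
  have := Fintype.ofFinite H
  have hi := ind_isIrr hC hτ hτ1
  have hcl := CharBasic.IsIrr.isClassFunction hi
  refine CharInduce.exists_conjFun_eq_of_constituent H hi hτ hσ ?_ ?_
  · rw [← CharInduce.classInner_indFun_right H τ _ hcl, CharBasic.classInner_irr_self hi]
    exact one_ne_zero
  · rw [← CharInduce.classInner_indFun_right H σ _ hcl, ← h, CharBasic.classInner_irr_self hi]
    exact one_ne_zero

/-- The orbit of a non-trivial irreducible character of `H`, parametrised by `N ⧸ H`. -/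
noncomputable def orbit (τ : Cfsg.IrrCharacter H) : N ⧸ H → Cfsg.IrrCharacter H :=
  Quotient.lift (fun x => (⟨CharInduce.conjFun H (τ : H → ℂ) x,
    CharInduce.isIrrCharacter_conjFun H τ.2 x⟩ : Cfsg.IrrCharacter H)) fun x y hxy => by
    refine Subtype.ext ((CharInduce.conjFun_eq_iff H _ x y).2
      (CharInduce.le_inertia H (CharBasic.IsIrr.isClassFunction τ.2) ?_))
    rw [← inv_mem_iff, mul_inv_rev, inv_inv]
    exact (inferInstance : H.Normal).mem_comm (QuotientGroup.leftRel_apply.1 hxy)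

theorem orbit_mk (τ : Cfsg.IrrCharacter H) (x : N) :
    (orbit τ (x : N ⧸ H) : H → ℂ) = CharInduce.conjFun H (τ : H → ℂ) x := rfl

theorem orbit_injective (hC : IsFrobKer H) {τ : Cfsg.IrrCharacter H}
    (hτ1 : (τ : H → ℂ) ≠ fun _ => 1) : Function.Injective (orbit τ) := by
  intro p q h
  induction p using QuotientGroup.induction_on
  rename_i x
  induction q using QuotientGroup.induction_on
  rename_i y
  have h' := congrArg Subtype.val h
  simp only [orbit_mk] at h'
  have hm := (conjFun_eq_iff hC τ.2 hτ1 x y).1 h'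
  rw [QuotientGroup.eq]
  refine (inferInstance : H.Normal).mem_comm ?_
  rw [← inv_mem_iff, mul_inv_rev, inv_inv]
  exact hm

open Classical in
/-- At most `[N : H]` characters of `H` induce to a given character. -/
theorem card_fibre_le (hC : IsFrobKer H) (T : Finset (Cfsg.IrrCharacter H))
    (hT : ∀ τ ∈ T, (τ : H → ℂ) ≠ fun _ => 1) (χ : N → ℂ) :
    (T.filter fun τ : Cfsg.IrrCharacter H => Cfsg.indFun H (τ : H → ℂ) = χ).card ≤ H.index := by
  rcases (T.filter fun τ : Cfsg.IrrCharacter H => Cfsg.indFun H (τ : H → ℂ) = χ).eq_empty_or_nonempty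
    with h | ⟨τ, hτ⟩
  · rw [h]; simp
  obtain ⟨hτT, hτe⟩ := mem_filter.1 hτ
  have := Fintype.ofFinite (N ⧸ H)
  refine (card_le_card (t := Finset.univ.image (orbit τ)) fun σ hσ => ?_).trans
    (Finset.card_image_le.trans (by rw [card_univ, Subgroup.index_eq_card, Nat.card_eq_fintype_card]))
  obtain ⟨hσT, hσe⟩ := mem_filter.1 hσ
  obtain ⟨x, hx⟩ := exists_conj_of_ind_eq hC τ.2 (hT τ hτT) σ.2 (hτe.trans hσe.symm)
  exact mem_image.2 ⟨x, mem_univ _, Subtype.ext hx.symm⟩

end Cfsg.Agent.H28.Frob
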