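import Mathlib

/-!
An action in which every point has a non-trivial stabiliser while no non-identity element fixes two
points has a single orbit.
-/

set_option autoImplicit false

namespace Cfsg.Agent.H28

open MulAction

theorem mem_orbit_of_semiFrobenius {M X : Type*} [Group M] [MulAction M X] [Finite M] [Finite X]
    (x y : X) (hne : ∀ w ∈ orbit M x ∪ orbit M y, stabilizer M w ≠ ⊥)
    (h1 : ∀ g : M, g ≠ 1 → ∀ w ∈ orbit M x ∪ orbit M y, ∀ w' ∈ orbit M x ∪ orbit M y,
      g • w = w → g • w' = w' → w = w') :
    y ∈ orbit M x := by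
  classical
  by_contra hxy
  haveI := Fintype.ofFinite M
  haveI := Fintype.ofFinite X
  set S : Finset X := (orbit M x).toFinset with hS
  set T : Finset X := (orbit M y).toFinset with hT
  have hdisj : Disjoint S T := by
    rw [Finset.disjoint_left]
    intro w hwS hwT
    simp only [hS, hT, Set.mem_toFinset] at hwS hwT
    exact hxy (orbit_eq_iff.1 ((orbit_eq_iff.2 hwT).symm.trans (orbit_eq_iff.2 hwS)))
  let F : X → Finset M := fun w => Finset.univ.filter fun g => g • w = w ∧ g ≠ 1
  have hF : ∀ w, (F w).card + 1 = Nat.card (stabilizer M w) := by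
    intro w
    rw [Nat.card_eq_fintype_card, Fintype.card_subtype]
    have e : (Finset.univ.filter fun g => g ∈ stabilizer M w) = insert 1 (F w) := by
      ext g
      simp [F, mem_stabilizer_iff]
      by_cases hg : g = 1 <;> simp [hg]
    rw [e, Finset.card_insert_of_notMem (by simp [F])]
  have hhalf : ∀ z : X, orbit M z ⊆ orbit M x ∪ orbit M y →
      Nat.card M ≤ 2 * ∑ w ∈ (orbit M z).toFinset, (F w).card := by
    intro z hz
    rw [Finset.mul_sum]
    have h2 : ∀ w ∈ (orbit M z).toFinset, Nat.card (stabilizer M w) ≤ 2 * (F w).card := by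
      intro w hw
      rw [← hF w]
      have := hne w (hz (Set.mem_toFinset.1 hw))
      have h3 : Nat.card (stabilizer M w) ≠ 1 := fun h => this (Subgroup.card_eq_one.1 h)
      rw [← hF w] at h3
      omega
    refine le_trans ?_ (Finset.sum_le_sum h2)
    rw [Finset.sum_congr rfl (g := fun _ => Nat.card (stabilizer M z)), Finset.sum_const,
      smul_eq_mul]
    · rw [← (stabilizer M z).index_mul_card, index_stabilizer,
        Set.ncard_eq_toFinset_card']
    · intro w hw
      obtain ⟨g, rfl⟩ := Set.mem_toFinset.1 hw
      exact Nat.card_congr (stabilizerEquivStabilizer (g := g) rfl).symm.toEquiv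
  have hsum : ∑ w ∈ S ∪ T, (F w).card + 1 ≤ Nat.card M := by
    rw [← Finset.card_biUnion, Nat.card_eq_fintype_card]
    · refine Nat.succ_le_of_lt (Finset.card_lt_univ_of_notMem (x := 1) ?_)
      simp [F]
    · intro w hw w' hw' hww'
      rw [Function.onFun, Finset.disjoint_left]
      intro g hg hg'
      simp only [F, Finset.mem_filter, Finset.mem_univ, true_and] at hg hg'
      have hmem : ∀ {u : X}, u ∈ (↑(S ∪ T) : Set X) → u ∈ orbit M x ∪ orbit M y := by
        intro u hu
        simpa [hS, hT] using hu
      exact hww' (h1 g hg.2 w (hmem hw) w' (hmem hw') hg.1 hg'.1)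
  rw [Finset.sum_union hdisj] at hsum
  have a1 := hhalf x Set.subset_union_left
  have a2 := hhalf y Set.subset_union_right
  have e1 : (orbit M x).toFinset = S := by rw [hS]
  have e2 : (orbit M y).toFinset = T := by rw [hT]
  rw [e1] at a1
  rw [e2] at a2
  have := (Nat.card_pos : 0 < Nat.card M)
  omega

end Cfsg.Agent.H28
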