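import Mathlib
import Cfsg.Prelude.Def_Sporadic_a

/-!
Double counting in Steiner systems: blocks through a set, and intersection numbers.
-/

set_option autoImplicit false

namespace Cfsg.Agent.H28

open Finset

variable {α : Type*} [Fintype α] [DecidableEq α] {t k : ℕ} {B : Set (Finset α)}

/-- The blocks as a finset. -/
noncomputable def blocks (B : Set (Finset α)) : Finset (Finset α) := (Set.toFinite B).toFinset

@[local simp] theorem mem_blocks {b : Finset α} : b ∈ blocks B ↔ b ∈ B := by simp [blocks]

/-- The blocks containing a given set. -/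
noncomputable def through (B : Set (Finset α)) (J : Finset α) : Finset (Finset α) :=
  (blocks B).filter (J ⊆ ·)

theorem steiner_eq_of_subset (hB : Cfsg.IsSteinerSystem t k B) {b c T : Finset α} (hb : b ∈ B)
    (hc : c ∈ B) (hT : T.card = t) (h1 : T ⊆ b) (h2 : T ⊆ c) : b = c :=
  (hB.2 T hT).unique ⟨hb, h1⟩ ⟨hc, h2⟩

theorem inter_card_lt (hB : Cfsg.IsSteinerSystem t k B) {b c : Finset α} (hb : b ∈ B)
    (hc : c ∈ B) (hne : b ≠ c) : (b ∩ c).card < t := by
  by_contra h
  push Not at h
  obtain ⟨T, hT, hTc⟩ := Finset.exists_subset_card_eq h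
  exact hne (steiner_eq_of_subset hB hb hc hTc (hT.trans inter_subset_left)
    (hT.trans inter_subset_right))

/-- Double counting: the number of blocks through a `j`-set, `j ≤ t`. -/
theorem card_through (hB : Cfsg.IsSteinerSystem t k B) {J : Finset α} (hJ : J.card ≤ t) :
    (through B J).card * (k - J.card).choose (t - J.card) =
      (Fintype.card α - J.card).choose (t - J.card) := by
  have h1 := Finset.card_filter_powersetCard_subset J (Finset.univ : Finset α) t
    (subset_univ _) hJ
  rw [Finset.card_univ] at h1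
  rw [← h1]
  have h2 : ((Finset.univ : Finset α).powersetCard t).filter (J ⊆ ·) =
      (through B J).biUnion fun b => (b.powersetCard t).filter (J ⊆ ·) := by
    ext T
    simp only [mem_filter, mem_powersetCard, subset_univ, true_and, mem_biUnion, through,
      mem_blocks]
    constructor
    · rintro ⟨hT, hJT⟩
      obtain ⟨b, hb, hTb⟩ := (hB.2 T hT).exists
      exact ⟨b, ⟨hb, hJT.trans hTb⟩, ⟨hTb, hT⟩, hJT⟩
    · rintro ⟨b, -, ⟨-, hT⟩, hJT⟩
      exact ⟨hT, hJT⟩
  rw [h2, card_biUnion]
  · rw [Finset.sum_congr rfl (g := fun _ => (k - J.card).choose (t - J.card)), sum_const,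
      smul_eq_mul]
    intro b hb
    simp only [through, mem_filter, mem_blocks] at hb
    rw [Finset.card_filter_powersetCard_subset J b t hb.2 hJ, hB.1 b hb.1]
  · intro b hb c hc hne
    rw [Function.onFun, Finset.disjoint_left]
    intro T hTb hTc
    simp only [mem_filter, mem_powersetCard] at hTb hTc
    simp only [through, coe_filter, mem_blocks, Set.mem_setOf_eq] at hb hc
    exact hne (steiner_eq_of_subset hB hb.1 hc.1 hTb.1.2 hTb.1.1 hTc.1.1)

theorem card_through_eq (hB : Cfsg.IsSteinerSystem t k B) {J : Finset α} (hJ : J.card ≤ t)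
    (hk : t ≤ k) :
    (through B J).card =
      (Fintype.card α - J.card).choose (t - J.card) / (k - J.card).choose (t - J.card) := by
  rw [← card_through hB hJ, Nat.mul_div_cancel]
  exact Nat.choose_pos (by omega)

theorem moment (hB : Cfsg.IsSteinerSystem t k B) (X : Finset α) {j : ℕ} (hj : j ≤ t)
    (hk : t ≤ k) :
    ∑ c ∈ blocks B, (c ∩ X).card.choose j =
      X.card.choose j * ((Fintype.card α - j).choose (t - j) / (k - j).choose (t - j)) := by
  calc ∑ c ∈ blocks B, (c ∩ X).card.choose j
      = ∑ c ∈ blocks B, ((X.powersetCard j).filter (· ⊆ c)).card := by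
        refine Finset.sum_congr rfl fun c _ => ?_
        rw [← card_powersetCard]
        congr 1
        ext J
        simp [Finset.subset_inter_iff, and_comm, and_assoc, and_left_comm]
    _ = ∑ J ∈ X.powersetCard j, (through B J).card := by
        simp only [through, Finset.card_filter]
        exact Finset.sum_comm
    _ = _ := by
        rw [Finset.sum_congr rfl (g := fun _ =>
          (Fintype.card α - j).choose (t - j) / (k - j).choose (t - j))]
        · rw [sum_const, card_powersetCard, smul_eq_mul]
        · intro J hJ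
          rw [mem_powersetCard] at hJ
          rw [card_through_eq hB (hJ.2.le.trans hj) hk, hJ.2]

theorem moment_others (hB : Cfsg.IsSteinerSystem t k B) {b : Finset α} (hb : b ∈ B) {j : ℕ}
    (hj : j ≤ t) (hk : t ≤ k) :
    k.choose j + ∑ c ∈ (blocks B).erase b, (c ∩ b).card.choose j =
      k.choose j * ((Fintype.card α - j).choose (t - j) / (k - j).choose (t - j)) := by
  have h := moment hB b hj hk
  rw [hB.1 b hb] at h
  rw [← h, ← Finset.add_sum_erase _ _ ((mem_blocks).2 hb), Finset.inter_self, hB.1 b hb]

/-- The number of other blocks meeting `b` in exactly `i` points. -/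
noncomputable def interNum (B : Set (Finset α)) (b : Finset α) (i : ℕ) : ℕ :=
  (((blocks B).erase b).filter fun c => (c ∩ b).card = i).card

theorem sum_interNum (hB : Cfsg.IsSteinerSystem t k B) {b : Finset α} (hb : b ∈ B) {j : ℕ}
    (hj : j ≤ t) (hk : t ≤ k) :
    k.choose j + ∑ i ∈ range t, interNum B b i * i.choose j =
      k.choose j * ((Fintype.card α - j).choose (t - j) / (k - j).choose (t - j)) := by
  rw [← moment_others hB hb hj hk]
  congr 1
  rw [← Finset.sum_fiberwise_of_maps_to (t := range t) (g := fun c => (c ∩ b).card)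
    (f := fun c => (c ∩ b).card.choose j) (fun c hc => ?_)]
  · refine Finset.sum_congr rfl fun i _ => ?_
    rw [Finset.sum_congr rfl (g := fun _ => i.choose j), sum_const, smul_eq_mul]
    · rfl
    · intro c hc
      rw [(mem_filter.1 hc).2]
  · simp only [mem_erase, mem_blocks] at hc
    exact mem_range.2 (inter_card_lt hB hc.2 hb hc.1)

theorem interNum_eq_zero_iff {b : Finset α} {i : ℕ} :
    interNum B b i = 0 ↔ ∀ c ∈ B, c ≠ b → (c ∩ b).card ≠ i := by
  simp [interNum, Finset.card_eq_zero, Finset.filter_eq_empty_iff]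
  exact ⟨fun h c hc hne => h hne hc, fun h c hne hc => h c hc hne⟩

/-- Intersection numbers of S(5, 8, 24). -/
theorem interNum_5_8_24 (hB : Cfsg.IsSteinerSystem 5 8 B) (hα : Fintype.card α = 24)
    {b : Finset α} (hb : b ∈ B) :
    interNum B b 0 = 30 ∧ interNum B b 1 = 0 ∧ interNum B b 2 = 448 ∧
      interNum B b 3 = 0 ∧ interNum B b 4 = 280 := by
  have h0 := sum_interNum hB hb (j := 0) (by norm_num) (by norm_num)
  have h1 := sum_interNum hB hb (j := 1) (by norm_num) (by norm_num)
  have h2 := sum_interNum hB hb (j := 2) (by norm_num) (by norm_num)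
  have h3 := sum_interNum hB hb (j := 3) (by norm_num) (by norm_num)
  have h4 := sum_interNum hB hb (j := 4) (by norm_num) (by norm_num)
  simp [hα, Finset.sum_range_succ, Nat.choose] at h0 h1 h2 h3 h4
  omega

/-- Intersection numbers of S(4, 7, 23). -/
theorem interNum_4_7_23 (hB : Cfsg.IsSteinerSystem 4 7 B) (hα : Fintype.card α = 23)
    {b : Finset α} (hb : b ∈ B) :
    interNum B b 0 = 0 ∧ interNum B b 1 = 112 ∧ interNum B b 2 = 0 ∧ interNum B b 3 = 140 := by
  have h0 := sum_interNum hB hb (j := 0) (by norm_num) (by norm_num)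
  have h1 := sum_interNum hB hb (j := 1) (by norm_num) (by norm_num)
  have h2 := sum_interNum hB hb (j := 2) (by norm_num) (by norm_num)
  have h3 := sum_interNum hB hb (j := 3) (by norm_num) (by norm_num)
  simp [hα, Finset.sum_range_succ, Nat.choose] at h0 h1 h2 h3
  omega

/-- Intersection numbers of S(3, 6, 22). -/
theorem interNum_3_6_22 (hB : Cfsg.IsSteinerSystem 3 6 B) (hα : Fintype.card α = 22)
    {b : Finset α} (hb : b ∈ B) :
    interNum B b 0 = 16 ∧ interNum B b 1 = 0 ∧ interNum B b 2 = 60 := by
  have h0 := sum_interNum hB hb (j := 0) (by norm_num) (by norm_num)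
  have h1 := sum_interNum hB hb (j := 1) (by norm_num) (by norm_num)
  have h2 := sum_interNum hB hb (j := 2) (by norm_num) (by norm_num)
  simp [hα, Finset.sum_range_succ, Nat.choose] at h0 h1 h2
  omega

/-- Intersection numbers of S(5, 6, 12). -/
theorem interNum_5_6_12 (hB : Cfsg.IsSteinerSystem 5 6 B) (hα : Fintype.card α = 12)
    {b : Finset α} (hb : b ∈ B) :
    interNum B b 0 = 1 ∧ interNum B b 1 = 0 ∧ interNum B b 2 = 45 ∧
      interNum B b 3 = 40 ∧ interNum B b 4 = 45 := by
  have h0 := sum_interNum hB hb (j := 0) (by norm_num) (by norm_num)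
  have h1 := sum_interNum hB hb (j := 1) (by norm_num) (by norm_num)
  have h2 := sum_interNum hB hb (j := 2) (by norm_num) (by norm_num)
  have h3 := sum_interNum hB hb (j := 3) (by norm_num) (by norm_num)
  have h4 := sum_interNum hB hb (j := 4) (by norm_num) (by norm_num)
  simp [hα, Finset.sum_range_succ, Nat.choose] at h0 h1 h2 h3 h4
  omega

theorem inter_mem_5_8_24 (hB : Cfsg.IsSteinerSystem 5 8 B) (hα : Fintype.card α = 24)
    {b c : Finset α} (hb : b ∈ B) (hc : c ∈ B) (hne : b ≠ c) :
    (b ∩ c).card = 0 ∨ (b ∩ c).card = 2 ∨ (b ∩ c).card = 4 := by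
  obtain ⟨-, h1, -, h3, -⟩ := interNum_5_8_24 hB hα hb
  have := inter_card_lt hB hb hc hne
  have e1 := interNum_eq_zero_iff.1 h1 c hc hne.symm
  have e3 := interNum_eq_zero_iff.1 h3 c hc hne.symm
  rw [Finset.inter_comm] at e1 e3
  omega

/-- An 8-set meeting every block of S(5, 8, 24) evenly is a block. -/
theorem mem_of_even_inter (hB : Cfsg.IsSteinerSystem 5 8 B) (hα : Fintype.card α = 24)
    {X : Finset α} (hX : X.card = 8) (heven : ∀ c ∈ B, Even (c ∩ X).card) : X ∈ B := by
  have hfib : ∀ j, ∑ c ∈ blocks B, (c ∩ X).card.choose j =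
      ∑ i ∈ range 9, ((blocks B).filter fun c => (c ∩ X).card = i).card * i.choose j := by
    intro j
    rw [← Finset.sum_fiberwise_of_maps_to (t := range 9) (g := fun c => (c ∩ X).card)
      (f := fun c => (c ∩ X).card.choose j) (fun c _ => ?_)]
    · refine Finset.sum_congr rfl fun i _ => ?_
      rw [Finset.sum_congr rfl (g := fun _ => i.choose j), sum_const, smul_eq_mul]
      intro c hc
      rw [(mem_filter.1 hc).2]
    · have := card_le_card (inter_subset_right (s₁ := c) (s₂ := X))
      exact mem_range.2 (by omega)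
  have hodd : ∀ i, Odd i → ((blocks B).filter fun c => (c ∩ X).card = i).card = 0 := by
    intro i hi
    rw [Finset.card_eq_zero, Finset.filter_eq_empty_iff]
    intro c hc h
    exact Nat.not_even_iff_odd.2 hi (h ▸ heven c (mem_blocks.1 hc))
  have h5 := (hfib 5).symm.trans (moment hB X (j := 5) le_rfl (by norm_num))
  have h4 := (hfib 4).symm.trans (moment hB X (j := 4) (by norm_num) (by norm_num))
  have h3 := (hfib 3).symm.trans (moment hB X (j := 3) (by norm_num) (by norm_num))
  simp [hα, hX, Finset.sum_range_succ, Nat.choose, hodd 3 (by decide), hodd 5 (by decide),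
    hodd 7 (by decide)] at h3 h4 h5
  obtain ⟨c, hc⟩ : ((blocks B).filter fun c => (c ∩ X).card = 8).Nonempty := by
    rw [← Finset.card_pos]
    omega
  simp only [mem_filter, mem_blocks] at hc
  have h : c ∩ X = X := eq_of_subset_of_card_le inter_subset_right (by omega)
  have h' : X = c := eq_of_subset_of_card_le (h ▸ inter_subset_left) (by rw [hB.1 c hc.1]; omega)
  exact h' ▸ hc.1

end Cfsg.Agent.H28
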