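import Mathlib

/-!
Arithmetic for the exclusion of kernels of order `q³` in Zassenhaus groups with `e = q - 1`.
-/

set_option autoImplicit false

namespace Cfsg.Agent.H28.ZT

theorem kappa_zero {q κ ε : ℤ} (hq : 2 ≤ q) (hε : ε ^ 2 = 1)
    (h : (q + 1) * ((q + 1) * κ - ε) ^ 2 + (q + 1) ^ 2 ≤ (q + 1) * q ^ 2) : κ = 0 := by
  have h1 : ((q + 1) * κ - ε) ^ 2 + (q + 1) ≤ q ^ 2 := by
    refine le_of_mul_le_mul_left ?_ (show (0 : ℤ) < q + 1 by omega)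
    linarith
  have h2 : ((q + 1) * κ - ε) ^ 2 < q ^ 2 := by omega
  obtain ⟨h3, h4⟩ := abs_lt.1 (abs_lt_of_sq_lt_sq h2 (by omega))
  have hε' : ε ≤ 1 ∧ -1 ≤ ε := ⟨by nlinarith, by nlinarith⟩
  by_contra hne
  rcases Int.lt_or_gt_of_ne hne with hk | hk
  · have : (q + 1) * κ ≤ -(q + 1) := by nlinarith
    omega
  · have : q + 1 ≤ (q + 1) * κ := by nlinarith
    omega

theorem m_cases {q f m ε : ℤ} (hq : 0 < q) (hf : 0 ≤ f) (hfq : f ≤ q) (hε : ε ^ 2 = 1)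
    (h : (f * ε - m) ^ 2 + q * m ^ 2 ≤ f ^ 2 + 1) : m = 0 ∨ (m = ε ∧ q ≤ 2 * f) := by
  have h1 : (q + 1) * m ^ 2 - 2 * f * ε * m ≤ 1 := by nlinarith
  have hlt : -2 < m ∧ m < 2 := by
    by_contra hc
    have hm2 : 4 ≤ m ^ 2 := by
      rcases le_or_gt m (-2) with h2 | h2
      · nlinarith
      · have : 2 ≤ m := by omega
        nlinarith
    have hem : 2 * (ε * m) ≤ m ^ 2 := by
      have : (ε * m) ^ 2 = m ^ 2 := by rw [mul_pow, hε, one_mul]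
      nlinarith [sq_nonneg (ε * m - 2)]
    nlinarith
  rcases sq_eq_one_iff.1 hε with rfl | rfl
  · rcases (show m = 0 ∨ m = 1 ∨ m = -1 by omega) with rfl | rfl | rfl
    · exact Or.inl rfl
    · exact Or.inr ⟨rfl, by linarith⟩
    · exfalso; linarith
  · rcases (show m = 0 ∨ m = 1 ∨ m = -1 by omega) with rfl | rfl | rfl
    · exact Or.inl rfl
    · exfalso; linarith
    · exact Or.inr ⟨rfl, by linarith⟩

theorem c_zero {q d c : ℤ} (hq : 4 ≤ q) (hd : c * q ^ 3 - (q ^ 2 - 1) ≤ d)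
    (h : (q + 1) * d ^ 2 + (q ^ 3) ^ 2 ≤ (q ^ 3 + 1) * q ^ 3 * (q - 1)) : c ≤ 0 := by
  by_contra hc
  have hq3 : 0 ≤ q ^ 3 := by positivity
  have h0 : q ^ 3 - q ^ 2 + 1 ≤ d := by nlinarith
  have hpos : 0 ≤ q ^ 3 - q ^ 2 + 1 := by nlinarith
  have h1 : (q + 1) * (q ^ 3 - q ^ 2 + 1) ^ 2 ≤ (q + 1) * d ^ 2 := by gcongr
  have h2 : (q ^ 3 + 1) * q ^ 3 * (q - 1) < (q + 1) * (q ^ 3 - q ^ 2 + 1) ^ 2 + (q ^ 3) ^ 2 := by
    have e1 : 4 * q ^ 5 ≤ q ^ 6 := by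
      have : 0 ≤ q ^ 5 := by positivity
      nlinarith
    have e2 : (0 : ℤ) ≤ q ^ 4 := by positivity
    have e3 : 2 * q ^ 2 ≤ q ^ 4 := by
      have : 0 ≤ q ^ 2 := by positivity
      nlinarith
    have e4 : (0 : ℤ) < q ^ 5 := by positivity
    nlinarith
  linarith

theorem c_bound {q κ m c : ℤ} (hq : 4 ≤ q) (hκ : κ ^ 2 ≤ q) (hm : m ^ 2 ≤ q)
    (hD : (κ + c * q ^ 3 + (q - 1) * q * m) ^ 2 ≤ (q ^ 3 + 1) * q ^ 3 * (q - 1)) :
    c ≤ 1 ∨ (c - 1) ^ 2 < q := by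
  by_contra hc
  rw [not_or, not_le, not_lt] at hc
  obtain ⟨hc1, hc2⟩ := hc
  have hκ' : -q ≤ 2 * κ := by nlinarith
  have hm' : -q ≤ 2 * m := by nlinarith
  have hq3 : 0 ≤ q ^ 3 := by positivity
  have hlow : (c - 1) * q ^ 3 ≤ κ + c * q ^ 3 + (q - 1) * q * m := by
    have : 0 ≤ (q - 1) * q * (2 * m + q) := by
      have : 0 ≤ (q - 1) * q := by nlinarith
      nlinarith
    nlinarith
  have hnn : 0 ≤ (c - 1) * q ^ 3 := by nlinarith
  have h1 : ((c - 1) * q ^ 3) ^ 2 ≤ (q ^ 3 + 1) * q ^ 3 * (q - 1) :=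
    le_trans (pow_le_pow_left₀ hnn hlow 2) hD
  have h2 : q * (q ^ 3) ^ 2 ≤ ((c - 1) * q ^ 3) ^ 2 := by
    rw [mul_pow]; gcongr
  have h3 : (0 : ℤ) < q ^ 3 := by positivity
  have h4 : q - 1 < q ^ 3 := by
    have : q ^ 1 ≤ q ^ 3 := pow_le_pow_right₀ (by omega) (by norm_num)
    rw [pow_one] at this
    omega
  nlinarith

theorem small_sum {q κ m c : ℤ} (n : ℕ) (hn : 2 ≤ n) (hqdef : q = 2 ^ n) (hmodd : Odd m)
    (hκ : κ ^ 2 + 2 ≤ q) (hm : m ^ 2 ≤ q) (hc : 0 ≤ c) (hcb : c ≤ 1 ∨ (c - 1) ^ 2 < q)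
    (hsq : (κ + c * q ^ 3 + (q - 1) * q * m) ^ 2 ≤ (q ^ 3 + 1) * q ^ 3 * (q - 1)) :
    |κ + c| < q - 1 := by
  obtain ⟨k, hk⟩ := hmodd
  rw [abs_lt]
  rcases (show n = 2 ∨ n = 3 ∨ 4 ≤ n by omega) with h | h | h
  · subst h
    norm_num at hqdef
    subst hqdef
    have hκ1 : -1 ≤ κ ∧ κ ≤ 1 := ⟨by nlinarith, by nlinarith⟩
    have hm1 : -1 ≤ m ∧ m ≤ 1 := by
      have : -2 ≤ m ∧ m ≤ 2 := ⟨by nlinarith, by nlinarith⟩
      omega
    have hc2 : c ≤ 1 := by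
      by_contra hc2
      have h1 : 115 ≤ κ + c * 4 ^ 3 + (4 - 1) * 4 * m := by norm_num; omega
      have h2 := pow_le_pow_left₀ (by norm_num) h1 2
      norm_num at h2 hsq
      linarith
    omega
  · subst h
    norm_num at hqdef
    subst hqdef
    have hκ1 : -2 ≤ κ ∧ κ ≤ 2 := ⟨by nlinarith, by nlinarith⟩
    rcases hcb with h | h
    · omega
    · have : c - 1 ≤ 2 := by nlinarith
      omega
  · have h16 : 16 ≤ q := by
      rw [hqdef]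
      calc (16 : ℤ) = 2 ^ 4 := by norm_num
        _ ≤ 2 ^ n := pow_le_pow_right₀ (by norm_num) h
    have hk4 : -q < 4 * κ + 1 ∧ 4 * κ ≤ q := by
      refine ⟨?_, ?_⟩ <;> nlinarith
    have hc4 : 4 * (c - 1) ≤ q := by
      rcases hcb with h | h
      · omega
      · nlinarith
    omega

theorem divisor_false {q m c k : ℤ} (hq : 4 ≤ q) (hmodd : Odd m) (hm : m ^ 2 ≤ q) (hc1 : 1 ≤ c)
    (hk0 : 0 < k) (hk : q ^ 3 + 1 = (c * (q ^ 2 + q + 1) + q * m) * k) : False := by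
  obtain ⟨l, hl⟩ : ∃ l : ℤ, k * c = 1 + l * q :=
    ⟨q ^ 2 - k * c * q - k * c - k * m, by linear_combination -hk⟩
  have hmain : (l - 1) * c * q ^ 2 + q * (c + l * c + l * m) + (c + m + l * c) = 0 := by
    have h1 : (1 + l * q) * (c * (q ^ 2 + q + 1) + q * m) = c * (q ^ 3 + 1) := by
      rw [← hl, hk]; ring
    have h2 : q * ((l - 1) * c * q ^ 2 + q * (c + l * c + l * m) + (c + m + l * c)) = 0 := by
      linear_combination h1
    exact (mul_eq_zero.1 h2).resolve_left (by omega)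
  have hkc1 : 1 ≤ k * c := one_le_mul_of_one_le_of_one_le hk0 hc1
  have hl0 : 0 ≤ l := by
    by_contra h
    have : l * q ≤ -1 * q := mul_le_mul_of_nonneg_right (by omega) (by omega)
    omega
  have hm' : -q ≤ 2 * m ∧ 2 * m ≤ q := ⟨by nlinarith, by nlinarith⟩
  obtain ⟨j, hj⟩ := hmodd
  rcases (show l = 0 ∨ l = 1 ∨ 2 ≤ l by omega) with rfl | rfl | hl2
  · have hkc : k * c = 1 := by simpa using hl
    have hc : c = 1 := Int.eq_one_of_mul_eq_one_left (by omega) hkc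
    subst hc
    nlinarith
  · have h : (q + 1) * (2 * c + m) = 0 := by linear_combination hmain
    have h2 := (mul_eq_zero.1 h).resolve_left (by omega)
    omega
  · have h1 : 0 ≤ (l - 1) * (c - 1) * q ^ 2 :=
      mul_nonneg (mul_nonneg (by omega) (by omega)) (by positivity)
    have h2 : 0 ≤ q * l * (2 * m + q) :=
      mul_nonneg (mul_nonneg (by omega) (by omega)) (by omega)
    have h3 : 0 ≤ (l - 2) * q ^ 2 := mul_nonneg (by omega) (by positivity)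
    have h4 : q ≤ q * c := le_mul_of_one_le_right (by omega) hc1
    have h5 : 0 ≤ q * l * c := mul_nonneg (mul_nonneg (by omega) (by omega)) (by omega)
    have h6 : 0 ≤ l * c := mul_nonneg (by omega) (by omega)
    nlinarith only [hmain, h1, h2, h3, h4, h5, h6, hm'.1, hc1, hq]

/-- The final contradiction. -/
theorem cube_arith (n : ℕ) (hn : 2 ≤ n) {κ m c : ℤ} {D : ℕ}
    (hκodd : Odd κ) (hmodd : Odd m) (hκ : κ ^ 2 + 2 ≤ (2 : ℤ) ^ n) (hm : m ^ 2 ≤ (2 : ℤ) ^ n)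
    (hc : 0 ≤ c)
    (hD : (D : ℤ) = κ + c * ((2 : ℤ) ^ n) ^ 3 + ((2 : ℤ) ^ n - 1) * (2 : ℤ) ^ n * m)
    (hD0 : 0 < D) (hed : ((2 : ℤ) ^ n - 1) ∣ (D : ℤ))
    (hdvd : D ∣ ((2 ^ n) ^ 3 + 1) * ((2 ^ n) ^ 3 * (2 ^ n - 1)))
    (hsq : (D : ℤ) ^ 2 ≤ (((2 : ℤ) ^ n) ^ 3 + 1) * ((2 : ℤ) ^ n) ^ 3 * ((2 : ℤ) ^ n - 1)) :
    False := by
  obtain ⟨q, hqdef⟩ : ∃ q : ℤ, q = (2 : ℤ) ^ n := ⟨_, rfl⟩
  rw [← hqdef] at hκ hm hD hed hsq
  have hq : 4 ≤ q := by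
    rw [hqdef]
    calc (4 : ℤ) = 2 ^ 2 := by norm_num
      _ ≤ 2 ^ n := pow_le_pow_right₀ (by norm_num) hn
  have hqeven : Even q := by rw [hqdef]; exact (Int.even_pow' (by omega)).2 even_two
  have hcb := c_bound (c := c) hq (show κ ^ 2 ≤ q by omega) hm (by rwa [← hD])
  -- `e ∣ κ + c`
  have he : q - 1 ∣ κ + c := by
    have h := dvd_sub hed (Dvd.intro (c * (q ^ 2 + q + 1) + q * m) rfl :
      q - 1 ∣ (q - 1) * (c * (q ^ 2 + q + 1) + q * m))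
    rwa [hD, show κ + c * q ^ 3 + (q - 1) * q * m -
      (q - 1) * (c * (q ^ 2 + q + 1) + q * m) = κ + c by ring] at h
  have hcκ : c = -κ := by
    have hsmall := small_sum n hn hqdef hmodd hκ hm hc hcb (by rwa [← hD])
    have h0 := Int.eq_zero_of_abs_lt_dvd he hsmall
    omega
  have hcodd : Odd c := hcκ ▸ hκodd.neg
  have hc1 : 1 ≤ c := by
    obtain ⟨k, hk⟩ := hcodd
    omega
  -- the quotient
  obtain ⟨D', hD'⟩ : ∃ D' : ℤ, D' = c * (q ^ 2 + q + 1) + q * m := ⟨_, rfl⟩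
  have hDD : (D : ℤ) = (q - 1) * D' := by
    rw [hD, hD', show κ = -c by omega]; ring
  have hD'pos : 0 < D' := by
    have h1 : (0 : ℤ) < D := by exact_mod_cast hD0
    rw [hDD] at h1
    exact pos_of_mul_pos_right h1 (by omega)
  have hD'odd : Odd D' := by
    rw [hD']
    refine Odd.add_even (hcodd.mul ?_) (hqeven.mul_right m)
    exact ((hqeven.pow_of_ne_zero two_ne_zero).add hqeven).add_one
  have hdvd' : D' ∣ (q ^ 3 + 1) * q ^ 3 := by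
    have h1 := Int.natCast_dvd_natCast.2 hdvd
    rw [hDD, Nat.cast_mul, Nat.cast_mul, Nat.cast_sub Nat.one_le_two_pow] at h1
    push_cast at h1
    rw [← hqdef, ← mul_assoc, mul_comm ((q ^ 3 + 1) * q ^ 3)] at h1
    exact (mul_dvd_mul_iff_left (show q - 1 ≠ 0 by omega)).1 h1
  have hcop : IsCoprime D' (q ^ 3) := by
    rw [hqdef]
    refine IsCoprime.pow_right (IsCoprime.pow_right ?_)
    obtain ⟨k, hk⟩ := hD'odd
    exact ⟨1, -k, by rw [hk]; ring⟩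
  obtain ⟨k, hk⟩ := hcop.dvd_of_dvd_mul_right hdvd'
  have hk0 : 0 < k := by
    refine pos_of_mul_pos_right ?_ hD'pos.le
    rw [← hk]; positivity
  exact divisor_false hq hmodd hm hc1 hk0 (by rw [hk, hD'])

end Cfsg.Agent.H28.ZT
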