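import Cfsg.Agent.H28.ZassFeit
import Cfsg.Agent.CharInduce.Isometry
import Cfsg.Agent.CharBasic.Virtual
import Cfsg.Agent.CharBasic.Kernel

/-!
Characters of a point stabiliser relative to a normal subgroup, and class functions carried by the
non-identity elements of the kernel.
-/

set_option autoImplicit false

namespace Cfsg.Agent.H28.ZT

open Finset MulAction Zass
open scoped ComplexConjugate

universe u

section Normal

variable {N : Type u} [Group N]

/-- The character is constant on `M`. -/
def Triv (M : Subgroup N) (θ : N → ℂ) : Prop := ∀ m ∈ M, θ m = θ 1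

variable [Fintype N]

/-- Multiplicity of an irreducible character in a class function. -/
noncomputable def mult (r : N → ℂ) (θ : Cfsg.IrrCharacter N) : ℂ :=
  Cfsg.classInner r (θ : N → ℂ)

/-- Sum of the values on a subgroup. -/
noncomputable def subSum (M : Subgroup N) (r : N → ℂ) : ℂ :=
  letI := Fintype.ofFinite M
  ∑ m : M, r m

theorem subSum_eq (M : Subgroup N) [Fintype M] (r : N → ℂ) :
    subSum M r = ∑ m : M, r m := by
  unfold subSum
  refine Finset.sum_congr ?_ fun _ _ => rfl
  ext
  simp

theorem subSum_eq_zero (M : Subgroup N) [M.Normal] {θ : N → ℂ} (hθ : Cfsg.IsIrrCharacter N θ)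
    (h : ¬ Triv M θ) : subSum M θ = 0 := by
  classical
  have := Fintype.ofFinite M
  rw [subSum_eq]
  have h1 := CharBasic.isIrrCharacter_one (G := M)
  by_cases h0 : Cfsg.classInner (fun n : M => θ n) (fun _ => 1) = 0
  · rw [CharBasic.classInner_def] at h0
    simpa [Nat.card_pos.ne'] using h0
  · exfalso
    have hc := CharInduce.clifford_avg M hθ h1 h0
    apply h
    intro m hm
    have e1 := congrFun hc ⟨m, hm⟩
    have e2 := congrFun hc 1
    have hconst : ∀ (x : N) (k : M),
        CharInduce.conjFun M (fun _ => (1 : ℂ)) x k = 1 := fun x k => rfl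
    simp only [Pi.smul_apply, Finset.sum_apply, hconst, smul_eq_mul, OneMemClass.coe_one] at e1 e2
    exact mul_left_cancel₀ (Nat.cast_ne_zero.2 Nat.card_pos.ne') (e1.trans e2.symm)

theorem subSum_triv (M : Subgroup N) {θ : N → ℂ} (h : Triv M θ) :
    subSum M θ = (Nat.card M : ℂ) * θ 1 := by
  have := Fintype.ofFinite M
  rw [subSum_eq, Finset.sum_congr rfl (g := fun _ => θ 1) (fun (m : M) _ => h m m.2), Finset.sum_const,
    Finset.card_univ, nsmul_eq_mul, Nat.card_eq_fintype_card]

open Classical in
theorem subSum_expansion (M : Subgroup N) [M.Normal] {r : N → ℂ}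
    (hr : Cfsg.IsClassFunction N r) :
    subSum M r = (Nat.card M : ℂ) *
      ∑ θ ∈ univ.filter (fun θ : Cfsg.IrrCharacter N => Triv M (θ : N → ℂ)),
        mult r θ * (θ : N → ℂ) 1 := by
  have := Fintype.ofFinite M
  conv_lhs => rw [subSum_eq, CharBasic.classFunction_expansion hr]
  simp only [Finset.sum_apply, Pi.smul_apply, smul_eq_mul]
  rw [Finset.sum_comm, Finset.mul_sum, Finset.sum_filter]
  refine Finset.sum_congr rfl fun θ _ => ?_
  rw [← Finset.mul_sum, ← subSum_eq, mult]
  split_ifs with h
  · rw [subSum_triv M h]; ring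
  · rw [subSum_eq_zero M θ.2 h, mul_zero]

theorem apply_one_expansion {r : N → ℂ} (hr : Cfsg.IsClassFunction N r) :
    r 1 = ∑ θ : Cfsg.IrrCharacter N, mult r θ * (θ : N → ℂ) 1 := by
  conv_lhs => rw [CharBasic.classFunction_expansion hr]
  simp [Finset.sum_apply, mult]

open Classical in
/-- The squares of the degrees of the characters constant on `M` add up to the index of `M`. -/
theorem sum_sq_triv (M : Subgroup N) [M.Normal] :
    (Nat.card M : ℂ) * ∑ θ ∈ univ.filter (fun θ : Cfsg.IrrCharacter N => Triv M (θ : N → ℂ)),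
      (θ : N → ℂ) 1 ^ 2 = (Nat.card N : ℂ) := by
  have := Fintype.ofFinite M
  have h : ∑ θ : Cfsg.IrrCharacter N, (θ : N → ℂ) 1 * subSum M (θ : N → ℂ) = Nat.card N := by
    simp only [subSum_eq, Finset.mul_sum]
    rw [Finset.sum_comm, Finset.sum_congr rfl
        (fun (m : M) _ => CharBasic.sum_degree_mul_apply (m : N)),
      Finset.sum_eq_single (1 : M)]
    · simp
    · intro m _ hm
      exact if_neg fun h => hm (Subtype.ext (by simpa using h))
    · simp
  rw [← h, Finset.mul_sum, Finset.sum_filter]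
  refine Finset.sum_congr rfl fun θ _ => ?_
  split_ifs with hθ
  · rw [subSum_triv M hθ]; ring
  · rw [subSum_eq_zero M θ.2 hθ, mul_zero]

/-- An irreducible character constant on `M` is linear if the commutators lie in `M`. -/
theorem degree_one_of_triv (M : Subgroup N) [M.Normal]
    (hcomm : ∀ x y : N, x * y * x⁻¹ * y⁻¹ ∈ M) {θ : N → ℂ} (hθ : Cfsg.IsIrrCharacter N θ)
    (h : Triv M θ) : θ 1 = 1 := by
  classical
  obtain ⟨ψ, -, hψ, hirr⟩ := CharInduce.IsChar.exists_deflate (CharBasic.IsIrr.isCharacter hθ) M h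
  have := Fintype.ofFinite (N ⧸ M)
  have hab : ∀ p q : N ⧸ M, p * q = q * p := by
    intro p q
    induction p using QuotientGroup.induction_on with
    | H x =>
      induction q using QuotientGroup.induction_on with
      | H y =>
        rw [← QuotientGroup.mk_mul, ← QuotientGroup.mk_mul, QuotientGroup.eq]
        convert hcomm y⁻¹ x⁻¹ using 1
        group
  have h1 := CharBasic.commutative_iff_forall_linear.1 hab ⟨ψ, hirr hθ⟩
  rw [hψ 1]
  simpa using h1

end Normal

variable {G : Type u} {Ω : Type*} [Group G] [MulAction G Ω] [Finite Ω] {a b : Ω} {H : Subgroup G}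
variable [Fintype G]

/-- A class function of `G_a` carried by `H#` is recovered from the induced one. -/
theorem ind_res_of_supp (hH : IsKer a H) (hZ : Cfsg.IsZassenhausGroup G Ω)
    {φ : stabilizer G a → ℂ} (hφ : Cfsg.IsClassFunction (stabilizer G a) φ)
    (hsupp : ∀ g : stabilizer G a, (g : G) ∉ H → φ g = 0) (h1 : φ 1 = 0) (g : stabilizer G a) :
    Cfsg.indFun (stabilizer G a) φ g = φ g := by
  classical
  rcases eq_or_ne g 1 with rfl | hg1
  · rw [OneMemClass.coe_one, CharInduce.indFun_one, h1, mul_zero]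
  have hg1' : (g : G) ≠ 1 := fun h => hg1 (Subtype.ext h)
  rw [CharInduce.indFun_apply]
  have h : ∀ x : G, Cfsg.extendByZero (stabilizer G a) φ (x⁻¹ * g * x) =
      if x ∈ stabilizer G a then φ g else 0 := by
    intro x
    split_ifs with hx
    · rw [CharInduce.extendByZero_of_mem _ (mul_mem (mul_mem (inv_mem hx) g.2) hx)]
      have := hφ g (⟨x, hx⟩⁻¹ : stabilizer G a)
      rwa [inv_inv] at this
    · by_cases hm : x⁻¹ * (g : G) * x ∈ stabilizer G a
      · rw [CharInduce.extendByZero_of_mem _ hm]
        refine hsupp _ fun hmH => hx ?_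
        have hne : x⁻¹ * (g : G) * x ≠ 1 := fun h => hg1' (by
          calc (g : G) = x * (x⁻¹ * g * x) * x⁻¹ := by group
            _ = 1 := by rw [h]; group)
        have hga : (g : G) • a = a := g.2
        have hfix := hH.fix _ hmH hne (x⁻¹ • a)
          (by rw [mul_smul, mul_smul, smul_inv_smul, hga])
        exact (inv_smul_eq_iff.1 hfix).symm
      · rw [CharInduce.extendByZero_of_not_mem _ hm]
  rw [Finset.sum_congr rfl (fun x _ => h x), ← Finset.sum_filter, Finset.sum_const,
    nsmul_eq_mul, ← mul_assoc, Nat.card_eq_fintype_card, Fintype.card_subtype,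
    inv_mul_cancel₀ (Nat.cast_ne_zero.2 (Finset.card_ne_zero_of_mem (Finset.mem_filter.2
      ⟨Finset.mem_univ 1, one_mem (stabilizer G a)⟩))), one_mul]

/-- Parseval for class functions of `G_a` carried by `H#`. -/
theorem parseval [Fintype (stabilizer G a)] (hH : IsKer a H)
    (hZ : Cfsg.IsZassenhausGroup G Ω) (φ ψ : stabilizer G a → ℂ)
    (hψ : Cfsg.IsClassFunction (stabilizer G a) ψ)
    (hψs : ∀ g : stabilizer G a, (g : G) ∉ H → ψ g = 0) (hψ1 : ψ 1 = 0) :
    ∑ χ : Cfsg.IrrCharacter G,
      conj (Cfsg.classInner (fun g : stabilizer G a => (χ : G → ℂ) g) φ) *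
        Cfsg.classInner (fun g : stabilizer G a => (χ : G → ℂ) g) ψ =
      Cfsg.classInner φ ψ := by
  have h := CharBasic.classInner_eq_sum (G := G)
    (φ := Cfsg.indFun (stabilizer G a) φ) (ψ := Cfsg.indFun (stabilizer G a) ψ)
    (CharInduce.isClassFunction_indFun _ _)
  rw [CharInduce.classInner_indFun_left _ φ _ (CharInduce.isClassFunction_indFun _ ψ)] at h
  have e : (fun g : stabilizer G a => Cfsg.indFun (stabilizer G a) ψ g) = ψ :=
    funext (ind_res_of_supp hH hZ hψ hψs hψ1)
  rw [e] at h
  rw [h]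
  refine Finset.sum_congr rfl fun χ _ => ?_
  have hχ := CharBasic.IsIrr.isClassFunction χ.2
  rw [CharBasic.classInner_conj_symm, CharInduce.classInner_indFun_left _ φ _ hχ,
    CharInduce.classInner_indFun_left _ ψ _ hχ, CharBasic.classInner_conj_symm]

end Cfsg.Agent.H28.ZT
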