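import Cfsg.Agent.H28.ZassChar
import Cfsg.Agent.H28.FrobDegree
import Cfsg.Agent.H43.Linear
import Cfsg.Agent.S0157

/-!
The family of characters of a Zassenhaus group that do not vanish on the two-point stabiliser.
-/

set_option autoImplicit false

namespace Cfsg.Agent.H28.Zass

open MulAction Finset
open scoped ComplexConjugate

universe u

variable {G : Type u} {Ω : Type*} [Group G] [MulAction G Ω] [Finite Ω] {a b : Ω} {H : Subgroup G}

/-- The linear character of `G_a` that extends a given one of `E` and is trivial on `H`. -/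
theorem exists_torus_lift (hH : IsKer a H) (hZ : Cfsg.IsZassenhausGroup G Ω) (hab : a ≠ b)
    (m : ↥(stabilizer G a ⊓ stabilizer G b) →* ℂˣ) :
    ∃ l : stabilizer G a →* ℂˣ, IsTorusChar H l ∧
      ∀ x : ↥(stabilizer G a ⊓ stabilizer G b), l ⟨x, (mem_two.1 x.2).1⟩ = m x := by
  have hdec : ∀ g : stabilizer G a, ∃ q : H × ↥(stabilizer G a ⊓ stabilizer G b), (g : G) = q.1 * q.2 := fun g => by
    obtain ⟨u, hu, x, hx, he⟩ := hH.decomp hZ hab g.2
    exact ⟨(⟨u, hu⟩, ⟨x, hx⟩), he⟩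
  choose q hq using hdec
  have huniq : ∀ (g : stabilizer G a) (u : H) (x : ↥(stabilizer G a ⊓ stabilizer G b)), (g : G) = u * x → (q g).2 = x :=
    fun g u x h => Subtype.ext (hH.decomp_unique hab (q g).1.2 u.2 (q g).2.2 x.2
      ((hq g).symm.trans h)).2
  let l : stabilizer G a →* ℂˣ :=
    { toFun := fun g => m (q g).2
      map_one' := by rw [huniq 1 1 1 (by simp), map_one]
      map_mul' := fun g k => by
        have hc := hH.conj_mem hZ (mem_two.1 (q g).2.2).1 (q k).1.2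
        rw [huniq (g * k) ⟨_, mul_mem (q g).1.2 hc⟩ ((q g).2 * (q k).2) ?_, map_mul]
        simp only [Subgroup.coe_mul]
        rw [hq g, hq k]
        group }
  refine ⟨l, ⟨fun u hu => ?_⟩, fun x => ?_⟩
  · show m (q u).2 = 1
    rw [huniq u ⟨u, hu⟩ 1 (by simp), map_one]
  · show m (q ⟨x, (mem_two.1 x.2).1⟩).2 = m x
    rw [huniq _ 1 x (by simp)]

theorem stabilizer_cases (hH : IsKer a H) (hZ : Cfsg.IsZassenhausGroup G Ω) (hab : a ≠ b)
    {g : G} (hg : g • a = a) :
    g ∈ H ∨ ∃ k : G, k • a = a ∧ k * g * k⁻¹ ∈ stabilizer G a ⊓ stabilizer G b := by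
  by_cases h : ∃ c : Ω, c ≠ a ∧ g • c = c
  · obtain ⟨c, hca, hc⟩ := h
    obtain ⟨k, hka, hkc⟩ := H33.zas_map_pair hZ hca.symm hab
    refine Or.inr ⟨k, hka, mem_two.2 ⟨?_, ?_⟩⟩
    · rw [mul_smul, mul_smul, inv_smul_eq_iff.2 hka.symm, hg, hka]
    · rw [mul_smul, mul_smul, inv_smul_eq_iff.2 hkc.symm, hc, hkc]
  · push Not at h
    exact Or.inl ((hH.mem_iff hZ).2 ⟨hg, Or.inr fun c hc => by_contra fun hca => h c hca hc⟩)

variable [Fintype G]

theorem torus_ind_inv (hH : IsKer a H) (hZ : Cfsg.IsZassenhausGroup G Ω) (hab : a ≠ b)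
    (hinv : Inverted G a b) {l : stabilizer G a →* ℂˣ} (hl : IsTorusChar H l) :
    Cfsg.indFun (stabilizer G a) (fun g => ((l⁻¹ : stabilizer G a →* ℂˣ) g : ℂ)) =
      Cfsg.indFun (stabilizer G a) (fun g => (l g : ℂ)) := by
  have hl' : IsTorusChar H l⁻¹ :=
    ⟨fun u hu => by rw [MonoidHom.inv_apply, hl.ker u hu, inv_one]⟩
  funext g
  by_cases hfree : ∀ c : Ω, g • c ≠ c
  · rw [torus_ind_free hfree, torus_ind_free hfree]
  push Not at hfree
  obtain ⟨c, hc⟩ := hfree
  have htr : IsPretransitive G Ω := isPretransitive_of_is_two_pretransitive (h2 := hZ.2.1)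
  obtain ⟨k, hk⟩ := htr.exists_smul_eq c a
  have hg' : (k * g * k⁻¹) • a = a := by
    rw [← hk, mul_smul, mul_smul, inv_smul_smul, hc]
  have hcl : ∀ (m : stabilizer G a →* ℂˣ) (r : G),
      Cfsg.indFun (stabilizer G a) (fun g => (m g : ℂ)) g =
        Cfsg.indFun (stabilizer G a) (fun g => (m g : ℂ)) (r * g * r⁻¹) := fun m r =>
    (CharInduce.isClassFunction_indFun _ _ g r).symm
  rw [hcl _ k, hcl l k]
  rcases stabilizer_cases hH hZ hab hg' with hu | ⟨r, -, hx⟩
  · rcases eq_or_ne (k * g * k⁻¹) 1 with h1 | h1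
    · rw [h1, torus_ind_one hH hZ, torus_ind_one hH hZ]
    · rw [torus_ind_ker hH hZ hl' hu h1, torus_ind_ker hH hZ hl hu h1]
  · rw [← CharInduce.isClassFunction_indFun _ _ (k * g * k⁻¹) r]
    conv_rhs => rw [← CharInduce.isClassFunction_indFun _ _ (k * g * k⁻¹) r]
    rcases eq_or_ne (r * (k * g * k⁻¹) * r⁻¹) 1 with h1 | h1
    · rw [h1, torus_ind_one hH hZ, torus_ind_one hH hZ]
    · rw [torus_ind_two hZ hab hinv hx h1, torus_ind_two hZ hab hinv hx h1]
      simp [add_comm]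

theorem centralizer_two_card (hZ : Cfsg.IsZassenhausGroup G Ω) (hab : a ≠ b)
    (hcyc : IsCyclic ↥(stabilizer G a ⊓ stabilizer G b))
    (hodd : Odd (Nat.card ↥(stabilizer G a ⊓ stabilizer G b))) (hinv : Inverted G a b) {x : G}
    (hx : x ∈ stabilizer G a ⊓ stabilizer G b) (hx1 : x ≠ 1) :
    Subgroup.centralizer ({x} : Set G) = stabilizer G a ⊓ stabilizer G b := by
  ext g
  rw [Subgroup.mem_centralizer_singleton_iff]
  constructor
  · intro hg
    have hconj : g * x * g⁻¹ = x := by rw [hg, mul_inv_cancel_right]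
    rcases two_cases hZ hab hx hx1 (by rw [hconj]; exact hx) with ⟨h1, h2⟩ | ⟨h1, h2⟩
    · exact mem_two.2 ⟨h1, h2⟩
    · exfalso
      have h3 := hinv g h1 h2 x hx
      rw [hconj] at h3
      exact hx1 (eq_one_of_sq_of_odd hodd hx (by rw [pow_two]; exact eq_inv_iff_mul_eq_one.1 h3))
  · intro hg
    exact congrArg Subtype.val (hcyc.isMulCommutative.is_comm.comm ⟨g, hg⟩ ⟨x, hx⟩)

/-- The family: few irreducible characters, and every other one vanishes on `E#`. -/
theorem exists_family_const (hH : IsKer a H) (hZ : Cfsg.IsZassenhausGroup G Ω) (hab : a ≠ b)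
    (hcyc : IsCyclic ↥(stabilizer G a ⊓ stabilizer G b))
    (hodd : Odd (Nat.card ↥(stabilizer G a ⊓ stabilizer G b))) (hinv : Inverted G a b)
    (hH1 : 1 < Nat.card H) :
    ∃ F : Finset (Cfsg.IrrCharacter G),
      2 * F.card ≤ Nat.card ↥(stabilizer G a ⊓ stabilizer G b) + 3 ∧
      (⟨_, CharBasic.isIrrCharacter_one⟩ : Cfsg.IrrCharacter G) ∈ F ∧
      (∃ St ∈ F, ∀ g : G, (St : G → ℂ) g = (Nat.card (fixedBy Ω g) : ℂ) - 1) ∧
      (∀ χ : Cfsg.IrrCharacter G, χ ∉ F → ∀ x ∈ stabilizer G a ⊓ stabilizer G b, x ≠ 1 →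
        (χ : G → ℂ) x = 0) ∧
      ∀ χ ∈ F, ∃ v : ℂ, ∀ u ∈ H, u ≠ 1 → (χ : G → ℂ) u = v := by
  classical
  set E := stabilizer G a ⊓ stabilizer G b with hE
  have htr : IsPretransitive G Ω := isPretransitive_of_is_two_pretransitive (h2 := hZ.2.1)
  have hΩ := hH.card
  let St : Cfsg.IrrCharacter G := ⟨_, (S0157.result (G := G) Ω (by omega)).2 hZ.2.1⟩
  let one : Cfsg.IrrCharacter G := ⟨_, CharBasic.isIrrCharacter_one⟩
  choose L hLker hLres using fun m : E →* ℂˣ => exists_torus_lift hH hZ hab m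
  have hL1 : ∀ m, m ≠ 1 → L m ≠ 1 := fun m hm h => hm (MonoidHom.ext fun x => by
    rw [← hLres m x, h]; rfl)
  have hX : ∀ m, m ≠ 1 →
      Cfsg.IsIrrCharacter G (Cfsg.indFun (stabilizer G a) (fun g => (L m g : ℂ))) := fun m hm =>
    torus_ind_isIrr hH hZ hab hodd hinv (hLker m) (hL1 m hm)
  have := Fintype.ofFinite (E →* ℂˣ)
  have := Fintype.ofFinite E
  let M : Finset (E →* ℂˣ) := Finset.univ.erase 1
  let X : {m // m ∈ M} → Cfsg.IrrCharacter G := fun m =>
    ⟨_, hX m (Finset.ne_of_mem_erase m.2)⟩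
  set T := (Finset.univ : Finset {m // m ∈ M}).image X with hT
  have hval : ∀ (m : E →* ℂˣ) (x : G) (hx : x ∈ E), x ≠ 1 →
      Cfsg.indFun (stabilizer G a) (fun g => (L m g : ℂ)) x =
        (m ⟨x, hx⟩ : ℂ) + (m⁻¹ : E →* ℂˣ) ⟨x, hx⟩ := fun m x hx hx1 => by
    rw [torus_ind_two hZ hab hinv hx hx1, map_inv, MonoidHom.inv_apply, ← hLres m ⟨x, hx⟩]
  -- a nontrivial linear character is not equal to its inverse
  have hne_inv : ∀ m : E →* ℂˣ, m ≠ 1 → m⁻¹ ≠ m := by
    intro m hm h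
    refine hm (MonoidHom.ext fun y => ?_)
    obtain ⟨r, hr⟩ := hodd
    have h2 : m y * m y = 1 := by
      nth_rewrite 1 [← h]
      rw [MonoidHom.inv_apply, inv_mul_cancel]
    have hy : m y ^ (2 * r + 1) = 1 := by rw [← hr, ← map_pow, pow_card_eq_one', map_one]
    rwa [pow_succ, pow_mul, pow_two, h2, one_pow, one_mul] at hy
  have hcardM : M.card + 1 = Nat.card E := by
    have hc : Nat.card (E →* ℂˣ) = Nat.card E := by
      letI : CommGroup E := IsCyclic.commGroup
      haveI : NeZero (Monoid.exponent E : ℂ) :=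
        ⟨Nat.cast_ne_zero.mpr Monoid.exponent_ne_zero_of_finite⟩
      obtain ⟨f⟩ := CommGroup.monoidHom_mulEquiv_of_hasEnoughRootsOfUnity E ℂ
      exact Nat.card_congr f.toEquiv
    rw [Finset.card_erase_of_mem (Finset.mem_univ _), Finset.card_univ,
      ← Nat.card_eq_fintype_card, hc]
    have : 0 < Nat.card E := Nat.card_pos
    omega
  have hinvM : ∀ m, m ∈ M → m⁻¹ ∈ M := fun m hm =>
    Finset.mem_erase.2 ⟨fun h => Finset.ne_of_mem_erase hm (MonoidHom.ext fun z => by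
      have := DFunLike.congr_fun h z
      simpa using this),
      Finset.mem_univ _⟩
  have hTcard : 2 * T.card + 1 ≤ Nat.card E := by
    have h2 : ∀ χ ∈ T, 2 ≤ ((Finset.univ : Finset {m // m ∈ M}).filter fun m => X m = χ).card := by
      intro χ hχ
      obtain ⟨m, -, rfl⟩ := Finset.mem_image.1 hχ
      refine Finset.one_lt_card.2 ⟨m, Finset.mem_filter.2 ⟨Finset.mem_univ _, rfl⟩,
        ⟨_, hinvM m.1 m.2⟩, Finset.mem_filter.2 ⟨Finset.mem_univ _, Subtype.ext ?_⟩,
        fun h => hne_inv m.1 (Finset.ne_of_mem_erase m.2) (congrArg Subtype.val h).symm⟩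
      show Cfsg.indFun (stabilizer G a) (fun g => (L (m.1⁻¹) g : ℂ)) = _
      have : L (m.1⁻¹) = (L m.1)⁻¹ := by
        refine MonoidHom.ext fun g => ?_
        obtain ⟨u, hu, x, hx, he⟩ := hH.decomp hZ hab g.2
        have hg : g = ⟨u, hH.le hu⟩ * ⟨x, (mem_two.1 hx).1⟩ := Subtype.ext he
        rw [hg, map_mul, map_mul, (hLker _).ker ⟨u, hH.le hu⟩ hu, one_mul, MonoidHom.inv_apply,
          MonoidHom.inv_apply, (hLker _).ker ⟨u, hH.le hu⟩ hu, hLres _ ⟨x, hx⟩,
          hLres _ ⟨x, hx⟩, MonoidHom.inv_apply]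
        simp
      rw [this, torus_ind_inv hH hZ hab hinv (hLker _)]
    have h3 := Finset.card_eq_sum_card_image X (Finset.univ : Finset {m // m ∈ M})
    rw [← hT, Finset.card_univ, Fintype.card_coe] at h3
    have h4 := Finset.card_nsmul_le_sum T _ 2 h2
    rw [smul_eq_mul] at h4
    omega
  have hFcard : (insert one (insert St T)).card ≤ T.card + 2 :=
    (Finset.card_insert_le _ _).trans (Nat.add_le_add_right (Finset.card_insert_le _ _) 1)
  refine ⟨insert one (insert St T), by omega, Finset.mem_insert_self _ _,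
    ⟨St, Finset.mem_insert_of_mem (Finset.mem_insert_self _ _), fun _ => rfl⟩,
    fun χ hχ x hx hx1 => ?_, fun χ hχ => ?_⟩
  rotate_left
  · rcases Finset.mem_insert.1 hχ with rfl | hχ
    · exact ⟨1, fun u _ _ => rfl⟩
    rcases Finset.mem_insert.1 hχ with rfl | hχ
    · refine ⟨0, fun u hu hu1 => ?_⟩
      show (Nat.card (fixedBy Ω u) : ℂ) - 1 = 0
      have hfix : fixedBy Ω u = {a} := Set.eq_singleton_iff_unique_mem.2
        ⟨hH.le hu, fun c hc => hH.fix u hu hu1 c hc⟩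
      rw [hfix, Nat.card_coe_set_eq, Set.ncard_singleton]
      simp
    · obtain ⟨m, -, rfl⟩ := Finset.mem_image.1 hχ
      exact ⟨1, fun u hu hu1 => torus_ind_ker hH hZ (hLker m.1) hu hu1⟩
  set x' : E := ⟨x, hx⟩
  -- the values of `one`, `St` and `T` at `x`
  have hSt : (St : G → ℂ) x = 1 := by
    show (Nat.card (fixedBy Ω x) : ℂ) - 1 = 1
    rw [H33.zas_fixed_of_pair hZ hx1 hab (mem_two.1 hx).1 (mem_two.1 hx).2, Nat.card_coe_set_eq,
      Set.ncard_pair hab]
    norm_num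
  have hx2 : x' * x' ≠ 1 := fun h => hx1 (eq_one_of_sq_of_odd hodd hx (by
    rw [pow_two]; exact congrArg Subtype.val h))
  have horth : ∀ y : E, y ≠ 1 → ∑ m : E →* ℂˣ, (m y : ℂ) = 0 := by
    intro y hy
    obtain ⟨φ, -, hφ⟩ := H43.exists_linear_ne_one (⊥ : Subgroup E) (by simpa using hy)
    have h1 : (φ y : ℂ) * ∑ m : E →* ℂˣ, (m y : ℂ) = ∑ m : E →* ℂˣ, (m y : ℂ) := by
      rw [Finset.mul_sum]
      refine Fintype.sum_bijective (fun m => φ * m) (Group.mulLeft_bijective φ) _ _ fun m => ?_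
      rw [MonoidHom.mul_apply, Units.val_mul]
    rw [mul_left_eq_self₀] at h1
    exact h1.resolve_left fun h => hφ (Units.ext (by simpa using h))
  have hsum : ∑ m ∈ M, ((m x' : ℂ) + (m⁻¹ : E →* ℂˣ) x') * ((m x' : ℂ) + (m⁻¹ : E →* ℂˣ) x')
      = 2 * (Nat.card E : ℂ) - 4 := by
    have e1 : ∀ m : E →* ℂˣ, ((m x' : ℂ) + (m⁻¹ : E →* ℂˣ) x') *
        ((m x' : ℂ) + (m⁻¹ : E →* ℂˣ) x') = 2 + (m (x' * x') : ℂ) + (m (x' * x')⁻¹ : ℂ) := by
      intro m
      have h0 : (m x' : ℂ) * (m⁻¹ : E →* ℂˣ) x' = 1 := by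
        rw [MonoidHom.inv_apply, ← Units.val_mul, mul_inv_cancel, Units.val_one]
      rw [map_mul, map_inv, map_mul, mul_inv, Units.val_mul, Units.val_mul,
        ← MonoidHom.inv_apply]
      linear_combination 2 * h0
    rw [Finset.sum_congr rfl (fun m _ => e1 m), Finset.sum_add_distrib, Finset.sum_add_distrib,
      Finset.sum_erase_eq_sub (Finset.mem_univ _), Finset.sum_erase_eq_sub (Finset.mem_univ _),
      Finset.sum_erase_eq_sub (Finset.mem_univ _), horth _ hx2, horth _ (fun h => hx2 (inv_eq_one.1 h)), Finset.sum_const, nsmul_eq_mul]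
    have : ((Finset.univ : Finset (E →* ℂˣ)).card : ℂ) = (Nat.card E : ℂ) := by
      rw [← hcardM, Finset.card_erase_add_one (Finset.mem_univ _)]
    rw [this]
    simp only [MonoidHom.one_apply, Units.val_one]
    ring
  -- everything is real and nonnegative
  let w : Cfsg.IrrCharacter G → ℝ := fun φ => ‖(φ : G → ℂ) x‖ ^ 2
  have hw : ∀ φ : Cfsg.IrrCharacter G,
      (φ : G → ℂ) x * conj ((φ : G → ℂ) x) = (w φ : ℂ) := fun φ => by
    rw [Complex.mul_conj', Complex.ofReal_pow]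
  have hcol : ∑ φ : Cfsg.IrrCharacter G, w φ = (Nat.card E : ℝ) := by
    have h := CharBasic.second_orthogonality_self x
    rw [centralizer_two_card hZ hab hcyc hodd hinv hx hx1, Finset.sum_congr rfl (fun φ _ => hw φ),
      ← Complex.ofReal_sum, ← Complex.ofReal_natCast, Complex.ofReal_inj] at h
    exact h
  have hreal : ∀ m : E →* ℂˣ, conj ((m x' : ℂ) + (m⁻¹ : E →* ℂˣ) x') =
      (m x' : ℂ) + (m⁻¹ : E →* ℂˣ) x' := fun m => by
    rw [map_add, H43.linear_conj, H43.linear_conj, MonoidHom.inv_apply, MonoidHom.inv_apply,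
      map_inv, inv_inv, add_comm]
  have hXsum : ∑ m : {m // m ∈ M}, w (X m) = 2 * (Nat.card E : ℝ) - 4 := by
    have h : (((∑ m : {m // m ∈ M}, w (X m)) : ℝ) : ℂ) = ((2 * (Nat.card E : ℝ) - 4 : ℝ) : ℂ) := by
      rw [Complex.ofReal_sum]
      push_cast
      rw [← hsum, ← Finset.sum_coe_sort M]
      refine Finset.sum_congr rfl fun m _ => ?_
      rw [← hw]
      show Cfsg.indFun (stabilizer G a) (fun g => (L m.1 g : ℂ)) x *
        conj (Cfsg.indFun (stabilizer G a) (fun g => (L m.1 g : ℂ)) x) = _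
      rw [hval m.1 x hx hx1, hreal]
    exact Complex.ofReal_inj.1 h
  -- fibres have at most two elements
  obtain ⟨y, hy⟩ := hcyc.exists_generator
  have hy1 : (y : G) ≠ 1 := fun h => by
    obtain ⟨k, hk⟩ := Subgroup.mem_zpowers_iff.1 (hy x')
    rw [show y = 1 from Subtype.ext h, one_zpow] at hk
    exact hx1 (congrArg Subtype.val hk.symm)
  have hfib : ∀ φ ∈ T, ((Finset.univ : Finset {m // m ∈ M}).filter fun m => X m = φ).card ≤ 2 := by
    intro φ hφ
    obtain ⟨m, -, rfl⟩ := Finset.mem_image.1 hφ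
    refine (Finset.card_le_card (t := {m, ⟨m.1⁻¹, hinvM _ m.2⟩}) fun n hn => ?_).trans
      Finset.card_le_two
    have h : Cfsg.indFun (stabilizer G a) (fun g => (L n.1 g : ℂ)) =
        Cfsg.indFun (stabilizer G a) (fun g => (L m.1 g : ℂ)) :=
      congrArg Subtype.val (Finset.mem_filter.1 hn).2
    have hy' := congrFun h (y : G)
    rw [hval _ _ y.2 hy1, hval _ _ y.2 hy1] at hy'
    simp only [Subtype.coe_eta, MonoidHom.inv_apply, Units.val_inv_eq_inv_val] at hy'
    have hdet : ∀ k : E →* ℂˣ, n.1 y = k y → n.1 = k := fun k hk => MonoidHom.ext fun z => by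
      obtain ⟨i, rfl⟩ := Subgroup.mem_zpowers_iff.1 (hy z)
      rw [map_zpow, map_zpow, hk]
    set s : ℂ := (n.1 y : ℂ)
    set t : ℂ := (m.1 y : ℂ)
    have hst : (s - t) * (s * t - 1) = 0 := by
      have h1 : s * s⁻¹ = 1 := mul_inv_cancel₀ (Units.ne_zero _)
      have h2 : t * t⁻¹ = 1 := mul_inv_cancel₀ (Units.ne_zero _)
      linear_combination (s * t) * hy' - t * h1 + s * h2
    rcases mul_eq_zero.1 hst with h1 | h1
    · exact Finset.mem_insert.2 (Or.inl (Subtype.ext (hdet _ (Units.ext (sub_eq_zero.1 h1)))))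
    · refine Finset.mem_insert.2 (Or.inr (Finset.mem_singleton.2 (Subtype.ext (hdet _ ?_))))
      rw [MonoidHom.inv_apply]
      refine eq_inv_of_mul_eq_one_left (Units.ext ?_)
      rw [Units.val_mul, Units.val_one]
      exact sub_eq_zero.1 h1
  have hTsum : (Nat.card E : ℝ) - 2 ≤ ∑ φ ∈ T, w φ := by
    have h1 : ∑ m : {m // m ∈ M}, w (X m) ≤ ∑ φ ∈ T, 2 * w φ := by
      rw [← Finset.sum_fiberwise_of_maps_to (t := T) (g := X)
        (fun m _ => Finset.mem_image_of_mem X (Finset.mem_univ m))]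
      refine Finset.sum_le_sum fun φ hφ => ?_
      rw [Finset.sum_congr rfl (g := fun _ => w φ) (fun m hm => by rw [(Finset.mem_filter.1 hm).2]),
        Finset.sum_const, nsmul_eq_mul]
      exact mul_le_mul_of_nonneg_right (by exact_mod_cast hfib φ hφ) (sq_nonneg _)
    rw [hXsum, ← Finset.mul_sum] at h1
    linarith
  -- `one`, `St` are distinct and lie outside `T`
  have hdeg : ∀ φ ∈ T, (φ : G → ℂ) 1 = (Nat.card H : ℂ) + 1 := fun φ hφ => by
    obtain ⟨m, -, rfl⟩ := Finset.mem_image.1 hφ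
    exact torus_ind_one hH hZ
  have hSt1 : (St : G → ℂ) 1 = (Nat.card H : ℂ) := by
    show (Nat.card (fixedBy Ω (1 : G)) : ℂ) - 1 = _
    rw [show fixedBy Ω (1 : G) = Set.univ from Set.eq_univ_of_forall fun c => one_smul G c,
      Nat.card_coe_set_eq, Set.ncard_univ, ← hΩ]
    push_cast; ring
  have h1T : one ∉ T := fun h => by
    have := hdeg one h
    change (1 : ℂ) = _ at this
    have : Nat.card H = 0 := by exact_mod_cast (by linear_combination -this : (Nat.card H : ℂ) = 0)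
    omega
  have hStT : St ∉ T := fun h => by
    have := hdeg St h
    rw [hSt1] at this
    exact one_ne_zero (by linear_combination -this : (1 : ℂ) = 0)
  have h1St : one ≠ St := fun h => by
    have := hSt1
    rw [← h] at this
    change (1 : ℂ) = _ at this
    have : Nat.card H = 1 := by exact_mod_cast this.symm
    omega
  have hF : (Nat.card E : ℝ) ≤ ∑ φ ∈ insert one (insert St T), w φ := by
    rw [Finset.sum_insert (by simp [h1T, h1St]), Finset.sum_insert hStT]
    have e1 : w one = 1 := by simp [w, one]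
    have e2 : w St = 1 := by simp [w, hSt]
    linarith
  have hzero : w χ = 0 := by
    have h1 := Finset.sum_le_sum_of_subset_of_nonneg
      (Finset.subset_univ (insert χ (insert one (insert St T)))) (f := w)
      (fun φ _ _ => sq_nonneg _)
    rw [hcol, Finset.sum_insert hχ] at h1
    have : 0 ≤ w χ := sq_nonneg _
    linarith
  simpa [w] using hzero


theorem exists_family (hH : IsKer a H) (hZ : Cfsg.IsZassenhausGroup G Ω) (hab : a ≠ b)
    (hcyc : IsCyclic ↥(stabilizer G a ⊓ stabilizer G b))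
    (hodd : Odd (Nat.card ↥(stabilizer G a ⊓ stabilizer G b))) (hinv : Inverted G a b)
    (hH1 : 1 < Nat.card H) :
    ∃ F : Finset (Cfsg.IrrCharacter G),
      2 * F.card ≤ Nat.card ↥(stabilizer G a ⊓ stabilizer G b) + 3 ∧
      (⟨_, CharBasic.isIrrCharacter_one⟩ : Cfsg.IrrCharacter G) ∈ F ∧
      (∃ St ∈ F, ∀ g : G, (St : G → ℂ) g = (Nat.card (fixedBy Ω g) : ℂ) - 1) ∧
      ∀ χ : Cfsg.IrrCharacter G, χ ∉ F → ∀ x ∈ stabilizer G a ⊓ stabilizer G b, x ≠ 1 →
        (χ : G → ℂ) x = 0 := by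
  obtain ⟨F, h1, h2, h3, h4, -⟩ := exists_family_const hH hZ hab hcyc hodd hinv hH1
  exact ⟨F, h1, h2, h3, h4⟩

end Cfsg.Agent.H28.Zass
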