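import Cfsg.Agent.H28.ZTExceptional
import Cfsg.Agent.H28.ZTArith
import Cfsg.Agent.H28.ZassTorus

/-!
A simple Zassenhaus group has no kernel of order `q³` whose centre has order `q = e + 1`.
-/

set_option autoImplicit false

namespace Cfsg.Agent.H28.ZT

open Finset MulAction Zass
open scoped ComplexConjugate

universe u

variable {G : Type u} {Ω : Type*} [Group G] [MulAction G Ω] [Finite Ω] {a b : Ω} {H : Subgroup G}
variable [Fintype G] [Fintype (stabilizer G a)]
variable {Z : Subgroup (stabilizer G a)} {e q : ℕ}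

/-- The multiplicity of `1_K` in the restriction. -/
noncomputable def bval (H : Subgroup G) (χ : Cfsg.IrrCharacter G) : ℕ :=
  ∑ θ ∈ setA (H.subgroupOf (stabilizer G a)), nm χ θ * deg θ

theorem inner_res_phi (D : Data (H.subgroupOf (stabilizer G a)) Z (q ^ 3) e q)
    (χ : Cfsg.IrrCharacter G) :
    ((q ^ 3 * e : ℕ) : ℂ) * Cfsg.classInner (fun g : stabilizer G a => (χ : G → ℂ) g)
        (phi (H.subgroupOf (stabilizer G a)) Z) =
      (((q : ℤ) ^ 3 * bval (a := a) H χ - q * (bval (a := a) H χ +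
        e * ∑ θ ∈ setT (H.subgroupOf (stabilizer G a)) Z, (nm χ θ : ℤ)) : ℤ) : ℂ) := by
  obtain ⟨-, h2, h3⟩ := D.expansions (res_class χ) (nm χ) (nm_spec χ)
  rw [D.inner_phi, h2, h3, bval]
  push_cast
  ring

/-- Parseval for the indicator of `K \ Z`. -/
theorem parseval_phi (hH : IsKer a H) (hZ : Cfsg.IsZassenhausGroup G Ω)
    (D : Data (H.subgroupOf (stabilizer G a)) Z (q ^ 3) e q)
    (α : Cfsg.IrrCharacter G → ℤ)
    (hα : ∀ χ : Cfsg.IrrCharacter G, ((q ^ 3 * e : ℕ) : ℂ) *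
      Cfsg.classInner (fun g : stabilizer G a => (χ : G → ℂ) g)
        (phi (H.subgroupOf (stabilizer G a)) Z) = (((q * e : ℤ) * α χ : ℤ) : ℂ)) :
    ∑ χ : Cfsg.IrrCharacter G, ((q * e : ℤ) * α χ) ^ 2 =
      (q ^ 3 * e : ℤ) * ((q : ℤ) ^ 3 - q) := by
  classical
  have h := parseval hH hZ (phi (H.subgroupOf (stabilizer G a)) Z) _ D.phi_class
    (fun g hg => phi_vanish.1 g hg) phi_vanish.2
  have h' := congrArg (fun x => ((q ^ 3 * e : ℕ) : ℂ) * (((q ^ 3 * e : ℕ) : ℂ) * x)) h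
  simp only [Finset.mul_sum, D.phi_self] at h'
  have hterm : ∀ χ : Cfsg.IrrCharacter G, ((q ^ 3 * e : ℕ) : ℂ) * (((q ^ 3 * e : ℕ) : ℂ) *
      (conj (Cfsg.classInner (fun g : stabilizer G a => (χ : G → ℂ) g)
        (phi (H.subgroupOf (stabilizer G a)) Z)) *
        Cfsg.classInner (fun g : stabilizer G a => (χ : G → ℂ) g)
        (phi (H.subgroupOf (stabilizer G a)) Z))) = ((((q * e : ℤ) * α χ) ^ 2 : ℤ) : ℂ) := by
    intro χ
    have hc := congrArg (starRingEnd ℂ) (hα χ)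
    rw [map_mul, map_natCast, map_intCast] at hc
    calc _ = (((q ^ 3 * e : ℕ) : ℂ) * conj (Cfsg.classInner
          (fun g : stabilizer G a => (χ : G → ℂ) g)
          (phi (H.subgroupOf (stabilizer G a)) Z))) *
        (((q ^ 3 * e : ℕ) : ℂ) * Cfsg.classInner (fun g : stabilizer G a => (χ : G → ℂ) g)
          (phi (H.subgroupOf (stabilizer G a)) Z)) := by ring
      _ = _ := by rw [hc, hα]; push_cast; ring
  rw [Finset.sum_congr rfl (fun χ _ => hterm χ)] at h'
  have h'' : ((∑ χ : Cfsg.IrrCharacter G, ((q * e : ℤ) * α χ) ^ 2 : ℤ) : ℂ) =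
      (((q ^ 3 * e : ℤ) * ((q : ℤ) ^ 3 - q) : ℤ) : ℂ) := by
    rw [Int.cast_sum, h']
    push_cast
    ring
  exact_mod_cast h''

/-- Parseval for `f ψ - Θ`. -/
theorem parseval_gamma (hH : IsKer a H) (hZ : Cfsg.IsZassenhausGroup G Ω)
    (D : Data (H.subgroupOf (stabilizer G a)) Z (q ^ 3) e q)
    {ψ Θ : Cfsg.IrrCharacter (stabilizer G a)}
    (hψ : ψ ∈ setT (H.subgroupOf (stabilizer G a)) Z) (hΘ : Θ ∈ setB Z) {f : ℕ}
    (hf : deg Θ = e * f)
    (α : Cfsg.IrrCharacter G → ℤ)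
    (hα : ∀ χ : Cfsg.IrrCharacter G, ((q ^ 3 * e : ℕ) : ℂ) *
      Cfsg.classInner (fun g : stabilizer G a => (χ : G → ℂ) g)
        (phi (H.subgroupOf (stabilizer G a)) Z) = (((q * e : ℤ) * α χ : ℤ) : ℂ)) :
    ∑ χ : Cfsg.IrrCharacter G, ((f : ℤ) * nm χ ψ - nm χ Θ) ^ 2 = (f : ℤ) ^ 2 + 1 ∧
      (q * e : ℤ) * ∑ χ : Cfsg.IrrCharacter G, α χ * ((f : ℤ) * nm χ ψ - nm χ Θ) =
        -((q * e : ℤ) * f) ∧
      ∑ χ : Cfsg.IrrCharacter G, (deg χ : ℤ) * ((f : ℤ) * nm χ ψ - nm χ Θ) = 0 ∧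
      ∀ χ : Cfsg.IrrCharacter G, (∃ v : ℂ, ∀ u ∈ H, u ≠ 1 → (χ : G → ℂ) u = v) →
        (f : ℤ) * nm χ ψ - nm χ Θ = 0 := by
  classical
  set K := H.subgroupOf (stabilizer G a)
  have := D.kNormal
  have := D.zNormal
  let Γ : stabilizer G a → ℂ := (f : ℂ) • (ψ : stabilizer G a → ℂ) - (Θ : stabilizer G a → ℂ)
  have hne : ψ ≠ Θ := fun h => mem_setB.1 hΘ (h ▸ (mem_setT.1 hψ).1)
  have hcl : Cfsg.IsClassFunction (stabilizer G a) Γ := fun g x => by
    simp only [Γ, Pi.sub_apply, Pi.smul_apply]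
    rw [CharBasic.IsIrr.isClassFunction ψ.2 g x, CharBasic.IsIrr.isClassFunction Θ.2 g x]
  have hv : ∀ g : stabilizer G a, (g : G) ∉ H → Γ g = 0 := fun g hg => by
    simp only [Γ, Pi.sub_apply, Pi.smul_apply]
    rw [D.vanish_T hψ g (fun h => hg h), (D.deg_B hΘ).1 g (fun h => hg h)]
    simp
  have h1 : Γ 1 = 0 := by
    simp only [Γ, Pi.sub_apply, Pi.smul_apply, smul_eq_mul]
    rw [(deg_spec ψ).1, (deg_spec Θ).1, D.deg_T hψ, hf]
    push_cast; ring
  have hg : ∀ χ : Cfsg.IrrCharacter G,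
      Cfsg.classInner (fun g : stabilizer G a => (χ : G → ℂ) g) Γ =
        (((f : ℤ) * nm χ ψ - nm χ Θ : ℤ) : ℂ) := fun χ => by
    simp only [Γ, CharBasic.classInner_sub_right, CharBasic.classInner_smul_right, map_natCast]
    change (f : ℂ) * mult _ ψ - mult _ Θ = _
    rw [nm_spec, nm_spec]
    push_cast; ring
  have hΓψ : Cfsg.classInner (ψ : stabilizer G a → ℂ) Γ = (f : ℂ) := by
    simp only [Γ, CharBasic.classInner_sub_right, CharBasic.classInner_smul_right, map_natCast,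
      CharBasic.classInner_irrCharacter, if_neg hne, if_true]
    ring
  have hΓΘ : Cfsg.classInner (Θ : stabilizer G a → ℂ) Γ = -1 := by
    simp only [Γ, CharBasic.classInner_sub_right, CharBasic.classInner_smul_right, map_natCast,
      CharBasic.classInner_irrCharacter, if_neg hne.symm, if_true]
    ring
  refine ⟨?_, ?_, ?_, ?_⟩
  · have h := parseval hH hZ Γ Γ hcl hv h1
    simp only [hg, map_intCast] at h
    have e1 : Cfsg.classInner Γ Γ = (f : ℂ) ^ 2 + 1 := by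
      show Cfsg.classInner ((f : ℂ) • (ψ : stabilizer G a → ℂ) - (Θ : stabilizer G a → ℂ)) Γ = _
      rw [CharBasic.classInner_sub_left, CharBasic.classInner_smul_left, hΓψ, hΓΘ]
      ring
    rw [e1] at h
    have h' : ((∑ χ : Cfsg.IrrCharacter G, ((f : ℤ) * nm χ ψ - nm χ Θ) ^ 2 : ℤ) : ℂ) =
        (((f : ℤ) ^ 2 + 1 : ℤ) : ℂ) := by
      push_cast at h ⊢
      rw [← h]
      exact Finset.sum_congr rfl fun χ _ => by ring
    exact_mod_cast h'
  · have h := parseval hH hZ Γ (phi K Z) D.phi_class (fun g hg => phi_vanish.1 g hg)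
      phi_vanish.2
    have h' := congrArg (fun x => ((q ^ 3 * e : ℕ) : ℂ) * x) h
    simp only [Finset.mul_sum, hg, map_intCast] at h'
    have e1 : ((q ^ 3 * e : ℕ) : ℂ) * Cfsg.classInner Γ (phi K Z) = -((q : ℂ) * e * f) := by
      have hψK : ¬ Triv K (ψ : stabilizer G a → ℂ) := (mem_setT.1 hψ).2
      have hΘZ : ¬ Triv Z (Θ : stabilizer G a → ℂ) := mem_setB.1 hΘ
      have hΘK : ¬ Triv K (Θ : stabilizer G a → ℂ) := fun h => hΘZ (D.mono h)
      show ((q ^ 3 * e : ℕ) : ℂ) * Cfsg.classInner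
        ((f : ℂ) • (ψ : stabilizer G a → ℂ) - (Θ : stabilizer G a → ℂ)) (phi K Z) = _
      rw [CharBasic.classInner_sub_left, CharBasic.classInner_smul_left, mul_sub, mul_left_comm,
        D.inner_phi, D.inner_phi, subSum_eq_zero K ψ.2 hψK, subSum_eq_zero K Θ.2 hΘK,
        subSum_eq_zero Z Θ.2 hΘZ, subSum_triv Z (mem_setT.1 hψ).1, D.cardZ, (deg_spec ψ).1,
        D.deg_T hψ]
      ring
    rw [e1, Finset.sum_congr rfl (g := fun χ => ((((q * e : ℤ) * α χ) *
      ((f : ℤ) * nm χ ψ - nm χ Θ) : ℤ) : ℂ)) (fun χ _ => by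
        rw [mul_left_comm, hα]; push_cast; ring), ← Int.cast_sum,
      show -((q : ℂ) * e * f) = ((-((q * e : ℤ) * f) : ℤ) : ℂ) by push_cast; ring,
      Int.cast_inj] at h'
    rw [← h', Finset.mul_sum]
    exact Finset.sum_congr rfl fun χ _ => by ring
  · have h := sum_deg_inner Γ h1
    simp only [hg, (deg_spec _).1] at h
    exact_mod_cast h
  · rintro χ ⟨v, hv'⟩
    have hne' : ∀ θ : Cfsg.IrrCharacter (stabilizer G a), ¬ Triv K (θ : stabilizer G a → ℂ) →
        Cfsg.classInner (fun _ : stabilizer G a => (1 : ℂ)) (θ : stabilizer G a → ℂ) = 0 := by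
      intro θ hθ
      refine CharBasic.classInner_irr_of_ne CharBasic.isIrrCharacter_one θ.2 fun h => hθ ?_
      rw [← h]
      exact fun _ _ => rfl
    have hone : Cfsg.classInner (fun _ : stabilizer G a => (1 : ℂ)) Γ = 0 := by
      simp only [Γ, CharBasic.classInner_sub_right, CharBasic.classInner_smul_right,
        hne' ψ (mem_setT.1 hψ).2, hne' Θ (fun h => mem_setB.1 hΘ (D.mono h)), mul_zero, sub_zero]
    have h := hg χ
    have e1 : Cfsg.classInner (fun g : stabilizer G a => (χ : G → ℂ) g) Γ =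
        v * Cfsg.classInner (fun _ : stabilizer G a => (1 : ℂ)) Γ := by
      simp only [CharBasic.classInner_def, Finset.mul_sum]
      refine Finset.sum_congr rfl fun g _ => ?_
      by_cases hgH : (g : G) ∈ H
      · rcases eq_or_ne g 1 with rfl | hg1
        · simp [h1]
        · rw [hv' _ hgH (fun h => hg1 (Subtype.ext h))]; ring
      · rw [hv g hgH]; simp
    rw [e1, hone, mul_zero] at h
    exact_mod_cast h.symm

/-- A character of `G` of the form trivial on `Z` is impossible in a simple group. -/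
theorem faithful [IsSimpleGroup G] (D : Data (H.subgroupOf (stabilizer G a)) Z (q ^ 3) e q)
    (hq : 2 ≤ q) (χ : Cfsg.IrrCharacter G) (hne : (χ : G → ℂ) ≠ fun _ => 1)
    (hsum : subSum Z (fun g : stabilizer G a => (χ : G → ℂ) g) = (q : ℂ) * (χ : G → ℂ) 1) :
    False := by
  classical
  have := Fintype.ofFinite Z
  have hchar := CharBasic.IsIrr.isCharacter χ.2
  obtain ⟨d, hd, hd1⟩ := CharBasic.IsIrr.exists_degree χ.2
  have hre : ∀ z : Z, ((χ : G → ℂ) ((z : stabilizer G a) : G)).re = d := by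
    have hle : ∀ z : Z, ((χ : G → ℂ) ((z : stabilizer G a) : G)).re ≤ d := fun z => by
      refine (Complex.re_le_norm _).trans ((CharBasic.IsChar.norm_le hchar _).trans ?_)
      rw [hd1, Complex.norm_natCast]
    have hs := congrArg Complex.re hsum
    rw [subSum_eq, Complex.re_sum, hd1, ← Nat.cast_mul, Complex.natCast_re] at hs
    intro z
    refine ((Finset.sum_eq_sum_iff_of_le (fun i _ => hle i)).1 ?_) z (Finset.mem_univ z)
    rw [hs, Finset.sum_const, Finset.card_univ, ← Nat.card_eq_fintype_card, D.cardZ, nsmul_eq_mul]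
    push_cast; ring
  have hZne : ∃ z : Z, ((z : stabilizer G a) : G) ≠ 1 := by
    have : Nontrivial Z := Finite.one_lt_card_iff_nontrivial.1 (by rw [D.cardZ]; omega)
    obtain ⟨z, hz⟩ := exists_ne (1 : Z)
    exact ⟨z, fun h => hz (Subtype.ext (Subtype.ext h))⟩
  obtain ⟨z, hz⟩ := hZne
  have hval : (χ : G → ℂ) ((z : stabilizer G a) : G) = (χ : G → ℂ) 1 := by
    rw [hd1]
    refine Complex.ext (by rw [hre z, Complex.natCast_re]) ?_
    rw [Complex.natCast_im]
    have hn : ‖(χ : G → ℂ) ((z : stabilizer G a) : G)‖ ≤ (d : ℝ) := by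
      refine (CharBasic.IsChar.norm_le hchar _).trans ?_
      rw [hd1, Complex.norm_natCast]
    have h2 := Complex.sq_norm ((χ : G → ℂ) ((z : stabilizer G a) : G))
    rw [Complex.normSq_apply, hre z] at h2
    have : ‖(χ : G → ℂ) ((z : stabilizer G a) : G)‖ ^ 2 ≤ (d : ℝ) ^ 2 :=
      pow_le_pow_left₀ (norm_nonneg _) hn 2
    nlinarith
  obtain ⟨M, hM, hMmem, -⟩ := CharBasic.IsChar.exists_kernel hchar
  have hzM : ((z : stabilizer G a) : G) ∈ M := (hMmem _).2 hval
  have htop : M = ⊤ := (hM.eq_bot_or_eq_top).resolve_left fun h =>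
    hz (Subgroup.mem_bot.1 (h ▸ hzM))
  have hconst : ∀ g : G, (χ : G → ℂ) g = (χ : G → ℂ) 1 := fun g =>
    (hMmem g).1 (htop ▸ Subgroup.mem_top g)
  have h0 := CharBasic.classInner_irr_of_ne χ.2 CharBasic.isIrrCharacter_one hne
  rw [CharBasic.classInner_def] at h0
  simp only [hconst, map_one, mul_one, Finset.sum_const, Finset.card_univ, nsmul_eq_mul] at h0
  rw [← Nat.card_eq_fintype_card, ← mul_assoc,
    inv_mul_cancel₀ (Nat.cast_ne_zero.2 Nat.card_pos.ne'), one_mul] at h0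
  exact CharBasic.IsIrr.one_ne_zero χ.2 h0

end Cfsg.Agent.H28.ZT
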