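import Cfsg.Agent.H28.ZTCube

/-!
Integer invariants of the irreducible characters relative to the exceptional family, for kernels of
order `q³` with `e = q - 1`.
-/

set_option autoImplicit false

namespace Cfsg.Agent.H28.ZT

open Finset MulAction Zass
open scoped ComplexConjugate

universe u

variable {G : Type u} {Ω : Type*} [Group G] [MulAction G Ω] [Finite Ω] {a b : Ω} {H : Subgroup G}
variable [Fintype G] [Fintype (stabilizer G a)]
variable {Z : Subgroup (stabilizer G a)} {e q : ℕ}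

/-- A character constant on `K#` has equal multiplicities on `setT`. -/
theorem nm_eq_of_const (D : Data (H.subgroupOf (stabilizer G a)) Z (q ^ 3) e q)
    (χ : Cfsg.IrrCharacter G) {v : ℂ} (hv : ∀ u ∈ H, u ≠ 1 → (χ : G → ℂ) u = v)
    {θ θ' : Cfsg.IrrCharacter (stabilizer G a)}
    (hθ : θ ∈ setT (H.subgroupOf (stabilizer G a)) Z)
    (hθ' : θ' ∈ setT (H.subgroupOf (stabilizer G a)) Z) : nm χ θ = nm χ θ' := by
  classical
  let φ : stabilizer G a → ℂ := (θ : stabilizer G a → ℂ) - (θ' : stabilizer G a → ℂ)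
  have h1 : φ 1 = 0 := by
    simp only [φ, Pi.sub_apply]
    rw [(deg_spec θ).1, (deg_spec θ').1, D.deg_T hθ, D.deg_T hθ', sub_self]
  have hz : ∀ ξ : Cfsg.IrrCharacter (stabilizer G a),
      ξ ∈ setT (H.subgroupOf (stabilizer G a)) Z →
      Cfsg.classInner (fun _ : stabilizer G a => (1 : ℂ)) (ξ : stabilizer G a → ℂ) = 0 := by
    intro ξ hξ
    refine CharBasic.classInner_irr_of_ne CharBasic.isIrrCharacter_one ξ.2 fun h =>
      (mem_setT.1 hξ).2 ?_
    rw [← h]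
    exact fun _ _ => rfl
  have e1 : Cfsg.classInner (fun g : stabilizer G a => (χ : G → ℂ) g) φ =
      v * Cfsg.classInner (fun _ : stabilizer G a => (1 : ℂ)) φ := by
    simp only [CharBasic.classInner_def, Finset.mul_sum]
    refine Finset.sum_congr rfl fun g _ => ?_
    by_cases hgH : (g : G) ∈ H
    · rcases eq_or_ne g 1 with rfl | hg1
      · simp [h1]
      · rw [hv _ hgH (fun h => hg1 (Subtype.ext h))]; ring
    · have : φ g = 0 := by
        simp only [φ, Pi.sub_apply]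
        rw [D.vanish_T hθ g (fun h => hgH h), D.vanish_T hθ' g (fun h => hgH h), sub_zero]
      rw [this]; simp
  simp only [φ, CharBasic.classInner_sub_right, hz θ hθ, hz θ' hθ', sub_zero, mul_zero] at e1
  change mult _ θ - mult _ θ' = 0 at e1
  rw [nm_spec, nm_spec, sub_eq_zero, Nat.cast_inj] at e1
  exact e1

/-- The standing data. -/
structure Base (H : Subgroup G) (Z : Subgroup (stabilizer G a)) (e q : ℕ)
    (μ : Cfsg.IrrCharacter (stabilizer G a) → Cfsg.IrrCharacter G) (ε : ℤ)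
    (ψ₀ : Cfsg.IrrCharacter (stabilizer G a)) : Prop where
  data : Data (H.subgroupOf (stabilizer G a)) Z (q ^ 3) e q
  ker : IsKer a H
  zas : Cfsg.IsZassenhausGroup G Ω
  four_le : 4 ≤ q
  e_add : e + 1 = q
  exc : Exc μ ε (setT (H.subgroupOf (stabilizer G a)) Z)
  psi_mem : ψ₀ ∈ setT (H.subgroupOf (stabilizer G a)) Z
  cardT : (setT (H.subgroupOf (stabilizer G a)) Z).card = q + 1
  sumB : ∑ θ ∈ setB Z, deg θ ^ 2 = e ^ 2 * q ^ 2

theorem exists_base (hH : IsKer a H) (hZ : Cfsg.IsZassenhausGroup G Ω) (hq4 : 4 ≤ q)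
    (he : e + 1 = q) (D : Data (H.subgroupOf (stabilizer G a)) Z (q ^ 3) e q) :
    ∃ (μ : Cfsg.IrrCharacter (stabilizer G a) → Cfsg.IrrCharacter G) (ε : ℤ)
      (ψ₀ : Cfsg.IrrCharacter (stabilizer G a)), Base H Z e q μ ε ψ₀ := by
  have he0 : 0 < e := by omega
  obtain ⟨hc1, hc2⟩ := D.counts
  have hT : (setT (H.subgroupOf (stabilizer G a)) Z).card = q + 1 := by
    have h1 : q * (e + (setT (H.subgroupOf (stabilizer G a)) Z).card * e ^ 2) =
        q * (q ^ 2 * e) := by rw [hc1]; ring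
    have h2 := Nat.eq_of_mul_eq_mul_left (by omega) h1
    have h3 : e + (setT (H.subgroupOf (stabilizer G a)) Z).card * e ^ 2 =
        e * (1 + (setT (H.subgroupOf (stabilizer G a)) Z).card * e) := by ring
    rw [h3, mul_comm (q ^ 2)] at h2
    have h4 := Nat.eq_of_mul_eq_mul_left he0 h2
    refine Nat.eq_of_mul_eq_mul_right he0 ?_
    have h5 : (q + 1) * e + 1 = q ^ 2 := by rw [← he]; ring
    omega
  have hBsum : ∑ θ ∈ setB Z, deg θ ^ 2 = e ^ 2 * q ^ 2 := by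
    rw [hT] at hc2
    have h5 : e + (q + 1) * e ^ 2 + e ^ 2 * q ^ 2 = q ^ 3 * e := by rw [← he]; ring
    omega
  obtain ⟨μ, ε, X⟩ := exists_exc hH hZ D (by rw [hT]; omega)
  obtain ⟨ψ₀, hψ₀⟩ : (setT (H.subgroupOf (stabilizer G a)) Z).Nonempty :=
    Finset.card_pos.1 (by omega)
  exact ⟨μ, ε, ψ₀, D, hH, hZ, hq4, he, X, hψ₀, hT, hBsum⟩

variable {μ : Cfsg.IrrCharacter (stabilizer G a) → Cfsg.IrrCharacter G} {ε : ℤ}
  {ψ₀ : Cfsg.IrrCharacter (stabilizer G a)}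

open Classical in
/-- The exceptional family. -/
noncomputable def famS (H : Subgroup G) (Z : Subgroup (stabilizer G a))
    (μ : Cfsg.IrrCharacter (stabilizer G a) → Cfsg.IrrCharacter G) :
    Finset (Cfsg.IrrCharacter G) :=
  (setT (H.subgroupOf (stabilizer G a)) Z).image μ

open Classical in
/-- Common multiplicity on `setT`. -/
noncomputable def cv (μ : Cfsg.IrrCharacter (stabilizer G a) → Cfsg.IrrCharacter G) (ε : ℤ)
    (ψ₀ : Cfsg.IrrCharacter (stabilizer G a)) (χ : Cfsg.IrrCharacter G) : ℤ :=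
  (nm χ ψ₀ : ℤ) - ε * (if χ = μ ψ₀ then 1 else 0)

/-- The average value on `K \ Z`. -/
noncomputable def kv (H : Subgroup G)
    (μ : Cfsg.IrrCharacter (stabilizer G a) → Cfsg.IrrCharacter G) (ε : ℤ)
    (ψ₀ : Cfsg.IrrCharacter (stabilizer G a)) (χ : Cfsg.IrrCharacter G) : ℤ :=
  (bval (a := a) H χ : ℤ) - cv μ ε ψ₀ χ

open Classical in
/-- The scaled average. -/
noncomputable def av (H : Subgroup G) (Z : Subgroup (stabilizer G a)) (q : ℕ)
    (μ : Cfsg.IrrCharacter (stabilizer G a) → Cfsg.IrrCharacter G) (ε : ℤ)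
    (ψ₀ : Cfsg.IrrCharacter (stabilizer G a)) (χ : Cfsg.IrrCharacter G) : ℤ :=
  ((q : ℤ) + 1) * kv H μ ε ψ₀ χ - ε * (if χ ∈ famS H Z μ then 1 else 0)

/-- The trivial character of `G`. -/
noncomputable def triv1 (G : Type u) [Group G] : Cfsg.IrrCharacter G :=
  ⟨_, CharBasic.isIrrCharacter_one⟩

namespace Base

variable (C : Base H Z e q μ ε ψ₀)
include C

theorem e_int : (e : ℤ) = (q : ℤ) - 1 := by have := C.e_add; omega

theorem eps_ne : ε ≠ 0 := fun h => by simpa [h] using C.exc.sign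

theorem eps_mul : ε * ε = 1 := by rw [← pow_two]; exact C.exc.sign

theorem mem_fam {θ : Cfsg.IrrCharacter (stabilizer G a)}
    (hθ : θ ∈ setT (H.subgroupOf (stabilizer G a)) Z) : μ θ ∈ famS H Z μ := by
  classical exact Finset.mem_image_of_mem μ hθ

theorem card_fam : (famS H Z μ).card = q + 1 := by
  classical
  rw [famS, Finset.card_image_of_injOn C.exc.inj, C.cardT]

theorem exists_other (θ : Cfsg.IrrCharacter (stabilizer G a)) :
    ∃ θ' ∈ setT (H.subgroupOf (stabilizer G a)) Z, θ' ≠ θ :=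
  Finset.exists_mem_ne (by rw [C.cardT]; have := C.four_le; omega) θ

theorem nm_T (χ : Cfsg.IrrCharacter G) {θ : Cfsg.IrrCharacter (stabilizer G a)}
    (hθ : θ ∈ setT (H.subgroupOf (stabilizer G a)) Z) [Decidable (χ = μ θ)] :
    (nm χ θ : ℤ) = cv μ ε ψ₀ χ + ε * (if χ = μ θ then 1 else 0) := by
  classical
  have h := C.exc.left χ θ ψ₀ hθ C.psi_mem
  unfold cv
  linarith

theorem sum_T (χ : Cfsg.IrrCharacter G) [Decidable (χ ∈ famS H Z μ)] :
    ∑ θ ∈ setT (H.subgroupOf (stabilizer G a)) Z, (nm χ θ : ℤ) =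
      ((q : ℤ) + 1) * cv μ ε ψ₀ χ + ε * (if χ ∈ famS H Z μ then 1 else 0) := by
  classical
  rw [Finset.sum_congr rfl (fun θ hθ => C.nm_T χ hθ), Finset.sum_add_distrib, Finset.sum_const,
    C.cardT, nsmul_eq_mul, ← Finset.mul_sum]
  push_cast
  congr 1
  congr 1
  by_cases hχ : χ ∈ famS H Z μ
  · rw [if_pos hχ]
    obtain ⟨θ, hθ, rfl⟩ := Finset.mem_image.1 hχ
    rw [Finset.sum_eq_single θ (fun θ' hθ' hne => if_neg fun h => hne (C.exc.inj hθ' hθ h.symm))
      (fun h => absurd hθ h), if_pos rfl]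
  · rw [if_neg hχ]
    exact Finset.sum_eq_zero fun θ hθ => if_neg fun h =>
      hχ (Finset.mem_image.2 ⟨θ, hθ, h.symm⟩)

theorem inner_av (χ : Cfsg.IrrCharacter G) : ((q ^ 3 * e : ℕ) : ℂ) *
    Cfsg.classInner (fun g : stabilizer G a => (χ : G → ℂ) g)
      (phi (H.subgroupOf (stabilizer G a)) Z) = (((q * e : ℤ) * av H Z q μ ε ψ₀ χ : ℤ) : ℂ) := by
  classical
  rw [inner_res_phi C.data χ, C.sum_T]
  congr 1
  simp only [av, kv, C.e_int]
  ring

theorem sum_av_sq : ∑ χ : Cfsg.IrrCharacter G, av H Z q μ ε ψ₀ χ ^ 2 =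
    ((q : ℤ) + 1) * q ^ 2 := by
  have h := parseval_phi C.ker C.zas C.data _ C.inner_av
  simp only [mul_pow] at h
  rw [← Finset.mul_sum] at h
  have := C.four_le
  have := C.e_add
  refine mul_left_cancel₀ (show ((q : ℤ) ^ 2 * (e : ℤ) ^ 2) ≠ 0 by
    have : 0 < e := by omega
    have : 0 < q := by omega
    positivity) (h.trans ?_)
  rw [C.e_int]; ring

theorem common {θ ξ : Cfsg.IrrCharacter (stabilizer G a)}
    (hθ : θ ∈ setT (H.subgroupOf (stabilizer G a)) Z)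
    (hξ : ξ ∉ setT (H.subgroupOf (stabilizer G a)) Z) : nm (μ θ) ξ = nm (μ ψ₀) ξ := by
  classical
  have h := C.exc.right θ ψ₀ ξ hθ C.psi_mem
  rw [if_neg (fun h => hξ (by rw [h]; exact hθ)),
    if_neg (fun h => hξ (by rw [h]; exact C.psi_mem)), sub_zero, mul_eq_zero, sub_eq_zero,
    Nat.cast_inj] at h
  exact h.resolve_left C.eps_ne

theorem cv_fam {θ : Cfsg.IrrCharacter (stabilizer G a)}
    (hθ : θ ∈ setT (H.subgroupOf (stabilizer G a)) Z) :
    cv μ ε ψ₀ (μ θ) = cv μ ε ψ₀ (μ ψ₀) := by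
  classical
  by_cases hθ0 : θ = ψ₀
  · rw [hθ0]
  have hne : μ θ ≠ μ ψ₀ := fun h => hθ0 (C.exc.inj hθ C.psi_mem h)
  have h := C.exc.right θ ψ₀ ψ₀ hθ C.psi_mem
  rw [if_neg (Ne.symm hθ0), if_pos rfl] at h
  have e1 := congrArg (fun x => ε * x) h
  simp only [← mul_assoc, C.eps_mul, one_mul] at e1
  simp only [cv, if_neg hne, if_true]
  linarith

theorem kv_fam {θ : Cfsg.IrrCharacter (stabilizer G a)}
    (hθ : θ ∈ setT (H.subgroupOf (stabilizer G a)) Z) :
    kv H μ ε ψ₀ (μ θ) = kv H μ ε ψ₀ (μ ψ₀) := by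
  have hb : bval (a := a) H (μ θ) = bval (a := a) H (μ ψ₀) := by
    classical
    refine Finset.sum_congr rfl fun ξ hξ => ?_
    rw [C.common hθ fun h => (mem_setT.1 h).2 (Finset.mem_filter.1 hξ).2]
  rw [kv, kv, hb, C.cv_fam hθ]

theorem not_fam_of_const {χ : Cfsg.IrrCharacter G}
    (hv : ∃ v : ℂ, ∀ u ∈ H, u ≠ 1 → (χ : G → ℂ) u = v) : χ ∉ famS H Z μ := by
  classical
  obtain ⟨v, hv⟩ := hv
  intro hχ
  obtain ⟨θ, hθ, rfl⟩ := Finset.mem_image.1 hχ
  obtain ⟨θ', hθ', hne⟩ := C.exists_other θ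
  have h := C.exc.left (μ θ) θ θ' hθ hθ'
  rw [nm_eq_of_const C.data (μ θ) hv hθ hθ', sub_self, if_pos rfl,
    if_neg fun h => hne (C.exc.inj hθ hθ' h).symm] at h
  exact C.eps_ne (by linarith)

theorem triv_not_fam : triv1 G ∉ famS H Z μ := C.not_fam_of_const ⟨1, fun _ _ _ => rfl⟩

omit C in
theorem nm_triv {θ : Cfsg.IrrCharacter (stabilizer G a)}
    (hθ : ¬ Triv (H.subgroupOf (stabilizer G a)) (θ : stabilizer G a → ℂ)) :
    nm (triv1 G) θ = 0 := by
  have h := nm_spec (triv1 G) θ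
  rw [mult, CharBasic.classInner_irr_of_ne
    (χ := fun g : stabilizer G a => (triv1 G : G → ℂ) g)
    CharBasic.isIrrCharacter_one θ.2 fun h => hθ (by rw [← h]; exact fun _ _ => rfl)] at h
  exact_mod_cast h.symm

theorem cv_triv : cv μ ε ψ₀ (triv1 G) = 0 := by
  classical
  simp only [cv, nm_triv (mem_setT.1 C.psi_mem).2,
    if_neg (fun h : triv1 G = μ ψ₀ => C.triv_not_fam (h ▸ C.mem_fam C.psi_mem))]
  simp

theorem kv_triv : kv H μ ε ψ₀ (triv1 G) = 1 := by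
  classical
  have h := (C.data.expansions (res_class (triv1 G)) (nm (triv1 G)) (nm_spec (triv1 G))).1
  rw [Finset.sum_eq_zero (s := setT (H.subgroupOf (stabilizer G a)) Z)
      (f := fun θ => nm (triv1 G) θ) (fun θ hθ => nm_triv (mem_setT.1 hθ).2),
    Finset.sum_eq_zero (s := setB Z) (f := fun θ => nm (triv1 G) θ * deg θ) (fun θ hθ => by
      rw [nm_triv (H := H) (fun h => mem_setB.1 hθ (C.data.mono h)), zero_mul]), mul_zero,
      add_zero, add_zero] at h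
  have hb : bval (a := a) H (triv1 G) = 1 := by
    rw [show ((triv1 G : G → ℂ) ((1 : stabilizer G a) : G)) = ((1 : ℕ) : ℂ) from
      Nat.cast_one.symm, Nat.cast_inj] at h
    exact h.symm
  rw [kv, C.cv_triv, hb]
  norm_num

theorem av_of_not_fam {χ : Cfsg.IrrCharacter G} (hχ : χ ∉ famS H Z μ) :
    av H Z q μ ε ψ₀ χ = ((q : ℤ) + 1) * kv H μ ε ψ₀ χ := by
  classical
  rw [av, if_neg hχ, mul_zero, sub_zero]

theorem av_fam {χ : Cfsg.IrrCharacter G} (hχ : χ ∈ famS H Z μ) :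
    av H Z q μ ε ψ₀ χ = ((q : ℤ) + 1) * kv H μ ε ψ₀ (μ ψ₀) - ε := by
  classical
  obtain ⟨θ, hθ, rfl⟩ := Finset.mem_image.1 hχ
  rw [av, if_pos hχ, C.kv_fam hθ, mul_one]

theorem kappa_fam_zero : kv H μ ε ψ₀ (μ ψ₀) = 0 := by
  classical
  refine kappa_zero (q := (q : ℤ)) (by have := C.four_le; omega) C.exc.sign ?_
  rw [← C.sum_av_sq, ← Finset.sum_add_sum_compl (famS H Z μ),
    Finset.sum_congr rfl (fun χ hχ => by rw [C.av_fam hχ]), Finset.sum_const, C.card_fam,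
    nsmul_eq_mul]
  have h := Finset.single_le_sum (f := fun χ => av H Z q μ ε ψ₀ χ ^ 2) (s := (famS H Z μ)ᶜ)
    (fun χ _ => sq_nonneg _) (Finset.mem_compl.2 C.triv_not_fam)
  simp only [C.av_of_not_fam C.triv_not_fam, C.kv_triv, mul_one] at h
  push_cast
  linarith

theorem cv_nonneg (χ : Cfsg.IrrCharacter G) : 0 ≤ cv μ ε ψ₀ χ := by
  classical
  by_cases hχ : χ = μ ψ₀
  · obtain ⟨ψ₁, hψ₁, hne⟩ := C.exists_other ψ₀
    have h := C.nm_T (μ ψ₀) hψ₁
    rw [if_neg fun h => hne (C.exc.inj C.psi_mem hψ₁ h).symm, mul_zero, add_zero] at h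
    rw [hχ, ← h]
    positivity
  · simp only [cv, if_neg hχ]
    simp

theorem deg_eq (χ : Cfsg.IrrCharacter G) [Decidable (χ ∈ famS H Z μ)] :
    (deg χ : ℤ) = kv H μ ε ψ₀ χ + cv μ ε ψ₀ χ +
      e * (((q : ℤ) + 1) * cv μ ε ψ₀ χ + ε * (if χ ∈ famS H Z μ then 1 else 0)) +
        ∑ θ ∈ setB Z, (nm χ θ : ℤ) * deg θ := by
  have h := (C.data.expansions (res_class χ) (nm χ) (nm_spec χ)).1
  simp only [OneMemClass.coe_one] at h
  rw [(deg_spec χ).1, Nat.cast_inj] at h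
  rw [h, ← C.sum_T χ]
  simp only [kv, bval]
  push_cast
  ring

theorem deg_fam {χ : Cfsg.IrrCharacter G} (hχ : χ ∈ famS H Z μ) : deg χ = deg (μ ψ₀) := by
  classical
  obtain ⟨θ, hθ, rfl⟩ := Finset.mem_image.1 hχ
  exact C.exc.deg θ ψ₀ hθ C.psi_mem

theorem exists_f {Θ : Cfsg.IrrCharacter (stabilizer G a)} (hΘ : Θ ∈ setB Z) :
    ∃ f : ℕ, deg Θ = e * f ∧ f ≤ q ∧ f ∣ q ^ 3 := by
  obtain ⟨-, f, hfd, hfdvd⟩ := C.data.deg_B hΘ
  refine ⟨f, hfd, ?_, hfdvd⟩
  have h := Finset.single_le_sum (f := fun θ => deg θ ^ 2) (fun _ _ => Nat.zero_le _) hΘ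
  simp only [C.sumB, hfd, mul_pow] at h
  have := C.four_le
  have := C.e_add
  have : 0 < e := by omega
  exact (Nat.pow_le_pow_iff_left two_ne_zero).1 (Nat.le_of_mul_le_mul_left h (by positivity))

end Base

end Cfsg.Agent.H28.ZT
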