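import Cfsg.Agent.H28.ZTCubeBase

/-!
Assembly of the exclusion of kernels of order `q³`.
-/

set_option autoImplicit false

namespace Cfsg.Agent.H28.ZT

open Finset MulAction Zass
open scoped ComplexConjugate

universe u

variable {G : Type u} {Ω : Type*} [Group G] [MulAction G Ω] [Finite Ω] {a b : Ω} {H : Subgroup G}
variable [Fintype G] [Fintype (stabilizer G a)]
variable {Z : Subgroup (stabilizer G a)} {e q : ℕ}
variable {μ : Cfsg.IrrCharacter (stabilizer G a) → Cfsg.IrrCharacter G} {ε : ℤ}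
  {ψ₀ : Cfsg.IrrCharacter (stabilizer G a)}

namespace Base

variable (C : Base H Z e q μ ε ψ₀)
include C

/-- Offset of a multiplicity. -/
theorem gamma_eq (χ : Cfsg.IrrCharacter G) (Θ : Cfsg.IrrCharacter (stabilizer G a)) (f : ℕ)
    [Decidable (χ = μ ψ₀)] :
    (f : ℤ) * nm χ ψ₀ - nm χ Θ = ε * f * (if χ = μ ψ₀ then 1 else 0) -
      ((nm χ Θ : ℤ) - f * cv μ ε ψ₀ χ) := by
  have h := C.nm_T χ C.psi_mem
  linear_combination (f : ℤ) * h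

theorem sum_fam_gamma {Θ : Cfsg.IrrCharacter (stabilizer G a)} (hΘ : Θ ∈ setB Z) (f : ℕ)
    (F : ℤ → ℤ) :
    ∑ χ ∈ famS H Z μ, F ((f : ℤ) * nm χ ψ₀ - nm χ Θ) =
      F (ε * f - ((nm (μ ψ₀) Θ : ℤ) - f * cv μ ε ψ₀ (μ ψ₀))) +
        q * F (-((nm (μ ψ₀) Θ : ℤ) - f * cv μ ε ψ₀ (μ ψ₀))) := by
  classical
  rw [← Finset.add_sum_erase _ _ (C.mem_fam C.psi_mem), C.gamma_eq, if_pos rfl, mul_one]
  congr 1
  rw [Finset.sum_congr rfl
    (g := fun _ => F (-((nm (μ ψ₀) Θ : ℤ) - f * cv μ ε ψ₀ (μ ψ₀)))), Finset.sum_const,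
    Finset.card_erase_of_mem (C.mem_fam C.psi_mem), C.card_fam, nsmul_eq_mul]
  · simp
  · intro χ hχ
    obtain ⟨hne, hχS⟩ := Finset.mem_erase.1 hχ
    obtain ⟨θ, hθ, rfl⟩ := Finset.mem_image.1 hχS
    rw [C.gamma_eq, if_neg hne, C.cv_fam hθ,
      C.common hθ fun h => mem_setB.1 hΘ (mem_setT.1 h).1, mul_zero, zero_sub]

omit C [Finite Ω] [Fintype (stabilizer G a)] in
theorem sum_sq_deg : ∑ χ : Cfsg.IrrCharacter G, (deg χ : ℤ) ^ 2 = Nat.card G := by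
  have h := CharBasic.sum_sq_degree (G := G)
  simp only [(deg_spec _).1] at h
  have h' : ((∑ χ : Cfsg.IrrCharacter G, (deg χ : ℤ) ^ 2 : ℤ) : ℂ) = ((Nat.card G : ℤ) : ℂ) := by
    push_cast
    exact h
  exact_mod_cast h'

theorem bound (hcardG : (Nat.card G : ℤ) = ((q : ℤ) ^ 3 + 1) * (q : ℤ) ^ 3 * ((q : ℤ) - 1))
    {St : Cfsg.IrrCharacter G} (hSt : St ∉ famS H Z μ) (hStd : deg St = q ^ 3) :
    ((q : ℤ) + 1) * (deg (μ ψ₀) : ℤ) ^ 2 + ((q : ℤ) ^ 3) ^ 2 ≤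
      ((q : ℤ) ^ 3 + 1) * (q : ℤ) ^ 3 * ((q : ℤ) - 1) := by
  classical
  rw [← hcardG, ← sum_sq_deg, ← Finset.sum_add_sum_compl (famS H Z μ),
    Finset.sum_congr rfl (fun χ hχ => by rw [C.deg_fam hχ]), Finset.sum_const, C.card_fam,
    nsmul_eq_mul]
  have := Finset.single_le_sum (f := fun χ => (deg χ : ℤ) ^ 2) (s := (famS H Z μ)ᶜ)
    (fun χ _ => sq_nonneg _) (Finset.mem_compl.2 hSt)
  simp only [hStd] at this
  push_cast at this ⊢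
  linarith

theorem cv_fam_zero {d : ℤ} (hd : (deg (μ ψ₀) : ℤ) = d + cv μ ε ψ₀ (μ ψ₀) * (q : ℤ) ^ 3)
    (hlo : -((q : ℤ) ^ 2 - 1) ≤ d)
    (hbound : ((q : ℤ) + 1) * (deg (μ ψ₀) : ℤ) ^ 2 + ((q : ℤ) ^ 3) ^ 2 ≤
      ((q : ℤ) ^ 3 + 1) * (q : ℤ) ^ 3 * ((q : ℤ) - 1)) :
    cv μ ε ψ₀ (μ ψ₀) = 0 :=
  le_antisymm (c_zero (q := (q : ℤ)) (d := (deg (μ ψ₀) : ℤ))
    (by have := C.four_le; omega) (by rw [hd]; linarith) hbound) (C.cv_nonneg _)

/-- Some character not constant on `Z` separates the exceptional family from its average. -/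
theorem exists_offset [IsSimpleGroup G]
    (hbound : ((q : ℤ) + 1) * (deg (μ ψ₀) : ℤ) ^ 2 + ((q : ℤ) ^ 3) ^ 2 ≤
      ((q : ℤ) ^ 3 + 1) * (q : ℤ) ^ 3 * ((q : ℤ) - 1)) :
    ∃ Θ ∈ setB Z, ∀ f : ℕ, deg Θ = e * f →
      (nm (μ ψ₀) Θ : ℤ) - f * cv μ ε ψ₀ (μ ψ₀) ≠ 0 := by
  classical
  by_contra hall
  push Not at hall
  choose! f hfd hB using hall
  have hB' : ∀ θ ∈ setB Z, (nm (μ ψ₀) θ : ℤ) = f θ * cv μ ε ψ₀ (μ ψ₀) :=
    fun θ hθ => sub_eq_zero.1 (hB θ hθ)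
  have hq4 := C.four_le
  have heZ := C.e_int
  have hμ0 := C.mem_fam C.psi_mem
  have hBsum' : (e : ℤ) * ∑ θ ∈ setB Z, (nm (μ ψ₀) θ : ℤ) * deg θ =
      cv μ ε ψ₀ (μ ψ₀) * (e : ℤ) ^ 2 * (q : ℤ) ^ 2 := by
    rw [Finset.mul_sum,
      Finset.sum_congr rfl (g := fun θ => cv μ ε ψ₀ (μ ψ₀) * (deg θ : ℤ) ^ 2)
        (fun θ hθ => by rw [hB' θ hθ, hfd θ hθ]; push_cast; ring), ← Finset.mul_sum]
    have := congrArg (fun x : ℕ => (x : ℤ)) C.sumB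
    push_cast at this
    rw [this]; ring
  have hd : (deg (μ ψ₀) : ℤ) = ε * e + cv μ ε ψ₀ (μ ψ₀) * (q : ℤ) ^ 3 := by
    refine mul_left_cancel₀ (show (e : ℤ) ≠ 0 by omega) ?_
    rw [C.deg_eq, C.kappa_fam_zero, if_pos hμ0, mul_add, mul_add, hBsum', heZ]
    ring
  have hc := C.cv_fam_zero hd (by
    rw [heZ]
    rcases sq_eq_one_iff.1 C.exc.sign with h | h <;> rw [h] <;> nlinarith) hbound
  refine faithful C.data (by omega) (μ ψ₀) (fun h => C.triv_not_fam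
    ((show μ ψ₀ = triv1 G from Subtype.ext h) ▸ hμ0)) ?_
  obtain ⟨h1, -, h3⟩ := C.data.expansions (res_class (μ ψ₀)) (nm (μ ψ₀)) (nm_spec _)
  have hB0 : ∑ θ ∈ setB Z, nm (μ ψ₀) θ * deg θ = 0 := Finset.sum_eq_zero fun θ hθ => by
    have := hB' θ hθ
    rw [hc, mul_zero] at this
    rw [Nat.cast_eq_zero.1 this, zero_mul]
  rw [hB0, add_zero] at h1
  simp only [OneMemClass.coe_one] at h1
  rw [h3, h1, Nat.cast_mul]

theorem f_eq (n : ℕ) (hq : q = 2 ^ n) {Θ : Cfsg.IrrCharacter (stabilizer G a)} (hΘ : Θ ∈ setB Z)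
    {f : ℕ} (hfd : deg Θ = e * f)
    (hm : (nm (μ ψ₀) Θ : ℤ) - f * cv μ ε ψ₀ (μ ψ₀) ≠ 0) :
    f = q ∧ (nm (μ ψ₀) Θ : ℤ) - f * cv μ ε ψ₀ (μ ψ₀) = ε := by
  classical
  have he0 : 0 < e := by have := C.e_add; have := C.four_le; omega
  obtain ⟨f', hfd', hfq, hfdvd⟩ := C.exists_f hΘ
  obtain rfl : f = f' := Nat.eq_of_mul_eq_mul_left he0 (hfd.symm.trans hfd')
  obtain ⟨hP2, -, hP4, -⟩ := parseval_gamma C.ker C.zas C.data C.psi_mem hΘ hfd _ C.inner_av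
  rw [← Finset.sum_add_sum_compl (famS H Z μ), C.sum_fam_gamma hΘ f (fun x => x ^ 2)] at hP2
  simp only [neg_sq] at hP2
  have hnn : 0 ≤ ∑ χ ∈ (famS H Z μ)ᶜ, ((f : ℤ) * nm χ ψ₀ - nm χ Θ) ^ 2 :=
    Finset.sum_nonneg fun _ _ => sq_nonneg _
  have hq4 := C.four_le
  obtain ⟨hmε, h2f⟩ := (m_cases (q := (q : ℤ)) (f := (f : ℤ)) (by omega) (by positivity)
    (by exact_mod_cast hfq) C.exc.sign (by rw [mul_comm (f : ℤ)]; linarith)).resolve_left hm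
  refine ⟨?_, hmε⟩
  rw [hmε] at hP2
  obtain ⟨j, hj, hjf⟩ := (Nat.dvd_prime_pow Nat.prime_two).1
    (show f ∣ 2 ^ (n * 3) by rw [pow_mul, ← hq]; exact hfdvd)
  by_contra hne
  have hjn : j < n := by
    by_contra h
    refine hne (le_antisymm hfq ?_)
    rw [hjf, hq]
    exact Nat.pow_le_pow_right (by norm_num) (by omega)
  have h2fq : 2 * f = q := by
    refine le_antisymm ?_ (by omega)
    rw [hjf, hq, ← pow_succ']
    exact Nat.pow_le_pow_right (by norm_num) hjn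
  have h2fqZ : 2 * (f : ℤ) = q := by exact_mod_cast h2fq
  have hzero : ∑ χ ∈ (famS H Z μ)ᶜ, ((f : ℤ) * nm χ ψ₀ - nm χ Θ) ^ 2 = 0 := by
    have e1 : (ε * (f : ℤ) - ε) ^ 2 = ((f : ℤ) - 1) ^ 2 := by
      linear_combination ((f : ℤ) - 1) ^ 2 * C.eps_mul
    rw [e1, C.exc.sign] at hP2
    linear_combination hP2 + h2fqZ
  rw [Finset.sum_eq_zero_iff_of_nonneg fun _ _ => sq_nonneg _] at hzero
  rw [← Finset.sum_add_sum_compl (famS H Z μ),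
    Finset.sum_congr rfl (fun χ hχ => by rw [C.deg_fam hχ]), ← Finset.mul_sum,
    C.sum_fam_gamma hΘ f (fun x => x), Finset.sum_eq_zero (s := (famS H Z μ)ᶜ) (fun χ hχ => by
      rw [pow_eq_zero_iff two_ne_zero |>.1 (hzero χ hχ), mul_zero]), add_zero, hmε] at hP4
  have h5 := (mul_eq_zero.1 hP4).resolve_left (by
    have := (deg_spec (μ ψ₀)).2
    omega)
  have h6 : ε * ((f : ℤ) - 1 - q) = 0 := by linear_combination h5
  have h7 := (mul_eq_zero.1 h6).resolve_left C.eps_ne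
  omega

set_option maxHeartbeats 1000000 in
/-- With the single character `Θ` of degree `e q`. -/
theorem final (n : ℕ) (hn : 2 ≤ n) (hq : q = 2 ^ n)
    {Θ : Cfsg.IrrCharacter (stabilizer G a)} (hΘ : Θ ∈ setB Z) (hfd : deg Θ = e * q)
    (hmε : (nm (μ ψ₀) Θ : ℤ) - q * cv μ ε ψ₀ (μ ψ₀) = ε)
    (hcardG : (Nat.card G : ℤ) = ((q : ℤ) ^ 3 + 1) * (q : ℤ) ^ 3 * ((q : ℤ) - 1))
    (hbound : ((q : ℤ) + 1) * (deg (μ ψ₀) : ℤ) ^ 2 + ((q : ℤ) ^ 3) ^ 2 ≤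
      ((q : ℤ) ^ 3 + 1) * (q : ℤ) ^ 3 * ((q : ℤ) - 1))
    (Fam : Finset (Cfsg.IrrCharacter G))
    (hFconst : ∀ χ ∈ Fam, ∃ v : ℂ, ∀ u ∈ H, u ≠ 1 → (χ : G → ℂ) u = v)
    (hFdiv : ∀ χ, χ ∉ Fam → ((q : ℤ) - 1) ∣ (deg χ : ℤ)) : False := by
  classical
  have hq4 := C.four_le
  have headd := C.e_add
  have heZ := C.e_int
  have hsingle : setB Z = {Θ} := by
    refine Finset.eq_singleton_iff_unique_mem.2 ⟨hΘ, fun θ hθ => ?_⟩
    by_contra hne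
    have hB := C.sumB
    rw [← Finset.add_sum_erase _ _ hΘ, hfd, mul_pow] at hB
    have h := Finset.single_le_sum (f := fun θ => deg θ ^ 2) (s := (setB Z).erase Θ)
      (fun _ _ => Nat.zero_le _) (Finset.mem_erase.2 ⟨hne, hθ⟩)
    have hpos : 0 < deg θ ^ 2 := pow_pos (deg_spec θ).2 2
    omega
  obtain ⟨hP2, hP3, -, hPF⟩ := parseval_gamma C.ker C.zas C.data C.psi_mem hΘ hfd _ C.inner_av
  have hd : ∀ χ : Cfsg.IrrCharacter G, (deg χ : ℤ) =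
      kv H μ ε ψ₀ χ + cv μ ε ψ₀ χ * (q : ℤ) ^ 3 +
        ((q : ℤ) - 1) * q * ((nm χ Θ : ℤ) - q * cv μ ε ψ₀ χ) +
          ε * e * (if χ ∈ famS H Z μ then 1 else 0) := by
    intro χ
    rw [C.deg_eq, hsingle, Finset.sum_singleton, hfd]
    push_cast
    rw [heZ]; ring
  have hd0 : (deg (μ ψ₀) : ℤ) =
      (((q : ℤ) - 1) * q * ε + ε * e) + cv μ ε ψ₀ (μ ψ₀) * (q : ℤ) ^ 3 := by
    rw [hd, C.kappa_fam_zero, hmε, if_pos (C.mem_fam C.psi_mem)]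
    ring
  have hc := C.cv_fam_zero hd0 (by
    rw [heZ]
    rcases sq_eq_one_iff.1 C.exc.sign with h | h <;> rw [h] <;> nlinarith) hbound
  have hε1 : ε = 1 := by
    have h := C.nm_T (μ ψ₀) C.psi_mem
    rw [hc, if_pos rfl, mul_one, zero_add] at h
    rcases sq_eq_one_iff.1 C.exc.sign with h' | h'
    · exact h'
    · rw [h'] at h; omega
  subst hε1
  have hoth : ∀ χ ∈ (famS H Z μ)ᶜ, (q : ℤ) * nm χ ψ₀ - nm χ Θ =
      -((nm χ Θ : ℤ) - q * cv μ 1 ψ₀ χ) := by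
    intro χ hχ
    rw [C.gamma_eq, if_neg fun h : χ = μ ψ₀ => Finset.mem_compl.1 hχ (h ▸ C.mem_fam C.psi_mem),
      mul_zero, zero_sub]
  have hm2 : ∑ χ ∈ (famS H Z μ)ᶜ, ((nm χ Θ : ℤ) - q * cv μ 1 ψ₀ χ) ^ 2 = q := by
    rw [← Finset.sum_add_sum_compl (famS H Z μ), C.sum_fam_gamma hΘ q (fun x => x ^ 2), hmε,
      Finset.sum_congr rfl (g := fun χ => ((nm χ Θ : ℤ) - q * cv μ 1 ψ₀ χ) ^ 2)
        (fun χ hχ => by rw [hoth χ hχ, neg_sq])] at hP2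
    linear_combination hP2
  have hκm : ∑ χ ∈ (famS H Z μ)ᶜ,
      kv H μ 1 ψ₀ χ * ((nm χ Θ : ℤ) - q * cv μ 1 ψ₀ χ) = 1 := by
    have hS3 : ∑ χ ∈ famS H Z μ, av H Z q μ 1 ψ₀ χ * ((q : ℤ) * nm χ ψ₀ - nm χ Θ) = 1 := by
      have h0 := C.sum_fam_gamma hΘ q (fun x => x)
      rw [hmε] at h0
      rw [Finset.sum_congr rfl (fun χ hχ => by rw [C.av_fam hχ, C.kappa_fam_zero]),
        ← Finset.mul_sum, h0]
      ring
    have h' : ∑ χ : Cfsg.IrrCharacter G, av H Z q μ 1 ψ₀ χ * ((q : ℤ) * nm χ ψ₀ - nm χ Θ) =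
        -(q : ℤ) := by
      refine mul_left_cancel₀ (show (q * e : ℤ) ≠ 0 by
        have : 0 < e := by omega
        have : 0 < q := by omega
        positivity) ?_
      rw [hP3]; ring
    rw [← Finset.sum_add_sum_compl (famS H Z μ), hS3, Finset.sum_congr rfl
      (g := fun χ => -(((q : ℤ) + 1) *
        (kv H μ 1 ψ₀ χ * ((nm χ Θ : ℤ) - q * cv μ 1 ψ₀ χ))))
      (fun χ hχ => by rw [hoth χ hχ, C.av_of_not_fam (Finset.mem_compl.1 hχ)]; ring),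
      Finset.sum_neg_distrib, ← Finset.mul_sum] at h'
    refine mul_left_cancel₀ (show ((q : ℤ) + 1) ≠ 0 by omega) ?_
    linarith
  obtain ⟨χ, hχ, hoddkm⟩ : ∃ χ ∈ (famS H Z μ)ᶜ,
      Odd (kv H μ 1 ψ₀ χ * ((nm χ Θ : ℤ) - q * cv μ 1 ψ₀ χ)) := by
    by_contra hall
    push Not at hall
    have h2 : (2 : ℤ) ∣ ∑ χ ∈ (famS H Z μ)ᶜ,
        kv H μ 1 ψ₀ χ * ((nm χ Θ : ℤ) - q * cv μ 1 ψ₀ χ) :=
      Finset.dvd_sum fun χ hχ => even_iff_two_dvd.1 (Int.not_odd_iff_even.1 (hall χ hχ))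
    rw [hκm] at h2
    omega
  obtain ⟨hκodd, hmodd⟩ := Int.odd_mul.1 hoddkm
  have hχS := Finset.mem_compl.1 hχ
  have hm0 : (nm χ Θ : ℤ) - q * cv μ 1 ψ₀ χ ≠ 0 := fun h => by
    rw [h] at hmodd; exact Int.not_odd_zero hmodd
  have hχF : χ ∉ Fam := fun h => hm0 (by
    have h' := hPF χ (hFconst χ h)
    rw [hoth χ hχ] at h'
    linarith)
  have hχone : χ ≠ triv1 G := by
    rintro rfl
    apply hm0
    rw [C.cv_triv, nm_triv (H := H) (fun h => mem_setB.1 hΘ (C.data.mono h))]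
    simp
  have hκb : kv H μ 1 ψ₀ χ ^ 2 + 2 ≤ (q : ℤ) := by
    have h := C.sum_av_sq
    rw [← Finset.sum_add_sum_compl (famS H Z μ),
      Finset.sum_congr rfl (fun χ hχ => by rw [C.av_fam hχ, C.kappa_fam_zero]), Finset.sum_const,
      C.card_fam, nsmul_eq_mul] at h
    push_cast at h
    have h2 : av H Z q μ 1 ψ₀ (triv1 G) ^ 2 + av H Z q μ 1 ψ₀ χ ^ 2 ≤
        ∑ χ ∈ (famS H Z μ)ᶜ, av H Z q μ 1 ψ₀ χ ^ 2 := by
      rw [← Finset.sum_pair (f := fun χ => av H Z q μ 1 ψ₀ χ ^ 2) hχone.symm]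
      exact Finset.sum_le_sum_of_subset_of_nonneg (by
        intro x hx
        rcases Finset.mem_insert.1 hx with rfl | hx
        · exact Finset.mem_compl.2 C.triv_not_fam
        · rw [Finset.mem_singleton.1 hx]; exact hχ) (fun _ _ _ => sq_nonneg _)
    rw [C.av_of_not_fam C.triv_not_fam, C.kv_triv, C.av_of_not_fam hχS] at h2
    have h3 : ((q : ℤ) + 1) * (((q : ℤ) + 1) * kv H μ 1 ψ₀ χ ^ 2) ≤
        ((q : ℤ) + 1) * ((q : ℤ) ^ 2 - q - 2) := by linarith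
    have h4 := le_of_mul_le_mul_left h3 (by omega)
    by_contra hlt
    have h5 : ((q : ℤ) - 1) ≤ kv H μ 1 ψ₀ χ ^ 2 := by omega
    have h6 : ((q : ℤ) + 1) * ((q : ℤ) - 1) ≤ ((q : ℤ) + 1) * kv H μ 1 ψ₀ χ ^ 2 :=
      mul_le_mul_of_nonneg_left h5 (by omega)
    linarith
  have hmb : ((nm χ Θ : ℤ) - q * cv μ 1 ψ₀ χ) ^ 2 ≤ (q : ℤ) :=
    (Finset.single_le_sum (f := fun χ => ((nm χ Θ : ℤ) - q * cv μ 1 ψ₀ χ) ^ 2)
      (fun _ _ => sq_nonneg _) hχ).trans_eq hm2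
  have hdχ : (deg χ : ℤ) = kv H μ 1 ψ₀ χ + cv μ 1 ψ₀ χ * (q : ℤ) ^ 3 +
      ((q : ℤ) - 1) * q * ((nm χ Θ : ℤ) - q * cv μ 1 ψ₀ χ) := by
    rw [hd, if_neg hχS]; ring
  obtain ⟨d, -, hd1, hddvd, -⟩ := CharBasic.IsIrr.degree_dvd χ.2
  have hdd : deg χ ∣ Nat.card G := by
    have : d = deg χ := by rw [(deg_spec χ).1, Nat.cast_inj] at hd1; exact hd1.symm
    rwa [this] at hddvd
  have hq' : ((2 : ℤ) ^ n) = (q : ℤ) := by rw [hq]; push_cast; rfl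
  refine cube_arith n hn (D := deg χ) hκodd hmodd (by rw [hq']; exact hκb) (by rw [hq']; exact hmb)
    (C.cv_nonneg χ) (by rw [hq']; exact hdχ) (deg_spec χ).2 (by rw [hq']; exact hFdiv χ hχF) ?_ ?_
  · rw [← hq]
    have h1 : Nat.card G = (q ^ 3 + 1) * (q ^ 3 * (q - 1)) := by
      have h2 : ((Nat.card G : ℕ) : ℤ) = (((q ^ 3 + 1) * (q ^ 3 * (q - 1)) : ℕ) : ℤ) := by
        rw [hcardG, Nat.cast_mul, Nat.cast_mul, Nat.cast_sub (by omega : 1 ≤ q)]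
        push_cast; ring
      exact_mod_cast h2
    rwa [h1] at hdd
  · rw [hq', ← hcardG, ← sum_sq_deg]
    exact Finset.single_le_sum (f := fun χ => (deg χ : ℤ) ^ 2) (fun _ _ => sq_nonneg _)
      (Finset.mem_univ χ)

end Base

omit [Fintype (stabilizer G a)] in
/-- A simple Zassenhaus group has no kernel of order `q³` with centre part of order `q = e + 1`. -/
theorem cube_false [IsSimpleGroup G] (hH : IsKer a H) (hZ : Cfsg.IsZassenhausGroup G Ω)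
    (hab : a ≠ b) (hcyc : IsCyclic ↥(stabilizer G a ⊓ stabilizer G b))
    (hodd : Odd (Nat.card ↥(stabilizer G a ⊓ stabilizer G b))) (hinv : Inverted G a b)
    (W : Subgroup G) (hWH : W ≤ H) (hWn : ∀ g : G, g • a = a → ∀ z ∈ W, g * z * g⁻¹ ∈ W)
    (hcm : ∀ u ∈ H, ∀ v ∈ H, u * v * u⁻¹ * v⁻¹ ∈ W) (n : ℕ) (hn : 2 ≤ n)
    (hWc : Nat.card W = 2 ^ n)
    (he : Nat.card ↥(stabilizer G a ⊓ stabilizer G b) + 1 = 2 ^ n)
    (hHc : Nat.card H = (2 ^ n) ^ 3) : False := by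
  classical
  have := Fintype.ofFinite (stabilizer G a)
  have hWle : W ≤ stabilizer G a := hWH.trans hH.le
  set q := 2 ^ n with hq
  set e := Nat.card ↥(stabilizer G a ⊓ stabilizer G b) with hE
  have D : Data (H.subgroupOf (stabilizer G a)) (W.subgroupOf (stabilizer G a)) (q ^ 3) e q := by
    refine ⟨hH.isFrobKer hZ, hH.normal_sub hZ, ⟨fun z hz g => hWn g g.2 z hz⟩, fun z hz => hWH hz,
      fun x hx y hy => hcm _ hx _ hy, hH.card_sub.trans hHc, hH.index_sub hZ hab, ?_⟩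
    rw [Nat.card_congr (Subgroup.subgroupOfEquivOfLe hWle).toEquiv, hWc]
  have hq4 : 4 ≤ q := by
    rw [hq]
    calc 4 = 2 ^ 2 := rfl
      _ ≤ 2 ^ n := Nat.pow_le_pow_right (by norm_num) hn
  obtain ⟨μ, ε, ψ₀, C⟩ := exists_base hH hZ hq4 he D
  have hcardG : (Nat.card G : ℤ) = ((q : ℤ) ^ 3 + 1) * (q : ℤ) ^ 3 * ((q : ℤ) - 1) := by
    rw [hH.card_group hZ hab, ← hH.card, hHc, ← hE, ← C.e_int]
    push_cast; ring
  obtain ⟨Fam, -, -, ⟨St, hStF, hSt⟩, hvanish, hFconst⟩ :=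
    exists_family_const hH hZ hab hcyc hodd hinv
      (by rw [hHc]; calc 1 < q := by omega
                    _ = q ^ 1 := (pow_one q).symm
                    _ ≤ q ^ 3 := Nat.pow_le_pow_right (by omega) (by norm_num))
  have hStd : deg St = q ^ 3 := by
    have h := hSt 1
    rw [show fixedBy Ω (1 : G) = Set.univ from Set.eq_univ_of_forall fun x => one_smul G x,
      Nat.card_coe_set_eq, Set.ncard_univ, ← hH.card, hHc, (deg_spec St).1] at h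
    have h' : ((deg St : ℕ) : ℂ) = ((q ^ 3 : ℕ) : ℂ) := by rw [h]; push_cast; ring
    exact_mod_cast h'
  have hbound := C.bound hcardG (C.not_fam_of_const (hFconst St hStF)) hStd
  obtain ⟨Θ, hΘ, hoff⟩ := C.exists_offset hbound
  obtain ⟨f, hfd, -, -⟩ := C.exists_f hΘ
  obtain ⟨rfl, hmε⟩ := C.f_eq n hq hΘ hfd (hoff f hfd)
  refine C.final n hn hq hΘ hfd hmε hcardG hbound Fam hFconst fun χ hχF => ?_
  have := Fintype.ofFinite ↥(stabilizer G a ⊓ stabilizer G b)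
  obtain ⟨k, hk⟩ := CharBasic.classInner_isChar_nat
    (CharInduce.IsChar.res (CharBasic.IsIrr.isCharacter χ.2) (stabilizer G a ⊓ stabilizer G b))
    (CharBasic.IsIrr.isCharacter
      (CharBasic.isIrrCharacter_one (G := ↥(stabilizer G a ⊓ stabilizer G b))))
  have he0 : 0 < Nat.card ↥(stabilizer G a ⊓ stabilizer G b) := Nat.card_pos
  rw [CharBasic.classInner_def, Finset.sum_eq_single 1 (fun x _ hx => by
    rw [hvanish χ hχF x x.2 (fun h => hx (Subtype.ext h)), zero_mul]) (by simp),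
    OneMemClass.coe_one, (deg_spec χ).1, map_one, mul_one,
    inv_mul_eq_iff_eq_mul₀ (by exact_mod_cast he0.ne'), ← Nat.cast_mul, Nat.cast_inj] at hk
  refine ⟨k, ?_⟩
  rw [hk, ← C.e_int, hE]
  push_cast; rfl

end Cfsg.Agent.H28.ZT
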