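import Cfsg.Agent.H28.ZTChar

/-!
The irreducible characters of a point stabiliser `N` with kernel `K`, relative to a normal subgroup
`Z ≤ K` containing the commutators of `K`.
-/

set_option autoImplicit false

namespace Cfsg.Agent.H28.ZT

open Finset MulAction Zass
open scoped ComplexConjugate

universe u

variable {N : Type u} [Group N] [Fintype N]

/-- Data: `N` Frobenius with kernel `K` of index `e`, and `Z ≤ K` normal in `N` with `K/Z`
abelian. -/
structure Data (K Z : Subgroup N) (h e q : ℕ) : Prop where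
  frob : Frob.IsFrobKer K
  kNormal : K.Normal
  zNormal : Z.Normal
  le : Z ≤ K
  comm : ∀ x ∈ K, ∀ y ∈ K, x * y * x⁻¹ * y⁻¹ ∈ Z
  cardK : Nat.card K = h
  index : K.index = e
  cardZ : Nat.card Z = q

variable {K Z : Subgroup N} {h e q : ℕ}

/-- Degree of a character as a natural number. -/
noncomputable def deg (θ : Cfsg.IrrCharacter N) : ℕ := Cfsg.charDegree (θ : N → ℂ)

omit [Fintype N] in
theorem deg_spec (θ : Cfsg.IrrCharacter N) : (θ : N → ℂ) 1 = (deg θ : ℂ) ∧ 0 < deg θ :=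
  Frob.degree_spec θ.2

open Classical in
/-- Characters constant on `K`. -/
noncomputable def setA (K : Subgroup N) : Finset (Cfsg.IrrCharacter N) :=
  univ.filter fun θ : Cfsg.IrrCharacter N => Triv K (θ : N → ℂ)

open Classical in
/-- Characters constant on `Z` but not on `K`. -/
noncomputable def setT (K Z : Subgroup N) : Finset (Cfsg.IrrCharacter N) :=
  univ.filter fun θ : Cfsg.IrrCharacter N => Triv Z (θ : N → ℂ) ∧ ¬ Triv K (θ : N → ℂ)

open Classical in
/-- Characters not constant on `Z`. -/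
noncomputable def setB (Z : Subgroup N) : Finset (Cfsg.IrrCharacter N) :=
  univ.filter fun θ : Cfsg.IrrCharacter N => ¬ Triv Z (θ : N → ℂ)

theorem mem_setT {θ : Cfsg.IrrCharacter N} :
    θ ∈ setT K Z ↔ Triv Z (θ : N → ℂ) ∧ ¬ Triv K (θ : N → ℂ) := by
  simp [setT]

theorem mem_setB {θ : Cfsg.IrrCharacter N} : θ ∈ setB Z ↔ ¬ Triv Z (θ : N → ℂ) := by
  simp [setB]

theorem Data.mono (D : Data K Z h e q) {θ : N → ℂ} (hθ : Triv K θ) : Triv Z θ :=
  fun z hz => hθ z (D.le hz)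

theorem Data.exists_ind (D : Data K Z h e q) (θ : Cfsg.IrrCharacter N)
    (hθ : ¬ Triv K (θ : N → ℂ)) :
    (∀ g, g ∉ K → (θ : N → ℂ) g = 0) ∧
      ∃ τ : K → ℂ, Cfsg.IsIrrCharacter K τ ∧ (θ : N → ℂ) = Cfsg.indFun K τ ∧
        deg θ = e * Cfsg.charDegree τ := by
  have := D.kNormal
  have hne : ∃ k ∈ K, (θ : N → ℂ) k ≠ (θ : N → ℂ) 1 := by
    simpa [Triv, and_comm] using hθ
  obtain ⟨τ, hτ, -, he⟩ := Frob.exists_ind_eq D.frob θ.2 hne
  refine ⟨fun g hg => by rw [he]; exact CharInduce.indFun_eq_zero_of_normal K τ hg, τ, hτ, he, ?_⟩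
  have h1 := congrFun he 1
  rw [(deg_spec θ).1, Frob.ind_degree hτ, D.index] at h1
  exact_mod_cast h1

theorem Data.triv_of_ind (D : Data K Z h e q) {θ : Cfsg.IrrCharacter N} {τ : K → ℂ}
    (hτ : Cfsg.IsIrrCharacter K τ) (he : (θ : N → ℂ) = Cfsg.indFun K τ)
    (hθ : Triv Z (θ : N → ℂ)) : Triv (Z.subgroupOf K) τ := by
  classical
  have := D.kNormal
  have := D.zNormal
  by_contra hne
  have : (Z.subgroupOf K).Normal := inferInstance
  have hconj : ∀ x : N, ¬ Triv (Z.subgroupOf K) (CharInduce.conjFun K τ x) := by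
    intro x hx
    apply hne
    intro z hz
    have hm : (⟨x⁻¹ * (z : N) * x, by simpa using D.kNormal.conj_mem _ z.2 x⁻¹⟩ : K) ∈
        Z.subgroupOf K := by
      rw [Subgroup.mem_subgroupOf]
      simpa using D.zNormal.conj_mem _ hz x⁻¹
    have h := hx _ hm
    have e1 : ∀ k : K, CharInduce.conjFun K τ x k =
        τ ⟨x * (k : N) * x⁻¹, D.kNormal.conj_mem _ k.2 x⟩ := fun k => rfl
    rw [e1, e1] at h
    convert h using 2
    · exact Subtype.ext (by simp [mul_assoc])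
    · exact Subtype.ext (by simp)
  have hzero : subSum (Z.subgroupOf K) (fun k : K => Cfsg.indFun K τ k) = 0 := by
    rw [CharInduce.indFun_res_normal, subSum_eq]
    simp only [Pi.smul_apply, Finset.sum_apply, smul_eq_mul, ← Finset.mul_sum]
    rw [Finset.sum_comm, Finset.sum_eq_zero, mul_zero]
    intro x _
    rw [← subSum_eq]
    exact subSum_eq_zero _ (CharInduce.isIrrCharacter_conjFun K hτ x) (hconj x)
  have hfull : subSum (Z.subgroupOf K) (fun k : K => Cfsg.indFun K τ k) =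
      (Nat.card (Z.subgroupOf K) : ℂ) * (θ : N → ℂ) 1 := by
    rw [subSum_triv]
    · rw [he]; rfl
    · intro z hz
      simp only [← he]
      exact hθ _ hz
  rw [hzero, (deg_spec θ).1] at hfull
  have := (deg_spec θ).2
  exact (mul_ne_zero (Nat.cast_ne_zero.2 Nat.card_pos.ne') (Nat.cast_ne_zero.2 this.ne')) hfull.symm

theorem Data.deg_T (D : Data K Z h e q) {θ : Cfsg.IrrCharacter N} (hθ : θ ∈ setT K Z) :
    deg θ = e := by
  classical
  have := D.kNormal
  have := D.zNormal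
  obtain ⟨hZ, hK⟩ := mem_setT.1 hθ
  obtain ⟨-, τ, hτ, he, hd⟩ := D.exists_ind θ hK
  have h1 := degree_one_of_triv (Z.subgroupOf K) (fun x y => by
    rw [Subgroup.mem_subgroupOf]
    exact D.comm _ x.2 _ y.2) hτ (D.triv_of_ind hτ he hZ)
  rw [(Frob.degree_spec hτ).1, Nat.cast_eq_one] at h1
  rw [hd, h1, mul_one]

theorem Data.deg_B (D : Data K Z h e q) {θ : Cfsg.IrrCharacter N} (hθ : θ ∈ setB Z) :
    (∀ g, g ∉ K → (θ : N → ℂ) g = 0) ∧ ∃ f : ℕ, deg θ = e * f ∧ f ∣ h := by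
  classical
  obtain ⟨hv, τ, hτ, -, hd⟩ := D.exists_ind θ fun hK => mem_setB.1 hθ (D.mono hK)
  exact ⟨hv, _, hd, D.cardK ▸ Frob.degree_dvd_card hτ⟩

theorem Data.vanish_T (D : Data K Z h e q) {θ : Cfsg.IrrCharacter N} (hθ : θ ∈ setT K Z) :
    ∀ g, g ∉ K → (θ : N → ℂ) g = 0 :=
  (D.exists_ind θ (mem_setT.1 hθ).2).1

theorem Data.sum_split (D : Data K Z h e q) {M : Type*} [AddCommMonoid M]
    (f : Cfsg.IrrCharacter N → M) :
    ∑ θ : Cfsg.IrrCharacter N, f θ =
      ∑ θ ∈ setA K, f θ + ∑ θ ∈ setT K Z, f θ + ∑ θ ∈ setB Z, f θ := by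
  classical
  simp only [setA, setT, setB, Finset.sum_filter, ← Finset.sum_add_distrib]
  refine Finset.sum_congr rfl fun θ _ => ?_
  by_cases hK : Triv K (θ : N → ℂ)
  · simp [hK, D.mono hK]
  · by_cases hZ : Triv Z (θ : N → ℂ) <;> simp [hK, hZ]

theorem Data.sum_triv (D : Data K Z h e q) {M : Type*} [AddCommMonoid M]
    (f : Cfsg.IrrCharacter N → M) [DecidablePred fun θ : Cfsg.IrrCharacter N => Triv Z (θ : N → ℂ)] :
    ∑ θ ∈ univ.filter (fun θ : Cfsg.IrrCharacter N => Triv Z (θ : N → ℂ)), f θ =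
      ∑ θ ∈ setA K, f θ + ∑ θ ∈ setT K Z, f θ := by
  classical
  simp only [setA, setT, Finset.sum_filter, ← Finset.sum_add_distrib]
  refine Finset.sum_congr rfl fun θ _ => ?_
  by_cases hK : Triv K (θ : N → ℂ)
  · simp [hK, D.mono hK]
  · by_cases hZ : Triv Z (θ : N → ℂ) <;> simp [hK, hZ]

theorem Data.card_eq (D : Data K Z h e q) : Nat.card N = h * e := by
  rw [← D.cardK, ← D.index, Subgroup.card_mul_index]

/-- The number of the characters in `setT` and the degrees in `setB`. -/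
theorem Data.counts (D : Data K Z h e q) :
    q * (e + (setT K Z).card * e ^ 2) = h * e ∧
      (e + (setT K Z).card * e ^ 2) + ∑ θ ∈ setB Z, deg θ ^ 2 = h * e := by
  classical
  have := D.kNormal
  have := D.zNormal
  have hT : ∑ θ ∈ setT K Z, (θ : N → ℂ) 1 ^ 2 = (((setT K Z).card * e ^ 2 : ℕ) : ℂ) := by
    rw [Finset.sum_congr rfl (g := fun _ => (e : ℂ) ^ 2) (fun θ hθ => by
      rw [(deg_spec θ).1, D.deg_T hθ]), Finset.sum_const, nsmul_eq_mul]
    push_cast; rfl
  have hA : ∑ θ ∈ setA K, (θ : N → ℂ) 1 ^ 2 = (e : ℂ) := by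
    have h1 := sum_sq_triv K
    rw [D.card_eq, D.cardK, Nat.cast_mul] at h1
    have hne : (h : ℂ) ≠ 0 := by
      rw [← D.cardK]; exact Nat.cast_ne_zero.2 Nat.card_pos.ne'
    exact mul_left_cancel₀ hne h1
  constructor
  · have h1 := sum_sq_triv Z
    rw [D.sum_triv (fun θ => (θ : N → ℂ) 1 ^ 2), hA, hT, D.cardZ, D.card_eq] at h1
    exact_mod_cast h1
  · have h1 := CharBasic.sum_sq_degree (G := N)
    rw [D.sum_split (fun θ => (θ : N → ℂ) 1 ^ 2), hA, hT, D.card_eq,
      Finset.sum_congr rfl (g := fun θ => ((deg θ ^ 2 : ℕ) : ℂ)) (fun θ _ => by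
        rw [(deg_spec θ).1, Nat.cast_pow]), ← Nat.cast_sum, ← Nat.cast_add, ← Nat.cast_add,
      Nat.cast_inj] at h1
    exact h1

open Classical in
/-- The indicator of `K \ Z`. -/
noncomputable def phi (K Z : Subgroup N) : N → ℂ := fun g => if g ∈ K ∧ g ∉ Z then 1 else 0

theorem Data.phi_class (D : Data K Z h e q) : Cfsg.IsClassFunction N (phi K Z) := by
  classical
  intro g x
  have key : ∀ (M : Subgroup N), M.Normal → (x * g * x⁻¹ ∈ M ↔ g ∈ M) := fun M hM =>
    ⟨fun h => by simpa [mul_assoc] using hM.conj_mem _ h x⁻¹, fun h => hM.conj_mem _ h x⟩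
  simp only [phi, key K D.kNormal, key Z D.zNormal]

theorem phi_vanish : (∀ g, g ∉ K → phi K Z g = 0) ∧ phi K Z 1 = 0 := by
  classical
  exact ⟨fun g hg => if_neg fun h => hg h.1, if_neg fun h => h.2 (one_mem Z)⟩

theorem Data.inner_phi (D : Data K Z h e q) (r : N → ℂ) :
    ((h * e : ℕ) : ℂ) * Cfsg.classInner r (phi K Z) = subSum K r - subSum Z r := by
  classical
  have := Fintype.ofFinite K
  have := Fintype.ofFinite Z
  rw [CharBasic.classInner_def, D.card_eq, ← mul_assoc, mul_inv_cancel₀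
    (by rw [← D.card_eq]; exact Nat.cast_ne_zero.2 Nat.card_pos.ne'), one_mul, subSum_eq,
    subSum_eq, eq_sub_iff_add_eq]
  have hK : ∑ x : K, r x = ∑ g : N, if g ∈ K then r g else 0 := by
    rw [← Finset.sum_filter]; exact (Finset.sum_subtype _ (by simp) _).symm
  have hZ : ∑ x : Z, r x = ∑ g : N, if g ∈ Z then r g else 0 := by
    rw [← Finset.sum_filter]; exact (Finset.sum_subtype _ (by simp) _).symm
  rw [hK, hZ, ← Finset.sum_add_distrib]
  refine Finset.sum_congr rfl fun g _ => ?_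
  by_cases hgZ : g ∈ Z
  · simp [phi, hgZ, D.le hgZ]
  · by_cases hgK : g ∈ K <;> simp [phi, hgZ, hgK]

theorem Data.phi_self (D : Data K Z h e q) :
    ((h * e : ℕ) : ℂ) * Cfsg.classInner (phi K Z) (phi K Z) = (h : ℂ) - q := by
  classical
  rw [D.inner_phi]
  have := Fintype.ofFinite K
  have := Fintype.ofFinite Z
  have hZ0 : ∑ z : Z, phi K Z (z : N) = 0 :=
    Finset.sum_eq_zero fun z _ => if_neg fun hh => hh.2 z.2
  rw [subSum_eq, subSum_eq, hZ0, sub_zero]
  simp only [phi]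
  rw [Finset.sum_congr rfl (g := fun x : K => if (x : N) ∈ Z then 0 else 1) (fun x _ => by
    by_cases hx : (x : N) ∈ Z <;> simp [hx]), Finset.sum_ite, Finset.sum_const_zero, zero_add,
    Finset.sum_const, nsmul_eq_mul, mul_one]
  have hc := Finset.card_filter_add_card_filter_not
    (fun x : K => (x : N) ∈ Z) (s := (univ : Finset K))
  rw [Finset.card_univ] at hc
  have hz : (univ.filter fun x : K => (x : N) ∈ Z).card = q := by
    rw [← D.cardZ, ← Nat.card_congr (Subgroup.subgroupOfEquivOfLe D.le).toEquiv,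
      Nat.card_eq_fintype_card, Fintype.card_subtype]
    rfl
  rw [hz, ← Nat.card_eq_fintype_card, D.cardK] at hc
  rw [eq_sub_iff_add_eq, ← hc]
  push_cast; ring

/-- Evaluations of a class function with natural multiplicities `n`. -/
theorem Data.expansions (D : Data K Z h e q) {r : N → ℂ} (hr : Cfsg.IsClassFunction N r)
    (n : Cfsg.IrrCharacter N → ℕ) (hn : ∀ θ : Cfsg.IrrCharacter N, mult r θ = n θ) :
    r 1 = ((∑ θ ∈ setA K, n θ * deg θ + e * ∑ θ ∈ setT K Z, n θ +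
        ∑ θ ∈ setB Z, n θ * deg θ : ℕ) : ℂ) ∧
      subSum K r = ((h * ∑ θ ∈ setA K, n θ * deg θ : ℕ) : ℂ) ∧
      subSum Z r =
        ((q * (∑ θ ∈ setA K, n θ * deg θ + e * ∑ θ ∈ setT K Z, n θ) : ℕ) : ℂ) := by
  classical
  have := D.kNormal
  have := D.zNormal
  have hterm : ∀ θ : Cfsg.IrrCharacter N,
      mult r θ * (θ : N → ℂ) 1 = ((n θ * deg θ : ℕ) : ℂ) := fun θ => by
    rw [hn, (deg_spec θ).1, Nat.cast_mul]
  have hT : ∑ θ ∈ setT K Z, n θ * deg θ = e * ∑ θ ∈ setT K Z, n θ := by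
    rw [Finset.mul_sum]
    exact Finset.sum_congr rfl fun θ hθ => by rw [D.deg_T hθ, mul_comm]
  refine ⟨?_, ?_, ?_⟩
  · rw [apply_one_expansion hr, Finset.sum_congr rfl (fun θ _ => hterm θ), ← Nat.cast_sum,
      D.sum_split (fun θ => n θ * deg θ), hT]
  · rw [subSum_expansion K hr, Finset.sum_congr rfl (fun θ _ => hterm θ), ← Nat.cast_sum,
      D.cardK, ← Nat.cast_mul]
    rfl
  · rw [subSum_expansion Z hr, Finset.sum_congr rfl (fun θ _ => hterm θ), ← Nat.cast_sum,
      D.sum_triv (fun θ => n θ * deg θ), hT, D.cardZ, ← Nat.cast_mul]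

end Cfsg.Agent.H28.ZT
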