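import Cfsg.Agent.H28.ZTDecomp

/-!
Exceptional characters attached to the linear characters of `K/Z`, and the integer identities
obtained from Parseval for class functions carried by `K#`.
-/

set_option autoImplicit false

namespace Cfsg.Agent.H28.ZT

open Finset MulAction Zass
open scoped ComplexConjugate

universe u

variable {G : Type u} {Ω : Type*} [Group G] [MulAction G Ω] [Finite Ω] {a b : Ω} {H : Subgroup G}
variable [Fintype G] [Fintype (stabilizer G a)]

/-- Multiplicity of `θ` in the restriction of `χ`. -/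
noncomputable def nm (χ : Cfsg.IrrCharacter G) (θ : Cfsg.IrrCharacter (stabilizer G a)) : ℕ :=
  (CharBasic.classInner_isChar_nat
    (CharInduce.IsChar.res (CharBasic.IsIrr.isCharacter χ.2) (stabilizer G a))
    (CharBasic.IsIrr.isCharacter θ.2)).choose

omit [Finite Ω] in
theorem nm_spec (χ : Cfsg.IrrCharacter G) (θ : Cfsg.IrrCharacter (stabilizer G a)) :
    mult (fun g : stabilizer G a => (χ : G → ℂ) g) θ = (nm χ θ : ℂ) :=
  (CharBasic.classInner_isChar_nat
    (CharInduce.IsChar.res (CharBasic.IsIrr.isCharacter χ.2) (stabilizer G a))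
    (CharBasic.IsIrr.isCharacter θ.2)).choose_spec

omit [Finite Ω] in
theorem res_class (χ : Cfsg.IrrCharacter G) :
    Cfsg.IsClassFunction (stabilizer G a) (fun g : stabilizer G a => (χ : G → ℂ) g) :=
  CharBasic.IsChar.isClassFunction
    (CharInduce.IsChar.res (CharBasic.IsIrr.isCharacter χ.2) (stabilizer G a))

variable {Z : Subgroup (stabilizer G a)} {h e q : ℕ}

/-- The exceptional characters. -/
structure Exc (μ : Cfsg.IrrCharacter (stabilizer G a) → Cfsg.IrrCharacter G) (ε : ℤ)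
    (T : Finset (Cfsg.IrrCharacter (stabilizer G a))) : Prop where
  sign : ε ^ 2 = 1
  inj : Set.InjOn μ T
  left : ∀ (χ : Cfsg.IrrCharacter G) (θ : Cfsg.IrrCharacter (stabilizer G a))
    (θ' : Cfsg.IrrCharacter (stabilizer G a)) [Decidable (χ = μ θ)] [Decidable (χ = μ θ')],
    θ ∈ T → θ' ∈ T →
    (nm χ θ : ℤ) - nm χ θ' =
      ε * ((if χ = μ θ then 1 else 0) - (if χ = μ θ' then 1 else 0))
  right : ∀ (θ θ' ξ : Cfsg.IrrCharacter (stabilizer G a)) [Decidable (ξ = θ)] [Decidable (ξ = θ')],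
    θ ∈ T → θ' ∈ T →
    ε * ((nm (μ θ) ξ : ℤ) - nm (μ θ') ξ) = (if ξ = θ then 1 else 0) - (if ξ = θ' then 1 else 0)
  deg : ∀ θ θ', θ ∈ T → θ' ∈ T → deg (μ θ) = deg (μ θ')

theorem exists_exc (hH : IsKer a H) (hZ : Cfsg.IsZassenhausGroup G Ω)
    (D : Data (H.subgroupOf (stabilizer G a)) Z h e q)
    (hcard : 2 ≤ (setT (H.subgroupOf (stabilizer G a)) Z).card) :
    ∃ (μ : Cfsg.IrrCharacter (stabilizer G a) → Cfsg.IrrCharacter G) (ε : ℤ),
      Exc μ ε (setT (H.subgroupOf (stabilizer G a)) Z) := by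
  classical
  set T := setT (H.subgroupOf (stabilizer G a)) Z with hT
  let E : T ≃ Fin T.card := T.equivFin
  let i₀ : Fin T.card := ⟨0, by omega⟩
  let ψ : Fin T.card → Cfsg.IrrCharacter (stabilizer G a) := fun i => (E.symm i : _)
  have hψ : ∀ i, ψ i ∈ T := fun i => (E.symm i).2
  have hψinj : Function.Injective ψ := fun i j h => E.symm.injective (Subtype.ext h)
  let φ : Fin T.card → (stabilizer G a → ℂ) := fun i =>
    (ψ i : stabilizer G a → ℂ) - (ψ i₀ : stabilizer G a → ℂ)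
  have hgen : ∀ i, Cfsg.IsGeneralizedCharacter (stabilizer G a) (φ i) := fun i =>
    ⟨_, _, CharBasic.IsIrr.isCharacter (ψ i).2, CharBasic.IsIrr.isCharacter (ψ i₀).2, rfl⟩
  have hcl : ∀ i, Cfsg.IsClassFunction (stabilizer G a) (φ i) := fun i =>
    CharBasic.IsGen.isClassFunction (hgen i)
  have hsupp : ∀ i, ∀ g : stabilizer G a, (g : G) ∉ H → φ i g = 0 := fun i g hg => by
    simp only [φ, Pi.sub_apply]
    rw [D.vanish_T (hψ i) g (fun h => hg h), D.vanish_T (hψ i₀) g (fun h => hg h), sub_zero]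
  have hone : ∀ i, φ i 1 = 0 := fun i => by
    simp only [φ, Pi.sub_apply]
    rw [(deg_spec _).1, (deg_spec _).1, D.deg_T (hψ i), D.deg_T (hψ i₀), sub_self]
  have hres : ∀ i, (fun g : stabilizer G a => Cfsg.indFun (stabilizer G a) (φ i) g) = φ i :=
    fun i => funext (ind_res_of_supp hH hZ (hcl i) (hsupp i) (hone i))
  have hgram : ∀ i j, i ≠ i₀ → j ≠ i₀ →
      Cfsg.classInner (Cfsg.indFun (stabilizer G a) (φ i)) (Cfsg.indFun (stabilizer G a) (φ j)) =
        if i = j then 2 else 1 := by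
    intro i j hi hj
    rw [CharInduce.classInner_indFun_left _ _ _ (CharInduce.isClassFunction_indFun _ _), hres]
    simp only [φ, CharBasic.classInner_sub_left, CharBasic.classInner_sub_right,
      CharBasic.classInner_irrCharacter, hψinj.eq_iff, if_neg hi, if_neg (Ne.symm hj), if_true]
    split_ifs <;> norm_num
  obtain ⟨ε, hε, μ, hμ, hμinj, hμe⟩ := CharInduce.Isometry.exists_signed_family T.card i₀
    (fun i => Cfsg.indFun (stabilizer G a) (φ i))
    (by simp [φ, CharInduce.indFun_zero]) (fun i => CharInduce.IsGen.ind _ (hgen i))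
    (fun i => by rw [CharInduce.indFun_one, hone, mul_zero]) hgram
  obtain ⟨εz, hεz, hεsq⟩ : ∃ εz : ℤ, (εz : ℂ) = ε ∧ εz ^ 2 = 1 := by
    rcases hε with rfl | rfl
    · exact ⟨1, by simp, by norm_num⟩
    · exact ⟨-1, by simp, by norm_num⟩
  let μ' : Cfsg.IrrCharacter (stabilizer G a) → Cfsg.IrrCharacter G := fun θ =>
    if h : θ ∈ T then ⟨μ (E ⟨θ, h⟩), hμ _⟩ else ⟨μ i₀, hμ _⟩
  have hμ' : ∀ i, (μ' (ψ i) : G → ℂ) = μ i := fun i => by
    simp only [μ', dif_pos (hψ i)]
    show μ (E (E.symm i)) = μ i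
    rw [Equiv.apply_symm_apply]
  have hdiff : ∀ i j, Cfsg.indFun (stabilizer G a)
      ((ψ i : stabilizer G a → ℂ) - (ψ j : stabilizer G a → ℂ)) =
        ε • ((μ' (ψ i) : G → ℂ) - (μ' (ψ j) : G → ℂ)) := by
    intro i j
    rw [hμ', hμ', show (ψ i : stabilizer G a → ℂ) - (ψ j : stabilizer G a → ℂ) = φ i - φ j by
      simp [φ], CharInduce.indFun_sub, hμe, hμe, ← smul_sub, sub_sub_sub_cancel_right]
  have hsurj : ∀ θ, θ ∈ T → ∃ i, ψ i = θ := fun θ hθ => ⟨E ⟨θ, hθ⟩, by
    simp only [ψ, Equiv.symm_apply_apply]⟩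
  refine ⟨μ', εz, hεsq, ?_, ?_, ?_, ?_⟩
  · intro θ hθ θ' hθ' he
    obtain ⟨i, rfl⟩ := hsurj θ hθ
    obtain ⟨j, rfl⟩ := hsurj θ' hθ'
    have h' := congrArg (fun χ : Cfsg.IrrCharacter G => (χ : G → ℂ)) he
    simp only [hμ'] at h'
    rw [hμinj h']
  · intro χ θ θ' _ _ hθ hθ'
    obtain ⟨i, rfl⟩ := hsurj θ hθ
    obtain ⟨j, rfl⟩ := hsurj θ' hθ'
    have h1 := CharInduce.classInner_indFun_right (stabilizer G a)
      ((ψ i : stabilizer G a → ℂ) - (ψ j : stabilizer G a → ℂ)) (χ : G → ℂ)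
      (CharBasic.IsIrr.isClassFunction χ.2)
    rw [hdiff, CharBasic.classInner_smul_right, CharBasic.classInner_sub_right,
      CharBasic.classInner_irrCharacter, CharBasic.classInner_irrCharacter,
      CharBasic.classInner_sub_right, ← hεz, map_intCast] at h1
    change _ = mult _ _ - mult _ _ at h1
    rw [nm_spec, nm_spec] at h1
    have h2 : (((nm χ (ψ i) : ℤ) - nm χ (ψ j) : ℤ) : ℂ) =
        ((εz * ((if χ = μ' (ψ i) then 1 else 0) - (if χ = μ' (ψ j) then 1 else 0)) : ℤ) : ℂ) := by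
      push_cast
      rw [← h1]
      congr!
    exact_mod_cast h2
  · intro θ θ' ξ _ _ hθ hθ'
    obtain ⟨i, rfl⟩ := hsurj θ hθ
    obtain ⟨j, rfl⟩ := hsurj θ' hθ'
    have e1 : (fun g : stabilizer G a => Cfsg.indFun (stabilizer G a)
        ((ψ i : stabilizer G a → ℂ) - (ψ j : stabilizer G a → ℂ)) g) =
        (ψ i : stabilizer G a → ℂ) - (ψ j : stabilizer G a → ℂ) := by
      have e : (ψ i : stabilizer G a → ℂ) - (ψ j : stabilizer G a → ℂ) = φ i - φ j := by simp [φ]
      rw [e, CharInduce.indFun_sub]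
      funext g
      simp only [Pi.sub_apply]
      rw [congrFun (hres i) g, congrFun (hres j) g]
    rw [hdiff] at e1
    have h1 := congrArg (fun F => Cfsg.classInner F (ξ : stabilizer G a → ℂ)) e1
    have e2 : (fun g : stabilizer G a => (ε • ((μ' (ψ i) : G → ℂ) - (μ' (ψ j) : G → ℂ))) g) =
        ε • ((fun g : stabilizer G a => (μ' (ψ i) : G → ℂ) g) -
          fun g : stabilizer G a => (μ' (ψ j) : G → ℂ) g) := rfl
    simp only [e2, CharBasic.classInner_smul_left, CharBasic.classInner_sub_left,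
      CharBasic.classInner_irrCharacter] at h1
    change ε * (mult _ _ - mult _ _) = _ at h1
    rw [nm_spec, nm_spec, ← hεz] at h1
    have h2 : ((εz * ((nm (μ' (ψ i)) ξ : ℤ) - nm (μ' (ψ j)) ξ) : ℤ) : ℂ) =
        (((if ξ = ψ i then 1 else 0) - (if ξ = ψ j then 1 else 0) : ℤ) : ℂ) := by
      push_cast
      rw [h1]
      simp only [eq_comm (a := ξ)]
    exact_mod_cast h2
  · intro θ θ' hθ hθ'
    obtain ⟨i, rfl⟩ := hsurj θ hθ
    obtain ⟨j, rfl⟩ := hsurj θ' hθ'
    have h := congrFun (hdiff i j) 1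
    rw [CharInduce.indFun_one] at h
    simp only [Pi.sub_apply, Pi.smul_apply, smul_eq_mul] at h
    rw [(deg_spec (ψ i)).1, (deg_spec (ψ j)).1, D.deg_T (hψ i), D.deg_T (hψ j), sub_self,
      mul_zero, (deg_spec (μ' (ψ i))).1, (deg_spec (μ' (ψ j))).1] at h
    have hε0 : ε ≠ 0 := by rcases hε with rfl | rfl <;> norm_num
    have h' := (mul_eq_zero.1 h.symm).resolve_left hε0
    rw [sub_eq_zero, Nat.cast_inj] at h'
    exact h'

omit [Fintype (stabilizer G a)] in
/-- The sum of the degrees times the multiplicities of a function vanishing at one is zero. -/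
theorem sum_deg_inner [Fintype (stabilizer G a)] (f : stabilizer G a → ℂ) (h1 : f 1 = 0) :
    ∑ χ : Cfsg.IrrCharacter G, (χ : G → ℂ) 1 *
      Cfsg.classInner (fun g : stabilizer G a => (χ : G → ℂ) g) f = 0 := by
  classical
  simp only [CharBasic.classInner_def, Finset.mul_sum]
  rw [Finset.sum_comm]
  refine Finset.sum_eq_zero fun g _ => ?_
  have : ∀ χ : Cfsg.IrrCharacter G, (χ : G → ℂ) 1 *
      ((Nat.card (stabilizer G a) : ℂ)⁻¹ * ((χ : G → ℂ) g * conj (f g))) =
      ((χ : G → ℂ) 1 * (χ : G → ℂ) g) * ((Nat.card (stabilizer G a) : ℂ)⁻¹ * conj (f g)) :=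
    fun χ => by ring
  rw [Finset.sum_congr rfl (fun χ _ => this χ), ← Finset.sum_mul,
    CharBasic.sum_degree_mul_apply (g : G)]
  split_ifs with hg
  · rw [show g = 1 from Subtype.ext hg, h1, map_zero, mul_zero, mul_zero]
  · rw [zero_mul]

end Cfsg.Agent.H28.ZT
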