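import Cfsg.Agent.H28.ZTOddBase
import Cfsg.Agent.H28.ZTCubeBase

/-!
A Zassenhaus group whose two-point stabilisers are inverted and of odd order has no non-abelian
`p`-group of odd order as kernel (Ito).
-/

set_option autoImplicit false

namespace Cfsg.Agent.H28.ZT

open Finset MulAction Zass
open scoped ComplexConjugate

universe u

variable {G : Type u} {Ω : Type*} [Group G] [MulAction G Ω] [Finite Ω] {a b : Ω} {H : Subgroup G}
variable [Fintype G] [Fintype (stabilizer G a)]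
variable {Z : Subgroup (stabilizer G a)} {h e z : ℕ}

/-- Number of constituents constant on `Z` but not on `K`, with multiplicity. -/
noncomputable def svalT (H : Subgroup G) (Z : Subgroup (stabilizer G a))
    (χ : Cfsg.IrrCharacter G) : ℕ :=
  ∑ θ ∈ setT (H.subgroupOf (stabilizer G a)) Z, nm χ θ

/-- The scaled average on `K \ Z`. -/
noncomputable def alphaT (H : Subgroup G) (Z : Subgroup (stabilizer G a))
    (χ : Cfsg.IrrCharacter G) : ℤ :=
  ((setT (H.subgroupOf (stabilizer G a)) Z).card : ℤ) * bval (a := a) H χ - svalT H Z χ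

omit [Finite Ω] in
theorem inner_alpha (D : Data (H.subgroupOf (stabilizer G a)) Z h e z) {t : ℕ}
    (ht : (setT (H.subgroupOf (stabilizer G a)) Z).card = t) (hh : h = z * (1 + t * e))
    (χ : Cfsg.IrrCharacter G) :
    ((h * e : ℕ) : ℂ) * Cfsg.classInner (fun g : stabilizer G a => (χ : G → ℂ) g)
        (phi (H.subgroupOf (stabilizer G a)) Z) = ((z * e : ℕ) : ℂ) * (alphaT H Z χ : ℂ) := by
  obtain ⟨-, h2, h3⟩ := D.expansions (res_class χ) (nm χ) (nm_spec χ)
  rw [D.inner_phi, h2, h3, alphaT, ht, svalT, bval]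
  subst hh
  push_cast
  ring

omit [Finite Ω] [Fintype G] in
/-- Sum over a subgroup of a function constant away from the identity. -/
theorem subSum_const (M : Subgroup (stabilizer G a)) {r : stabilizer G a → ℂ} {v : ℂ}
    (hv : ∀ m ∈ M, m ≠ 1 → r m = v) :
    subSum M r = r 1 + ((Nat.card M : ℂ) - 1) * v := by
  classical
  have := Fintype.ofFinite M
  rw [subSum_eq, ← Finset.add_sum_erase _ _ (Finset.mem_univ (1 : M)),
    Finset.sum_congr (s₁ := Finset.univ.erase (1 : M)) (f := fun m : M => r m) rfl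
      (g := fun _ => v) (fun m hm => hv m m.2
      (fun h => (Finset.mem_erase.1 hm).1 (Subtype.ext h))), Finset.sum_const,
    Finset.card_erase_of_mem (Finset.mem_univ _), Finset.card_univ, nsmul_eq_mul,
    ← Nat.card_eq_fintype_card, Nat.cast_sub Nat.card_pos, Nat.cast_one]
  rfl

omit [Finite Ω] in
theorem const_vals (D : Data (H.subgroupOf (stabilizer G a)) Z h e z) {t : ℕ}
    (ht : (setT (H.subgroupOf (stabilizer G a)) Z).card = t) (hh : h = z * (1 + t * e))
    (χ : Cfsg.IrrCharacter G) {v : ℤ} (hv : ∀ u ∈ H, u ≠ 1 → (χ : G → ℂ) u = v) :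
    alphaT H Z χ = t * v ∧ (h : ℤ) * bval (a := a) H χ = deg χ + ((h : ℤ) - 1) * v := by
  obtain ⟨-, h2, h3⟩ := D.expansions (res_class χ) (nm χ) (nm_spec χ)
  have hvK : ∀ m ∈ H.subgroupOf (stabilizer G a), m ≠ 1 →
      (fun g : stabilizer G a => (χ : G → ℂ) g) m = (v : ℂ) := fun m hm hm1 =>
    hv m hm (fun h => hm1 (Subtype.ext h))
  have hK := subSum_const _ hvK
  have hZs := subSum_const Z (fun m hm => hvK m (D.le hm))
  simp only [OneMemClass.coe_one] at hK hZs
  rw [D.cardK, (deg_spec χ).1] at hK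
  rw [D.cardZ, (deg_spec χ).1] at hZs
  constructor
  · have hi := inner_alpha D ht hh χ
    rw [D.inner_phi, hK, hZs] at hi
    have hz : 0 < z := D.cardZ ▸ Nat.card_pos
    have he : 0 < e := D.index ▸ Nat.pos_of_ne_zero Subgroup.index_ne_zero_of_finite
    subst hh
    have : ((z * e : ℕ) : ℂ) * (alphaT H Z χ : ℂ) = ((z * e : ℕ) : ℂ) * ((t * v : ℤ) : ℂ) := by
      rw [← hi]; push_cast; ring
    exact Int.cast_injective (mul_left_cancel₀ (Nat.cast_ne_zero.2 (by positivity)) this)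
  · have h' : ((h * ∑ θ ∈ setA (H.subgroupOf (stabilizer G a)), nm χ θ * deg θ : ℕ) : ℂ) =
        (deg χ : ℂ) + ((h : ℂ) - 1) * (v : ℂ) := h2.symm.trans hK
    rw [bval]
    have h'' : (((h * ∑ θ ∈ setA (H.subgroupOf (stabilizer G a)), nm χ θ * deg θ : ℕ) : ℤ) : ℂ) =
        (((deg χ : ℤ) + ((h : ℤ) - 1) * v : ℤ) : ℂ) := by
      rw [Int.cast_natCast, h']; push_cast; ring
    have h3 := Int.cast_injective h''
    push_cast at h3 ⊢
    exact h3

/-- A character with a constituent constant on `K` is a constituent of the permutation character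
or is induced from a linear character. -/
theorem kinds (hH : IsKer a H) (hZ : Cfsg.IsZassenhausGroup G Ω) (hab : a ≠ b)
    (hcyc : IsCyclic ↥(stabilizer G a ⊓ stabilizer G b))
    (hodde : Odd (Nat.card ↥(stabilizer G a ⊓ stabilizer G b))) (hinv : Inverted G a b)
    (χ : Cfsg.IrrCharacter G) (hb : bval (a := a) H χ ≠ 0) :
    χ = triv1 G ∨ (∀ g : G, (χ : G → ℂ) g = (Nat.card (fixedBy Ω g) : ℂ) - 1) ∨
      ((∀ u ∈ H, u ≠ 1 → (χ : G → ℂ) u = 1) ∧ deg χ = Nat.card H + 1 ∧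
        ∀ g : G, (∀ c : Ω, g • c ≠ c) → (χ : G → ℂ) g = 0) := by
  classical
  have := hH.normal_sub hZ
  have htr : IsPretransitive G Ω := isPretransitive_of_is_two_pretransitive (h2 := hZ.2.1)
  obtain ⟨ξ, hξA, hξ⟩ := Finset.exists_ne_zero_of_sum_ne_zero hb
  have hnm : nm χ ξ ≠ 0 := fun h0 => hξ (by rw [h0, zero_mul])
  have hξK := (Finset.mem_filter.1 hξA).2
  have hcomm : ∀ x y : stabilizer G a, x * y * x⁻¹ * y⁻¹ ∈ H.subgroupOf (stabilizer G a) := by
    intro x y
    obtain ⟨u, hu, c, hc, hxc⟩ := hH.decomp hZ hab (g := (x : G)) x.2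
    obtain ⟨v, hv, d, hd, hyd⟩ := hH.decomp hZ hab (g := (y : G)) y.2
    have hca := (mem_two.1 hc).1
    have hda := (mem_two.1 hd).1
    let U : stabilizer G a := ⟨u, hH.le hu⟩
    let V : stabilizer G a := ⟨v, hH.le hv⟩
    let C : stabilizer G a := ⟨c, hca⟩
    let D : stabilizer G a := ⟨d, hda⟩
    have hCD : C * D = D * C := Subtype.ext (by
      have := hcyc
      letI : CommGroup ↥(stabilizer G a ⊓ stabilizer G b) := IsCyclic.commGroup
      show c * d = d * c
      exact congrArg Subtype.val (mul_comm (⟨c, hc⟩ : ↥(stabilizer G a ⊓ stabilizer G b)) ⟨d, hd⟩))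
    have hx : x = U * C := Subtype.ext hxc
    have hy : y = V * D := Subtype.ext hyd
    have hU : (QuotientGroup.mk U : stabilizer G a ⧸ H.subgroupOf (stabilizer G a)) = 1 :=
      (QuotientGroup.eq_one_iff _).2 hu
    have hV : (QuotientGroup.mk V : stabilizer G a ⧸ H.subgroupOf (stabilizer G a)) = 1 :=
      (QuotientGroup.eq_one_iff _).2 hv
    rw [← QuotientGroup.eq_one_iff, hx, hy]
    simp only [QuotientGroup.mk_mul, QuotientGroup.mk_inv, hU, hV, one_mul]
    rw [← QuotientGroup.mk_mul, hCD, QuotientGroup.mk_mul]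
    group
  obtain ⟨l, hl⟩ := CharInduce.IsChar.exists_hom_of_degree_one (CharBasic.IsIrr.isCharacter ξ.2)
    (degree_one_of_triv _ hcomm ξ.2 hξK)
  have hlK : IsTorusChar H l := ⟨fun u hu => Units.ext (by
    rw [← hl, hξK u hu, hl, map_one])⟩
  have hξl : (ξ : stabilizer G a → ℂ) = fun g => (l g : ℂ) := funext hl
  have hne : Cfsg.classInner (Cfsg.indFun (stabilizer G a) (fun g => (l g : ℂ)))
      (χ : G → ℂ) ≠ 0 := by
    rw [CharInduce.classInner_indFun_left _ _ _ (CharBasic.IsIrr.isClassFunction χ.2), ← hξl,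
      ← CharBasic.classInner_conj_symm (fun g : stabilizer G a => (χ : G → ℂ) g)]
    intro h0
    refine hnm ?_
    have h1 := nm_spec χ ξ
    rw [mult] at h1
    rw [h1, map_natCast] at h0
    exact_mod_cast h0
  by_cases hl1 : l = 1
  · have hfix : Cfsg.indFun (stabilizer G a) (fun g => (l g : ℂ)) =
        fun g : G => ((Nat.card (fixedBy Ω g) : ℂ) - 1) + 1 := by
      rw [hl1]
      funext g
      rw [sub_add_cancel]
      simpa using (congrFun (CharInduce.fixedBy_eq_indFun (X := Ω) a) g).symm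
    rw [hfix] at hne
    have h2 : (2 : ℕ) ≤ Nat.card Ω := by have := H33.zas_three_le_card hZ; omega
    have hSt := (S0157.result (G := G) Ω h2).2 hZ.2.1
    by_cases h1 : χ = triv1 G
    · exact Or.inl h1
    refine Or.inr (Or.inl fun g => ?_)
    by_contra hg
    apply hne
    have e : (fun g : G => ((Nat.card (fixedBy Ω g) : ℂ) - 1) + 1) =
        (fun g : G => (Nat.card (fixedBy Ω g) : ℂ) - 1) + fun _ => (1 : ℂ) := rfl
    rw [e, CharBasic.classInner_add_left,
      CharBasic.classInner_irr_of_ne hSt χ.2 (fun h => hg (congrFun h g).symm),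
      CharBasic.classInner_irr_of_ne CharBasic.isIrrCharacter_one χ.2
        (fun h => h1 (Subtype.ext h.symm)), add_zero]
  · have hirr := torus_ind_isIrr hH hZ hab hodde hinv hlK hl1
    have heq : Cfsg.indFun (stabilizer G a) (fun g => (l g : ℂ)) = (χ : G → ℂ) := by
      by_contra h0
      exact hne (CharBasic.classInner_irr_of_ne hirr χ.2 h0)
    refine Or.inr (Or.inr ⟨fun u hu hu1 => ?_, ?_, fun g hg => ?_⟩)
    · rw [← heq]; exact torus_ind_ker hH hZ hlK hu hu1
    · have h1 := torus_ind_one (l := l) hH hZ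
      rw [heq, (deg_spec χ).1] at h1
      exact_mod_cast h1
    · rw [← heq]; exact torus_ind_free hg

/-- The commutator subgroup of the kernel as data. -/
theorem exists_data (hH : IsKer a H) (hZ : Cfsg.IsZassenhausGroup G Ω) (hab : a ≠ b)
    (hodde : Odd (Nat.card ↥(stabilizer G a ⊓ stabilizer G b)))
    (hodd : Odd (Nat.card H)) (hna : ∃ u ∈ H, ∃ v ∈ H, u * v ≠ v * u) :
    ∃ (Z : Subgroup (stabilizer G a)) (z t : ℕ),
      Data (H.subgroupOf (stabilizer G a)) Z (Nat.card H)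
        (Nat.card ↥(stabilizer G a ⊓ stabilizer G b)) z ∧
      (setT (H.subgroupOf (stabilizer G a)) Z).card = t ∧ 2 ≤ t ∧
      2 * Nat.card ↥(stabilizer G a ⊓ stabilizer G b) + 1 ≤ z ∧
      Nat.card H = z * (1 + t * Nat.card ↥(stabilizer G a ⊓ stabilizer G b)) ∧
      ∀ Θ ∈ setB Z, deg Θ ≠ Nat.card ↥(stabilizer G a ⊓ stabilizer G b) := by
  classical
  set e := Nat.card ↥(stabilizer G a ⊓ stabilizer G b) with he
  have he0 : 0 < e := Nat.card_pos
  let Z₀ : Subgroup G := ⁅H, H⁆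
  have hle : Z₀ ≤ H := Subgroup.commutator_le.2 fun x hx y hy => by
    rw [commutatorElement_def]
    exact mul_mem (mul_mem (mul_mem hx hy) (inv_mem hx)) (inv_mem hy)
  have hn : ∀ g : G, g • a = a → ∀ w ∈ Z₀, g * w * g⁻¹ ∈ Z₀ := by
    intro g hg w hw
    have h1 : g * w * g⁻¹ ∈ Z₀.map (MulAut.conj g).toMonoidHom := ⟨w, hw, rfl⟩
    rw [Subgroup.map_commutator] at h1
    refine Subgroup.commutator_mono ?_ ?_ h1 <;>
    · rintro _ ⟨u, hu, rfl⟩
      exact hH.conj_mem hZ hg hu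
  have D : Data (H.subgroupOf (stabilizer G a)) (Z₀.subgroupOf (stabilizer G a)) (Nat.card H) e
      (Nat.card Z₀) := by
    refine ⟨hH.isFrobKer hZ, hH.normal_sub hZ, ⟨fun w hw g => hn g g.2 w hw⟩,
      fun w hw => hle hw, fun x hx y hy => ?_, hH.card_sub, hH.index_sub hZ hab, ?_⟩
    · exact Subgroup.commutator_mem_commutator hx hy
    · rw [Nat.card_congr (Subgroup.subgroupOfEquivOfLe (hle.trans hH.le)).toEquiv]
  refine ⟨_, _, _, D, rfl, ?_⟩
  set t := (setT (H.subgroupOf (stabilizer G a)) (Z₀.subgroupOf (stabilizer G a))).card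
  set z := Nat.card Z₀ with hzdef
  have hh : Nat.card H = z * (1 + t * e) := by
    refine Nat.eq_of_mul_eq_mul_right he0 ?_
    rw [← D.counts.1]; ring
  have hz1 : 1 < z := by
    refine (Subgroup.one_lt_card_iff_ne_bot _).2 fun h0 => ?_
    obtain ⟨u, hu, v, hv, huv⟩ := hna
    refine huv (commutatorElement_eq_one_iff_mul_comm.1 ?_)
    rw [← Subgroup.mem_bot, ← h0]
    exact Subgroup.commutator_mem_commutator hu hv
  have ht0 : t ≠ 0 := by
    intro h0
    rw [h0, zero_mul, add_zero, mul_one] at hh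
    have heqH : Z₀ = H := Subgroup.eq_of_le_of_card_ge hle (by rw [← hzdef, ← hh])
    have := hH.nilpotent hZ
    have : Nontrivial H := (Subgroup.nontrivial_iff_ne_bot H).2 (hH.ne_bot hZ)
    obtain ⟨l, hl⟩ := Frob.exists_hom_ne_one (H := H)
    refine hl (MonoidHom.ext fun x => ?_)
    have htop : (commutator H).map H.subtype = H := by
      rw [Subgroup.map_subtype_commutator]; exact heqH
    obtain ⟨y, hy, hyx⟩ := htop.ge x.2
    rw [← show y = x from Subtype.ext hyx]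
    exact Abelianization.commutator_subset_ker l hy
  have hteven : Even t := by
    rw [hh, Nat.odd_mul] at hodd
    have := hodd.2
    rw [add_comm, Nat.odd_add_one, Nat.not_odd_iff_even, Nat.even_mul] at this
    exact this.resolve_right (Nat.not_even_iff_odd.2 hodde)
  refine ⟨by obtain ⟨r, hr⟩ := hteven; omega, ?_, hh, ?_⟩
  · obtain ⟨k, hk⟩ := two_pt_dvd hH hZ hab
    have hzodd : Odd z := by rw [hh, Nat.odd_mul] at hodd; exact hodd.1
    have h1 : (e : ℤ) ∣ (z : ℤ) - 1 := by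
      refine ⟨(k : ℤ) - z * t, ?_⟩
      have h2 : ((Nat.card H : ℕ) : ℤ) = (e : ℤ) * k + 1 := by
        have : Nat.card H = e * k + 1 := by
          have := Nat.card_pos (α := H); rw [← he] at hk; omega
        exact_mod_cast this
      rw [hh] at h2
      push_cast at h2
      linear_combination h2
    obtain ⟨r, hr⟩ := hzodd
    rw [hr] at h1
    push_cast at h1
    rw [add_sub_cancel_right] at h1
    have h3 : e ∣ r := by
      have hcop : Nat.Coprime e 2 := Nat.coprime_two_right.2 hodde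
      exact hcop.dvd_of_dvd_mul_left (by exact_mod_cast h1)
    have := Nat.le_of_dvd (by omega) h3
    omega
  · intro Θ hΘ hdeg
    obtain ⟨-, τ, hτ, hind, hd⟩ := D.exists_ind Θ fun hK => mem_setB.1 hΘ (D.mono hK)
    have hf1 : Cfsg.charDegree τ = 1 :=
      (mul_eq_left₀ he0.ne').1 (hd.symm.trans hdeg)
    obtain ⟨l, hl⟩ := CharInduce.IsChar.exists_hom_of_degree_one (CharBasic.IsIrr.isCharacter hτ)
      (by rw [(Frob.degree_spec hτ).1, hf1, Nat.cast_one])
    let l' : H →* ℂˣ := l.comp (Subgroup.subgroupOfEquivOfLe hH.le).symm.toMonoidHom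
    refine mem_setB.1 hΘ fun w hw => ?_
    have := D.kNormal
    have := Fintype.ofFinite (H.subgroupOf (stabilizer G a))
    have hval : ∀ k : H.subgroupOf (stabilizer G a), ((k : stabilizer G a) : G) ∈ Z₀ →
        (Θ : stabilizer G a → ℂ) k = ((Nat.card (H.subgroupOf (stabilizer G a)) : ℂ))⁻¹ *
          (Nat.card (stabilizer G a) : ℂ) := by
      intro k hk
      have h1 := congrFun (CharInduce.indFun_res_normal (χ := τ)) k
      rw [← hind] at h1
      rw [h1, Pi.smul_apply, Finset.sum_apply, smul_eq_mul]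
      congr 1
      rw [Finset.sum_congr rfl (g := fun _ => (1 : ℂ)), Finset.sum_const, Finset.card_univ,
        nsmul_eq_mul, mul_one, Nat.card_eq_fintype_card]
      intro x _
      show τ _ = 1
      rw [hl]
      have hm : ((x * (k : stabilizer G a) * x⁻¹ : stabilizer G a) : G) ∈
          (commutator H).map H.subtype := by
        rw [Subgroup.map_subtype_commutator]
        exact hn x x.2 _ hk
      obtain ⟨y, hy, hyx⟩ := hm
      have h2 : l' y = 1 := Abelianization.commutator_subset_ker l' hy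
      rw [← Units.val_one, ← h2]
      exact congrArg (fun w => (l w : ℂ)) (Subtype.ext (Subtype.ext hyx.symm))
    rw [hval ⟨w, hle hw⟩ hw]
    exact (hval 1 (one_mem Z₀)).symm

/-- Common multiplicities of a character constant on `K#`. -/
theorem const_nm (D : Data (H.subgroupOf (stabilizer G a)) Z h e z)
    (χ : Cfsg.IrrCharacter G) {v : ℂ} (hv : ∀ u ∈ H, u ≠ 1 → (χ : G → ℂ) u = v)
    {θ θ' : Cfsg.IrrCharacter (stabilizer G a)}
    (hθ : θ ∈ setT (H.subgroupOf (stabilizer G a)) Z)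
    (hθ' : θ' ∈ setT (H.subgroupOf (stabilizer G a)) Z) : nm χ θ = nm χ θ' := by
  classical
  let φ : stabilizer G a → ℂ := (θ : stabilizer G a → ℂ) - (θ' : stabilizer G a → ℂ)
  have h1 : φ 1 = 0 := by
    simp only [φ, Pi.sub_apply]
    rw [(deg_spec θ).1, (deg_spec θ').1, D.deg_T hθ, D.deg_T hθ', sub_self]
  have hz : ∀ ξ : Cfsg.IrrCharacter (stabilizer G a),
      ξ ∈ setT (H.subgroupOf (stabilizer G a)) Z →
      Cfsg.classInner (fun _ : stabilizer G a => (1 : ℂ)) (ξ : stabilizer G a → ℂ) = 0 := by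
    intro ξ hξ
    refine CharBasic.classInner_irr_of_ne CharBasic.isIrrCharacter_one ξ.2 fun h =>
      (mem_setT.1 hξ).2 ?_
    rw [← h]
    exact fun _ _ => rfl
  have e1 : Cfsg.classInner (fun g : stabilizer G a => (χ : G → ℂ) g) φ =
      v * Cfsg.classInner (fun _ : stabilizer G a => (1 : ℂ)) φ := by
    simp only [CharBasic.classInner_def, Finset.mul_sum]
    refine Finset.sum_congr rfl fun g _ => ?_
    by_cases hgH : (g : G) ∈ H
    · rcases eq_or_ne g 1 with rfl | hg1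
      · simp [h1]
      · rw [hv _ hgH (fun h => hg1 (Subtype.ext h))]; ring
    · have : φ g = 0 := by
        simp only [φ, Pi.sub_apply]
        rw [D.vanish_T hθ g (fun h => hgH h), D.vanish_T hθ' g (fun h => hgH h), sub_zero]
      rw [this]; simp
  simp only [φ, CharBasic.classInner_sub_right, hz θ hθ, hz θ' hθ', sub_zero, mul_zero] at e1
  change mult _ θ - mult _ θ' = 0 at e1
  rw [nm_spec, nm_spec, sub_eq_zero, Nat.cast_inj] at e1
  exact e1

/-- A single multiplicity against the norm of `f ∑ ψ - t Θ`. -/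
theorem gamma_bound (hH : IsKer a H) (hZ : Cfsg.IsZassenhausGroup G Ω)
    (D : Data (H.subgroupOf (stabilizer G a)) Z h e z) {t : ℕ}
    (ht : (setT (H.subgroupOf (stabilizer G a)) Z).card = t)
    {Θ : Cfsg.IrrCharacter (stabilizer G a)} (hΘ : Θ ∈ setB Z) {f : ℕ} (hf : deg Θ = e * f)
    (χ : Cfsg.IrrCharacter G) :
    ((f : ℤ) * svalT H Z χ - t * nm χ Θ) ^ 2 ≤ (f : ℤ) ^ 2 * t + (t : ℤ) ^ 2 := by
  classical
  set T := setT (H.subgroupOf (stabilizer G a)) Z
  let Γ : stabilizer G a → ℂ :=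
    (f : ℂ) • (∑ θ ∈ T, (θ : stabilizer G a → ℂ)) - (t : ℂ) • (Θ : stabilizer G a → ℂ)
  have hΘT : Θ ∉ T := fun h => mem_setB.1 hΘ (mem_setT.1 h).1
  have hcl : Cfsg.IsClassFunction (stabilizer G a) Γ := fun g x => by
    simp only [Γ, Pi.sub_apply, Pi.smul_apply, Finset.sum_apply]
    rw [CharBasic.IsIrr.isClassFunction Θ.2 g x,
      Finset.sum_congr rfl fun θ _ => CharBasic.IsIrr.isClassFunction θ.2 g x]
  have hv : ∀ g : stabilizer G a, (g : G) ∉ H → Γ g = 0 := fun g hg => by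
    simp only [Γ, Pi.sub_apply, Pi.smul_apply, Finset.sum_apply]
    rw [(D.deg_B hΘ).1 g (fun h => hg h),
      Finset.sum_eq_zero fun θ hθ => D.vanish_T hθ g (fun h => hg h)]
    simp
  have h1 : Γ 1 = 0 := by
    simp only [Γ, Pi.sub_apply, Pi.smul_apply, Finset.sum_apply, smul_eq_mul]
    rw [(deg_spec Θ).1, hf, Finset.sum_congr rfl (g := fun _ => (e : ℂ)) (fun θ hθ => by
      rw [(deg_spec θ).1, D.deg_T hθ]), Finset.sum_const, ht, nsmul_eq_mul]
    push_cast; ring
  have hg : ∀ r : stabilizer G a → ℂ, Cfsg.classInner r Γ =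
      (f : ℂ) * (∑ θ ∈ T, mult r θ) - (t : ℂ) * mult r Θ := fun r => by
    simp only [Γ, CharBasic.classInner_sub_right, CharBasic.classInner_smul_right, map_natCast,
      CharBasic.classInner_sum_right, mult]
  have hgχ : ∀ χ : Cfsg.IrrCharacter G,
      Cfsg.classInner (fun g : stabilizer G a => (χ : G → ℂ) g) Γ =
        (((f : ℤ) * svalT H Z χ - t * nm χ Θ : ℤ) : ℂ) := fun χ => by
    rw [hg, nm_spec, svalT]
    simp only [nm_spec]
    push_cast; rfl
  have hΓ : Cfsg.classInner Γ Γ = (((f : ℤ) ^ 2 * t + (t : ℤ) ^ 2 : ℤ) : ℂ) := by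
    have hT : ∀ θ' ∈ T, Cfsg.classInner (θ' : stabilizer G a → ℂ) Γ = (f : ℂ) := fun θ' hθ' => by
      rw [hg]
      simp only [mult, CharBasic.classInner_irrCharacter]
      rw [Finset.sum_ite_eq, if_pos hθ', if_neg fun h0 : θ' = Θ => hΘT (h0 ▸ hθ')]
      ring
    have hB : Cfsg.classInner (Θ : stabilizer G a → ℂ) Γ = -(t : ℂ) := by
      rw [hg]
      simp only [mult, CharBasic.classInner_irrCharacter]
      rw [Finset.sum_ite_eq, if_neg hΘT]
      simp
    show Cfsg.classInner ((f : ℂ) • (∑ θ ∈ T, (θ : stabilizer G a → ℂ)) -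
      (t : ℂ) • (Θ : stabilizer G a → ℂ)) Γ = _
    rw [CharBasic.classInner_sub_left, CharBasic.classInner_smul_left,
      CharBasic.classInner_smul_left, CharBasic.classInner_sum_left, hB,
      Finset.sum_congr rfl hT, Finset.sum_const, ht, nsmul_eq_mul]
    push_cast; ring
  have hp := parseval hH hZ Γ Γ hcl hv h1
  simp only [hgχ, map_intCast, hΓ, ← Int.cast_mul, ← Int.cast_sum, Int.cast_inj] at hp
  rw [← hp]
  simp only [← pow_two]
  exact Finset.single_le_sum (f := fun χ => ((f : ℤ) * svalT H Z χ - t * nm χ Θ) ^ 2)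
    (fun _ _ => sq_nonneg _) (Finset.mem_univ χ)

theorem quarter {f t y : ℕ} (hf : 3 ≤ f) (ht : 2 ≤ t)
    (h : ((f : ℤ) * t - t * y) ^ 2 ≤ (f : ℤ) ^ 2 * t + (t : ℤ) ^ 2) : f ≤ 4 * y := by
  by_contra hlt
  have hy : 4 * (y : ℤ) + 1 ≤ f := by omega
  have hfz : (3 : ℤ) ≤ f := by omega
  have htz : (2 : ℤ) ≤ t := by omega
  have h3 : 3 * (f : ℤ) + 1 ≤ 4 * ((f : ℤ) - y) := by linarith
  have h4 : (3 * (f : ℤ) + 1) ^ 2 ≤ (4 * ((f : ℤ) - y)) ^ 2 := pow_le_pow_left₀ (by linarith) h3 2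
  have h5 : (t : ℤ) * (t * (3 * (f : ℤ) + 1) ^ 2) ≤ t * (16 * ((f : ℤ) ^ 2 + t)) := by
    nlinarith [mul_le_mul_of_nonneg_left h4 (sq_nonneg (t : ℤ))]
  have h6 := le_of_mul_le_mul_left h5 (by linarith)
  nlinarith [mul_le_mul_of_nonneg_right htz (sq_nonneg (f : ℤ))]

open Classical in
/-- No non-abelian kernel of odd prime power order. -/
theorem odd_false (hH : IsKer a H) (hZ : Cfsg.IsZassenhausGroup G Ω) (hab : a ≠ b)
    (hcyc : IsCyclic ↥(stabilizer G a ⊓ stabilizer G b))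
    (hodde : Odd (Nat.card ↥(stabilizer G a ⊓ stabilizer G b))) (hinv : Inverted G a b)
    (hodd : Odd (Nat.card H)) {p : ℕ} (hp : p.Prime) (hpH : IsPGroup p H)
    (hna : ∃ u ∈ H, ∃ v ∈ H, u * v ≠ v * u) : False := by
  obtain ⟨Z, z, t, D, ht, ht2, hze, hh, hnlin⟩ := exists_data hH hZ hab hodde hodd hna
  have := Fact.mk hp
  set e := Nat.card ↥(stabilizer G a ⊓ stabilizer G b) with he
  set h := Nat.card H with hhdef
  set T := setT (H.subgroupOf (stabilizer G a)) Z with hT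
  have hz0 : 0 < z := by omega
  have he2 : 2 ≤ e := (Subgroup.one_lt_card_iff_ne_bot _).2 (two_pt_ne_bot hZ hab)
  have hhe : ((h * e : ℕ) : ℂ) ≠ 0 := by
    have : 0 < h := by rw [hh]; positivity
    exact Nat.cast_ne_zero.2 (by positivity)
  have hze' : ((z * e : ℕ) : ℂ) ≠ 0 := Nat.cast_ne_zero.2 (by positivity)
  have hIA := inner_alpha D ht hh
  -- square roots
  have hroot : ∑ χ : Cfsg.IrrCharacter G, nu χ * alphaT H Z χ = t ∧
      ∑ χ : Cfsg.IrrCharacter G, nu χ * bval (a := a) H χ = e + 1 := by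
    have hRv : ∀ M : Subgroup (stabilizer G a), M ≤ H.subgroupOf (stabilizer G a) →
        ∑ χ : Cfsg.IrrCharacter G, (nu χ : ℂ) * subSum M (fun g : stabilizer G a => (χ : G → ℂ) g)
          = (e : ℂ) * h + 1 + ((Nat.card M : ℂ) - 1) := by
      intro M hM
      have := Fintype.ofFinite M
      have e1 : ∑ χ : Cfsg.IrrCharacter G,
          (nu χ : ℂ) * subSum M (fun g : stabilizer G a => (χ : G → ℂ) g) =
          subSum M (fun g : stabilizer G a => (rootCount (g : G) : ℂ)) := by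
        simp only [subSum_eq, Finset.mul_sum]
        rw [Finset.sum_comm]
        exact Finset.sum_congr rfl fun m _ => (rootCount_eq _).symm
      rw [e1, subSum_const M (v := 1) (fun m hm hm1 => by
        rw [rootCount_ker hH hZ hodd (show (m : G) ∈ H from hM hm) (fun h => hm1 (Subtype.ext h)),
          Nat.cast_one])]
      rw [OneMemClass.coe_one, rootCount_one hH hZ hab hodde hinv hodd, mul_one]
      push_cast; rfl
    constructor
    · have h1 : ∑ χ : Cfsg.IrrCharacter G, (nu χ : ℂ) * (((z * e : ℕ) : ℂ) * alphaT H Z χ) =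
          ((z * e : ℕ) : ℂ) * (t : ℂ) := by
        rw [Finset.sum_congr rfl fun χ _ => by rw [← hIA χ, D.inner_phi, mul_sub],
          Finset.sum_sub_distrib, hRv _ le_rfl, hRv _ D.le, D.cardK, D.cardZ, hh]
        push_cast; ring
      simp only [mul_left_comm (_ : ℂ) ((z * e : ℕ) : ℂ), ← Finset.mul_sum] at h1
      exact_mod_cast mul_left_cancel₀ hze' h1
    · have h1 := hRv _ (le_refl (H.subgroupOf (stabilizer G a)))
      rw [D.cardK, Finset.sum_congr rfl (g := fun χ =>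
        (h : ℂ) * ((nu χ * bval (a := a) H χ : ℤ) : ℂ)) (fun χ _ => by
          rw [(D.expansions (res_class χ) (nm χ) (nm_spec χ)).2.1, bval]; push_cast; ring),
        ← Finset.mul_sum, ← Int.cast_sum] at h1
      have h2 : ((h : ℤ) * ∑ χ : Cfsg.IrrCharacter G, nu χ * bval (a := a) H χ : ℤ) =
          (h : ℤ) * ((e : ℤ) + 1) := by
        have h1' : (((h : ℤ) * ∑ χ : Cfsg.IrrCharacter G, nu χ * bval (a := a) H χ : ℤ) : ℂ) =
            (((h : ℤ) * ((e : ℤ) + 1) : ℤ) : ℂ) := by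
          rw [Int.cast_mul, Int.cast_natCast, h1]; push_cast; ring
        exact_mod_cast h1'
      exact mul_left_cancel₀ (by
        have : 0 < h := Nat.card_pos
        omega) h2
  -- Parseval for the indicator
  have hsq : ∑ χ : Cfsg.IrrCharacter G, alphaT H Z χ ^ 2 = (t : ℤ) * (t * e + 1) := by
    have h1 := parseval hH hZ (phi (H.subgroupOf (stabilizer G a)) Z) _ D.phi_class
      (fun g hg => phi_vanish.1 g hg) phi_vanish.2
    have h2 : ∀ χ : Cfsg.IrrCharacter G, Cfsg.classInner (fun g : stabilizer G a => (χ : G → ℂ) g)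
        (phi (H.subgroupOf (stabilizer G a)) Z) =
        ((z * e : ℕ) : ℂ) / ((h * e : ℕ) : ℂ) * (alphaT H Z χ : ℂ) := fun χ => by
      rw [div_mul_eq_mul_div, eq_div_iff hhe, mul_comm, hIA]
    simp only [h2, map_mul, map_div₀, map_natCast, map_intCast] at h1
    have h3 := congrArg (fun x => ((h * e : ℕ) : ℂ) * (((h * e : ℕ) : ℂ) * x)) h1
    simp only [D.phi_self, Finset.mul_sum] at h3
    have hhC : (h : ℂ) ≠ 0 := Nat.cast_ne_zero.2 (Nat.card_pos (α := H)).ne'
    have heC : (e : ℂ) ≠ 0 := Nat.cast_ne_zero.2 (by omega)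
    rw [Finset.sum_congr rfl (g := fun χ => ((z * e : ℕ) : ℂ) ^ 2 * ((alphaT H Z χ ^ 2 : ℤ) : ℂ))
      (fun χ _ => by push_cast; field_simp), ← Finset.mul_sum, ← Int.cast_sum] at h3
    have h4 : ((z * e : ℕ) : ℂ) ^ 2 * ((∑ χ : Cfsg.IrrCharacter G, alphaT H Z χ ^ 2 : ℤ) : ℂ) =
        ((z * e : ℕ) : ℂ) ^ 2 * (((t : ℤ) * (t * e + 1) : ℤ) : ℂ) := by
      rw [h3, hh]; push_cast; ring
    exact_mod_cast mul_left_cancel₀ (pow_ne_zero 2 hze') h4
  -- the weight
  let g : Cfsg.IrrCharacter G → ℤ := fun χ =>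
    alphaT H Z χ ^ 2 - t * (nu χ * svalT H Z χ)
  have hsval : ∀ χ, (svalT H Z χ : ℤ) = t * bval (a := a) H χ - alphaT H Z χ := fun χ => by
    rw [alphaT, ← hT, ht]; ring
  have hgsum : ∑ χ, g χ = t := by
    simp only [g, hsval]
    have e1 : ∑ χ, nu χ * ((t : ℤ) * bval (a := a) H χ - alphaT H Z χ) =
        (t : ℤ) * ∑ χ, nu χ * bval (a := a) H χ - ∑ χ, nu χ * alphaT H Z χ := by
      rw [Finset.mul_sum, ← Finset.sum_sub_distrib]
      exact Finset.sum_congr rfl fun χ _ => by ring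
    rw [Finset.sum_sub_distrib, ← Finset.mul_sum, e1, hroot.1, hroot.2, hsq]
    ring
  have hh2 : 2 ≤ Nat.card Ω := by have := H33.zas_three_le_card hZ; omega
  have htr : IsPretransitive G Ω := isPretransitive_of_is_two_pretransitive (h2 := hZ.2.1)
  let St : Cfsg.IrrCharacter G := ⟨_, (S0157.result (G := G) Ω hh2).2 hZ.2.1⟩
  have hh0 : (h : ℤ) ≠ 0 := by have : 0 < h := Nat.card_pos; omega
  -- trivial character
  have h1v := const_vals D ht hh (triv1 G) (v := 1) (fun _ _ _ => by simp [triv1])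
  have htriv : alphaT H Z (triv1 G) = t ∧ svalT H Z (triv1 G) = 0 := by
    have hd1 : deg (triv1 G) = 1 := by
      have h := (deg_spec (triv1 G)).1
      exact_mod_cast h.symm.trans (show ((triv1 G : G → ℂ) 1) = ((1 : ℕ) : ℂ) from Nat.cast_one.symm)
    have hb1 : (bval (a := a) H (triv1 G) : ℤ) = 1 :=
      mul_left_cancel₀ hh0 (h1v.2.trans (by rw [hd1]; push_cast; ring))
    refine ⟨by rw [h1v.1, mul_one], ?_⟩
    have := hsval (triv1 G)
    rw [hb1, h1v.1] at this
    simpa using this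
  -- permutation character
  have hStv : ∀ u ∈ H, u ≠ 1 → (St : G → ℂ) u = ((0 : ℤ) : ℂ) := fun u hu hu1 => by
    have hfix : fixedBy Ω u = {a} := Set.eq_singleton_iff_unique_mem.2
      ⟨hH.le hu, fun c hc => hH.fix u hu hu1 c hc⟩
    show (Nat.card (fixedBy Ω u) : ℂ) - 1 = _
    rw [hfix]; simp
  have hStd : deg St = h := by
    have h1 := (deg_spec St).1
    rw [show (St : G → ℂ) 1 = (Nat.card (fixedBy Ω (1 : G)) : ℂ) - 1 from rfl,
      show fixedBy Ω (1 : G) = Set.univ from Set.eq_univ_of_forall fun x => one_smul G x,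
      Nat.card_coe_set_eq, Set.ncard_univ, ← hH.card] at h1
    have : ((deg St : ℕ) : ℂ) = (h : ℂ) := by rw [← h1]; push_cast; ring
    exact_mod_cast this
  have hSt : alphaT H Z St = 0 ∧ (svalT H Z St : ℤ) = t := by
    obtain ⟨h1, h2⟩ := const_vals D ht hh St hStv
    have hb1 : (bval (a := a) H St : ℤ) = 1 :=
      mul_left_cancel₀ hh0 (h2.trans (by rw [hStd]; push_cast; ring))
    refine ⟨by rw [h1, mul_zero], ?_⟩
    rw [hsval, hb1, h1]; ring
  have hne1St : triv1 G ≠ St := fun h0 => by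
    have := htriv.1
    rw [h0, hSt.1] at this
    omega
  -- the other characters
  have hcases : ∀ χ, χ ≠ triv1 G → χ ≠ St →
      ((∃ v : ℂ, ∀ u ∈ H, u ≠ 1 → (χ : G → ℂ) u = v) ∧ alphaT H Z χ = t ∧
        (svalT H Z χ : ℤ) = t ∧ ∀ x : G, (∀ c : Ω, x • c ≠ c) → (χ : G → ℂ) x = 0) ∨
      (bval (a := a) H χ = 0 ∧ alphaT H Z χ = -(svalT H Z χ : ℤ)) := by
    intro χ h1 h2
    by_cases hb : bval (a := a) H χ = 0
    · exact Or.inr ⟨hb, by rw [alphaT, hb]; simp⟩
    · rcases kinds hH hZ hab hcyc hodde hinv χ hb with hk | hk | ⟨hk1, hk2, hk3⟩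
      · exact absurd hk h1
      · exact absurd (Subtype.ext (funext hk)) h2
      · obtain ⟨hα, hb'⟩ := const_vals D ht hh χ (v := 1) (fun u hu hu1 => by
          rw [hk1 u hu hu1, Int.cast_one])
        have hb2 : (bval (a := a) H χ : ℤ) = 2 :=
          mul_left_cancel₀ hh0 (hb'.trans (by rw [hk2]; push_cast; ring))
        refine Or.inl ⟨⟨1, hk1⟩, by rw [hα, mul_one], ?_, hk3⟩
        rw [hsval, hb2, hα]; ring
  -- exceptional family
  obtain ⟨μ, ε, X⟩ := exists_exc hH hZ D (by rw [← hT, ht]; exact ht2)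
  let fam := T.image μ
  have hfamcard : fam.card = t := by rw [Finset.card_image_of_injOn X.inj, ht]
  have hε : ε ≠ 0 := fun h0 => by simpa [h0] using X.sign
  have hother : ∀ ψ ∈ T, ∃ ψ' ∈ T, ψ' ≠ ψ := fun ψ _ =>
    Finset.exists_mem_ne (by rw [ht]; omega) ψ
  have hfam : ∀ χ ∈ fam, χ ≠ triv1 G ∧ χ ≠ St ∧ bval (a := a) H χ = 0 ∧
      alphaT H Z χ = -(svalT H Z χ : ℤ) ∧ nu χ = 0 ∧ (svalT H Z χ : ℤ) ≠ 0 := by
    intro χ hχ
    obtain ⟨ψ, hψ, rfl⟩ := Finset.mem_image.1 hχ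
    obtain ⟨ψ', hψ', hne⟩ := hother ψ hψ
    have hμne : μ ψ ≠ μ ψ' := fun h0 => hne (X.inj hψ hψ' h0).symm
    have hleft : ∀ θ ∈ T, θ ≠ ψ → (nm (μ ψ) ψ : ℤ) - nm (μ ψ) θ = ε := fun θ hθ hθne => by
      have h0 := X.left (μ ψ) ψ θ hψ hθ
      rw [if_pos rfl, if_neg (fun h => hθne (X.inj hψ hθ h).symm)] at h0
      linarith
    have hnc : ∀ v : ℂ, ¬ ∀ u ∈ H, u ≠ 1 → (μ ψ : G → ℂ) u = v := fun v hv => by
      have h0 := hleft ψ' hψ' hne
      rw [const_nm D (μ ψ) hv hψ hψ', sub_self] at h0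
      exact hε h0.symm
    have hn1 : μ ψ ≠ triv1 G := fun h0 => hnc 1 fun u _ _ => by rw [h0]; rfl
    have hnS : μ ψ ≠ St := fun h0 => hnc _ fun u hu hu1 => by rw [h0]; exact hStv u hu hu1
    obtain ⟨hb, hα⟩ : bval (a := a) H (μ ψ) = 0 ∧ alphaT H Z (μ ψ) = -(svalT H Z (μ ψ) : ℤ) :=
      (hcases _ hn1 hnS).resolve_left fun ⟨⟨v, hv⟩, _⟩ => hnc v hv
    refine ⟨hn1, hnS, hb, hα, ?_, ?_⟩
    · by_contra hν
      have hreal := (nu_spec (μ ψ)).2.2.2 hν
      let ψb : Cfsg.IrrCharacter (stabilizer G a) := ⟨_, CharInduce.IsIrr.conj ψ.2⟩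
      have hψbv : ∀ g, (ψb : stabilizer G a → ℂ) g = conj ((ψ : stabilizer G a → ℂ) g) :=
        fun g => rfl
      obtain ⟨hψZ, hψK⟩ := mem_setT.1 hψ
      have hψb : ψb ∈ T := mem_setT.2 ⟨fun m hm => by rw [hψbv, hψbv, hψZ m hm],
        fun hK => hψK fun m hm => (starRingEnd ℂ).injective (hK m hm)⟩
      have hψne : ψb ≠ ψ := fun h0 => by
        have hreal' : ∀ g, ((ψ : stabilizer G a → ℂ) g).im = 0 := fun g =>
          Complex.conj_eq_iff_im.1 (by rw [← hψbv, h0])
        have hoddN : Odd (Nat.card (stabilizer G a)) := by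
          rw [D.card_eq]; exact hodd.mul hodde
        refine hψK fun m _ => ?_
        rw [S0161.result hoddN ψ hreal']
      have h0 := hleft ψb hψb hψne
      rw [nm_conj (μ ψ) hreal ψ ψb hψbv, sub_self] at h0
      exact hε h0.symm
    · intro h0
      rw [svalT, Nat.cast_eq_zero, Finset.sum_eq_zero_iff] at h0
      have := hleft ψ' hψ' hne
      rw [h0 ψ hψ, h0 ψ' hψ', sub_self] at this
      exact hε this.symm
  have hg0 : ∀ χ, χ ≠ triv1 G → χ ≠ St → χ ∉ fam → 0 ≤ g χ ∧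
      (g χ = 0 → alphaT H Z χ = 0 ∨ (∀ x : G, (∀ c : Ω, x • c ≠ c) → (χ : G → ℂ) x = 0) ∨
        (bval (a := a) H χ = 0 ∧ svalT H Z χ = t ∧ alphaT H Z χ = -(t : ℤ))) := by
    intro χ h1 h2 hf
    obtain ⟨-, hlo, hhi, -⟩ := nu_spec χ
    rcases hcases χ h1 h2 with ⟨-, hα, hS, hfree⟩ | ⟨hb, hα⟩
    · simp only [g, hα, hS]
      exact ⟨by nlinarith, fun _ => Or.inr (Or.inl hfree)⟩
    · obtain ⟨ψ₀, hψ₀⟩ : T.Nonempty := Finset.card_pos.1 (by omega)
      have hS : svalT H Z χ = t * nm χ ψ₀ := by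
        rw [svalT, Finset.sum_congr rfl (g := fun _ => nm χ ψ₀), Finset.sum_const, ← hT, ht,
          smul_eq_mul]
        intro θ hθ
        have h0 := X.left χ θ ψ₀ hθ hψ₀
        rw [if_neg (fun h => hf (by rw [h]; exact Finset.mem_image_of_mem μ hθ)),
          if_neg (fun h => hf (by rw [h]; exact Finset.mem_image_of_mem μ hψ₀))] at h0
        omega
      have hgval : g χ = (t : ℤ) ^ 2 * ((nm χ ψ₀ : ℤ) ^ 2 - nu χ * nm χ ψ₀) := by
        simp only [g, hα, hS]; push_cast; ring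
      rcases Nat.eq_zero_or_pos (nm χ ψ₀) with hc | hc
      · refine ⟨by rw [hgval, hc]; simp, fun _ => Or.inl ?_⟩
        rw [hα, hS, hc]; simp
      · have hc' : (1 : ℤ) ≤ nm χ ψ₀ := by omega
        refine ⟨by
          rw [hgval]
          refine mul_nonneg (sq_nonneg _) ?_
          have h5 := mul_le_mul_of_nonneg_right hhi (by omega : (0 : ℤ) ≤ nm χ ψ₀)
          nlinarith, fun h0 => Or.inr (Or.inr ⟨hb, ?_⟩)⟩
        rw [hgval, mul_eq_zero, or_iff_right (pow_ne_zero 2 (by omega))] at h0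
        have h3 : ((nm χ ψ₀ : ℤ) - nu χ) * nm χ ψ₀ = 0 := by linear_combination h0
        rcases mul_eq_zero.1 h3 with h4 | h4
        · have hc1 : nm χ ψ₀ = 1 := by omega
          rw [hα, hS, hc1, mul_one]
          exact ⟨rfl, rfl⟩
        · omega
  -- equality everywhere
  have hsplit : ∀ F : Cfsg.IrrCharacter G → ℝ, ∑ χ, F χ = F (triv1 G) + F St +
      (∑ χ ∈ fam, F χ + ∑ χ ∈ ((univ.erase (triv1 G)).erase St) \ fam, F χ) := by
    intro F
    have hsub : fam ⊆ (univ.erase (triv1 G)).erase St := fun χ hχ =>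
      Finset.mem_erase.2 ⟨(hfam χ hχ).2.1, Finset.mem_erase.2 ⟨(hfam χ hχ).1, Finset.mem_univ χ⟩⟩
    rw [add_comm (∑ χ ∈ fam, F χ), Finset.sum_sdiff hsub, add_assoc,
      Finset.add_sum_erase _ _ (Finset.mem_erase.2 ⟨hne1St.symm, Finset.mem_univ _⟩),
      Finset.add_sum_erase _ _ (Finset.mem_univ _)]
  set R := ((univ.erase (triv1 G)).erase St) \ fam with hR
  have hmemR : ∀ χ ∈ R, χ ≠ triv1 G ∧ χ ≠ St ∧ χ ∉ fam := fun χ hχ => by
    simp only [hR, Finset.mem_sdiff, Finset.mem_erase] at hχ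
    exact ⟨hχ.1.2.1, hχ.1.1, hχ.2⟩
  have heq : (∀ χ ∈ fam, svalT H Z χ = 1) ∧ ∀ χ ∈ R, g χ = 0 := by
    have h1 := hsplit (fun χ => (g χ : ℝ))
    rw [← Int.cast_sum, hgsum] at h1
    have h2 : g (triv1 G) + g St + (∑ χ ∈ fam, g χ + ∑ χ ∈ R, g χ) = t := by
      exact_mod_cast h1.symm
    have h3 : 0 ≤ g (triv1 G) + g St := by
      simp only [g, htriv.1, htriv.2, hSt.1, hSt.2]
      have := (nu_spec St).2.2.1
      push_cast
      nlinarith
    have hgf : ∀ χ ∈ fam, g χ = (svalT H Z χ : ℤ) ^ 2 ∧ 1 ≤ g χ := fun χ hχ => by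
      obtain ⟨-, -, -, hα, hν, hS⟩ := hfam χ hχ
      have hg1 : g χ = (svalT H Z χ : ℤ) ^ 2 := by simp only [g, hα, hν]; ring
      exact ⟨hg1, by rw [hg1]; exact Int.add_one_le_iff.2 (lt_of_le_of_ne (sq_nonneg _) (pow_ne_zero 2 hS).symm)⟩
    have h4 : (t : ℤ) ≤ ∑ χ ∈ fam, g χ := by
      calc (t : ℤ) = ∑ χ ∈ fam, 1 := by rw [Finset.sum_const, hfamcard]; simp
        _ ≤ _ := Finset.sum_le_sum fun χ hχ => (hgf χ hχ).2
    have h5 : 0 ≤ ∑ χ ∈ R, g χ := Finset.sum_nonneg fun χ hχ =>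
      (hg0 χ (hmemR χ hχ).1 (hmemR χ hχ).2.1 (hmemR χ hχ).2.2).1
    refine ⟨fun χ hχ => ?_, (Finset.sum_eq_zero_iff_of_nonneg fun χ hχ =>
      (hg0 χ (hmemR χ hχ).1 (hmemR χ hχ).2.1 (hmemR χ hχ).2.2).1).1 (by linarith)⟩
    have h6 : ∑ χ ∈ fam, (g χ - 1) = 0 := by
      rw [Finset.sum_sub_distrib, Finset.sum_const, hfamcard]; simp; linarith
    have h7 := (Finset.sum_eq_zero_iff_of_nonneg fun χ hχ => by
      have := (hgf χ hχ).2; linarith).1 h6 χ hχ
    rw [(hgf χ hχ).1] at h7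
    have h8 : svalT H Z χ ^ 2 = 1 := by
      have : ((svalT H Z χ ^ 2 : ℕ) : ℤ) = 1 := by push_cast; linarith
      exact_mod_cast this
    exact (pow_eq_one_iff.1 h8).resolve_right two_ne_zero
  -- an involution
  have hinvpos : 0 < Nat.card {x : G // orderOf x = 2} := by
    rw [invol_count hZ hab hodde hinv h hH.card.symm, if_neg (Nat.not_even_iff_odd.2 hodd)]
    have : 0 < h := Nat.card_pos
    positivity
  obtain ⟨⟨x, hx⟩⟩ := (Nat.card_pos_iff.1 hinvpos).1
  have hfree := fun (y : G) (hy : orderOf y = 2) => invol_free hH hZ hab hodde hodd hy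
  choose v hv using fun χ : Cfsg.IrrCharacter G => exists_int_invol χ.2 hx
  have hlin : ∑ χ, (alphaT H Z χ : ℝ) * v χ = 0 := by
    have h1 := sum_inner_apply (phi (H.subgroupOf (stabilizer G a)) Z) (hfree x hx)
    have h2 := congrArg (fun x => ((h * e : ℕ) : ℂ) * x) h1
    simp only [Finset.mul_sum, mul_zero] at h2
    rw [Finset.sum_congr rfl (g := fun χ =>
      ((z * e : ℕ) : ℂ) * ((alphaT H Z χ * v χ : ℤ) : ℂ)) (fun χ _ => by
        have h3 := congrArg (starRingEnd ℂ) (hIA χ)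
        simp only [map_mul, map_natCast, map_intCast] at h3
        rw [← mul_assoc, h3, hv]; push_cast; ring), ← Finset.mul_sum, ← Int.cast_sum] at h2
    have h3 := Int.cast_eq_zero.1 ((mul_eq_zero.1 h2).resolve_left hze')
    have h4 := congrArg (fun k : ℤ => (k : ℝ)) h3
    push_cast at h4
    exact h4
  have hquad : ∑ χ, (alphaT H Z χ : ℝ) * ((v χ : ℝ) ^ 2 / deg χ) = 0 := by
    have h1 := sum_pairs hH hfree (phi (H.subgroupOf (stabilizer G a)) Z)
      (fun g hg => phi_vanish.1 g hg) phi_vanish.2 hx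
    have h2 := congrArg (fun x => ((h * e : ℕ) : ℂ) * x) h1
    simp only [Finset.mul_sum, mul_zero] at h2
    rw [Finset.sum_congr rfl (g := fun χ => ((z * e : ℕ) : ℂ) *
      (((alphaT H Z χ : ℝ) * ((v χ : ℝ) ^ 2 / deg χ) : ℝ) : ℂ)) (fun χ _ => by
        rw [← mul_assoc, hIA, hv, (deg_spec χ).1]; push_cast; ring), ← Finset.mul_sum,
      ← Complex.ofReal_sum] at h2
    exact Complex.ofReal_eq_zero.1 ((mul_eq_zero.1 h2).resolve_left hze')
  have hv1 : v (triv1 G) = 1 := by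
    have h1 : ((v (triv1 G) : ℤ) : ℂ) = ((1 : ℤ) : ℂ) := by rw [← hv, Int.cast_one]; rfl
    exact Int.cast_injective h1
  have hd1 : (deg (triv1 G) : ℝ) = 1 := by
    have h1 : ((deg (triv1 G) : ℕ) : ℂ) = ((1 : ℕ) : ℂ) := by
      rw [← (deg_spec (triv1 G)).1, Nat.cast_one]; rfl
    rw [Nat.cast_inj] at h1
    rw [h1, Nat.cast_one]
  have hαfam : ∀ χ ∈ fam, (alphaT H Z χ : ℝ) = -1 := fun χ hχ => by
    rw [(hfam χ hχ).2.2.2.1, heq.1 χ hχ]; simp
  have hdeg : ∀ χ, deg χ = bval (a := a) H χ + e * svalT H Z χ +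
      ∑ θ ∈ setB Z, nm χ θ * deg θ := fun χ => by
    have h1 := (D.expansions (res_class χ) (nm χ) (nm_spec χ)).1
    simp only [OneMemClass.coe_one] at h1
    rw [(deg_spec χ).1, Nat.cast_inj] at h1
    exact h1
  -- terms outside the family
  have hbig : ∀ χ ∈ R, (alphaT H Z χ : ℝ) * v χ = 0 := by
    intro χ hχ
    obtain ⟨hn1, hnS, hnf⟩ := hmemR χ hχ
    rcases (hg0 χ hn1 hnS hnf).2 (heq.2 χ hχ) with h1 | h1 | ⟨hb, hS, hα⟩
    · rw [h1, Int.cast_zero, zero_mul]
    · have h2 := h1 x (hfree x hx)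
      rw [hv, Int.cast_eq_zero] at h2
      rw [h2, Int.cast_zero, mul_zero]
    by_contra hne
    have hvne : v χ ≠ 0 := fun h0 => hne (by rw [h0, Int.cast_zero, mul_zero])
    -- the weight is at most one
    have hw : (v χ : ℝ) ^ 2 / deg χ ≤ 1 := by
      have h1 := hsplit (fun χ => (alphaT H Z χ : ℝ) * ((v χ : ℝ) ^ 2 / deg χ))
      rw [hquad, htriv.1, hSt.1, hv1, hd1] at h1
      have hneg : ∀ χ ∈ R, 0 ≤ -((alphaT H Z χ : ℝ) * ((v χ : ℝ) ^ 2 / deg χ)) := by
        intro ξ hξ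
        have hw0 : (0 : ℝ) ≤ (v ξ : ℝ) ^ 2 / deg ξ := by positivity
        rcases (hg0 ξ (hmemR ξ hξ).1 (hmemR ξ hξ).2.1 (hmemR ξ hξ).2.2).2 (heq.2 ξ hξ) with
          h2 | h2 | ⟨-, -, h2⟩
        · rw [h2]; simp
        · have h3 := h2 x (hfree x hx)
          rw [hv, Int.cast_eq_zero] at h3
          rw [h3]; simp
        · rw [h2]
          have : (0 : ℝ) ≤ (t : ℝ) * ((v ξ : ℝ) ^ 2 / deg ξ) := by positivity
          push_cast
          linarith
      have h3 := Finset.single_le_sum hneg hχ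
      rw [Finset.sum_neg_distrib, hα] at h3
      have h4 : 0 ≤ -∑ ξ ∈ fam, (alphaT H Z ξ : ℝ) * ((v ξ : ℝ) ^ 2 / deg ξ) := by
        rw [← Finset.sum_neg_distrib]
        refine Finset.sum_nonneg fun ξ hξ => ?_
        have : (0 : ℝ) ≤ (v ξ : ℝ) ^ 2 / deg ξ := by positivity
        rw [hαfam ξ hξ]; linarith
      push_cast at h1 h3
      have htpos : (0 : ℝ) < t := by exact_mod_cast (show 0 < t by omega)
      refine le_of_mul_le_mul_left ?_ htpos
      linarith
    have hvD : (v χ) ^ 2 ≤ (deg χ : ℤ) := by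
      have hDpos : (0 : ℝ) < deg χ := by exact_mod_cast (deg_spec χ).2
      rw [div_le_one hDpos] at hw
      exact_mod_cast hw
    -- the degree
    choose! f hf using fun θ (hθ : θ ∈ setB Z) => (D.deg_B hθ).2
    have hpdvd : ∀ θ ∈ setB Z, p ∣ f θ := fun θ hθ => by
      obtain ⟨k, hk⟩ := hpH.exists_card_eq
      have hfd := (hf θ hθ).2
      rw [hhdef, hk] at hfd
      obtain ⟨j, -, hj⟩ := (Nat.dvd_prime_pow hp).1 hfd
      rcases Nat.eq_zero_or_pos j with hj0 | hj0
      · exact absurd (by rw [(hf θ hθ).1, hj, hj0, pow_zero, mul_one]) (hnlin θ hθ)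
      · rw [hj]; exact dvd_pow_self p hj0.ne'
    obtain ⟨M, hM⟩ : ∃ M, M = ∑ θ ∈ setB Z, nm χ θ * f θ := ⟨_, rfl⟩
    have hDeq : deg χ = e * (t + M) := by
      rw [hdeg, hb, hS, hM, mul_add, Finset.mul_sum, zero_add]
      congr 1
      exact Finset.sum_congr rfl fun θ hθ => by rw [(hf θ hθ).1]; ring
    have hpM : p ∣ M := hM ▸ Finset.dvd_sum fun θ hθ => (hpdvd θ hθ).mul_left _
    obtain ⟨k, hk⟩ := hpH.exists_card_eq
    have hpt : ¬ p ∣ t := fun hd => by
      have h1 : (1 + t * e) ∣ p ^ k := ⟨z, by rw [← hk, ← hhdef, hh, mul_comm]⟩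
      obtain ⟨j, -, hj⟩ := (Nat.dvd_prime_pow hp).1 h1
      rcases Nat.eq_zero_or_pos j with hj0 | hj0
      · rw [hj0, pow_zero] at hj
        have : 0 < t * e := by positivity
        omega
      · have h2 : p ∣ 1 + t * e := hj ▸ dvd_pow_self p hj0.ne'
        exact hp.ne_one (Nat.dvd_one.1 ((Nat.dvd_add_left (hd.mul_right e)).1 h2))
    have hcop : Nat.Coprime (deg χ) h := by
      rw [hDeq]
      refine Nat.Coprime.mul_left (hH.coprime hZ hab) ?_
      rw [hhdef, hk]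
      refine Nat.Coprime.pow_right k ((Nat.Prime.coprime_iff_not_dvd hp).2 fun hd => hpt ?_).symm
      exact (Nat.dvd_add_left hpM).1 hd
    have hDdvd : (deg χ : ℤ) ∣ (e : ℤ) * v χ := by
      have hint := CharBasic.IsIrr.isIntegral_centralChar χ.2 x
      have hidx : (Subgroup.centralizer ({x} : Set G)).index = e * h := by
        rw [← CharBasic.card_conjugates_eq_index, Nat.card_congr (Equiv.subtypeEquivRight
          (q := fun y => orderOf y = 2) fun y => ?_), invol_count hZ hab hodde hinv h hH.card.symm,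
          if_neg (Nat.not_even_iff_odd.2 hodd)]
        refine ⟨fun hy => ?_, fun hy => invol_conj hZ hab hodde hinv hx hy⟩
        obtain ⟨k', rfl⟩ := isConj_iff.1 hy
        rw [← MulAut.conj_apply, MulEquiv.orderOf_eq, hx]
      rw [hidx, hv, (deg_spec χ).1] at hint
      have h1 := H83.int_dvd_of_isIntegral hint (n := (deg χ : ℤ))
        (m := ((e * h : ℕ) : ℤ) * v χ) (by have := (deg_spec χ).2; omega) (by
          have : (deg χ : ℂ) ≠ 0 := Nat.cast_ne_zero.2 (deg_spec χ).2.ne'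
          push_cast; field_simp)
      refine (Int.isCoprime_iff_gcd_eq_one.2 ?_).dvd_of_dvd_mul_left
        (z := (e : ℤ) * v χ) (y := (h : ℤ)) (by push_cast at h1; rw [mul_left_comm, ← mul_assoc]; exact h1)
      rw [Int.gcd_natCast_natCast]; exact hcop
    have hDe : deg χ ≤ e ^ 2 := by
      obtain ⟨k', hk'⟩ := hDdvd
      have hk0 : k' ≠ 0 := fun h0 => by
        rw [h0, mul_zero, mul_eq_zero] at hk'
        exact hvne (hk'.resolve_left (by omega))
      have h1 : (deg χ : ℤ) ^ 2 ≤ (e : ℤ) ^ 2 * deg χ := by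
        calc (deg χ : ℤ) ^ 2 ≤ (deg χ : ℤ) ^ 2 * k' ^ 2 :=
              le_mul_of_one_le_right (sq_nonneg _)
                (Int.add_one_le_iff.2 (lt_of_le_of_ne (sq_nonneg _) (pow_ne_zero 2 hk0).symm))
          _ = ((e : ℤ) * v χ) ^ 2 := by rw [hk']; ring
          _ = (e : ℤ) ^ 2 * v χ ^ 2 := by ring
          _ ≤ _ := mul_le_mul_of_nonneg_left hvD (sq_nonneg _)
      have h2 : (deg χ : ℤ) * deg χ ≤ deg χ * (e : ℤ) ^ 2 := by linarith
      exact_mod_cast le_of_mul_le_mul_left h2 (by exact_mod_cast (deg_spec χ).2)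
    have hlow : ∑ θ ∈ setB Z, f θ ^ 2 ≤ 4 * M := by
      rw [hM, Finset.mul_sum]
      refine Finset.sum_le_sum fun θ hθ => ?_
      have hf3 : 3 ≤ f θ := by
        have h1 : p ≤ f θ := Nat.le_of_dvd (Nat.pos_of_ne_zero fun h0 => by
          have := (deg_spec θ).2
          rw [(hf θ hθ).1, h0, mul_zero] at this
          omega) (hpdvd θ hθ)
        have hp2 : p ≠ 2 := fun h2 => by
          have : 2 ∣ h := by
            rw [hhdef, hk, h2]
            refine dvd_pow_self 2 fun hk0 => ?_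
            have := hh
            rw [hhdef, hk, hk0, pow_zero] at this
            have := Nat.eq_one_of_mul_eq_one_right this.symm
            omega
          exact Nat.not_even_iff_odd.2 hodd (even_iff_two_dvd.2 this)
        have := hp.two_le
        omega
      have h2 := gamma_bound hH hZ D ht hθ (hf θ hθ).1 χ
      rw [hS] at h2
      have h3 := quarter hf3 ht2 h2
      rw [pow_two]
      calc f θ * f θ ≤ f θ * (4 * nm χ θ) := Nat.mul_le_mul_left _ h3
        _ = _ := by ring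
    have hcount : e * ∑ θ ∈ setB Z, f θ ^ 2 + (1 + t * e) = h := by
      refine Nat.eq_of_mul_eq_mul_left (show 0 < e by omega) ?_
      have h1 := D.counts.2
      rw [← hT, ht, Finset.sum_congr rfl (g := fun θ => e * (e * f θ ^ 2))
        (fun θ hθ => by rw [(hf θ hθ).1]; ring), ← Finset.mul_sum, ← Finset.mul_sum] at h1
      rw [mul_comm e h, ← h1]; ring
    have h1 : e * ∑ θ ∈ setB Z, f θ ^ 2 ≤ e * (4 * M) := Nat.mul_le_mul_left _ hlow
    have h2 : (2 * e + 1) * (2 * e + 1) ≤ h := by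
      rw [hh]
      refine Nat.mul_le_mul hze ?_
      nlinarith
    nlinarith
  -- common value on the family
  obtain ⟨ψ₀, hψ₀⟩ : T.Nonempty := Finset.card_pos.1 (by omega)
  have hcommon : ∀ ψ ∈ T, v (μ ψ) = v (μ ψ₀) := by
    intro ψ hψ
    have h1 := sum_inner_apply ((ψ : stabilizer G a → ℂ) - (ψ₀ : stabilizer G a → ℂ)) (hfree x hx)
    rw [Finset.sum_congr rfl (g := fun χ =>
      ((ε * ((if χ = μ ψ then 1 else 0) - (if χ = μ ψ₀ then 1 else 0)) * v χ : ℤ) : ℂ))
      (fun χ _ => by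
        rw [← X.left χ ψ ψ₀ hψ hψ₀, CharBasic.classInner_sub_right]
        change conj (mult _ _ - mult _ _) * _ = _
        rw [nm_spec, nm_spec, map_sub, map_natCast, map_natCast, hv]
        push_cast; ring), ← Int.cast_sum, Int.cast_eq_zero] at h1
    simp only [mul_assoc, sub_mul, ite_mul, one_mul, zero_mul, ← Finset.mul_sum,
      Finset.sum_sub_distrib, Finset.sum_ite_eq', Finset.mem_univ, if_true, mul_eq_zero] at h1
    exact sub_eq_zero.1 (h1.resolve_left hε)
  have hdegc : ∀ ψ ∈ T, deg (μ ψ) = deg (μ ψ₀) := fun ψ hψ => X.deg ψ ψ₀ hψ hψ₀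
  have htR : (t : ℝ) ≠ 0 := by exact_mod_cast (show t ≠ 0 by omega)
  have hw1 : (v (μ ψ₀) : ℝ) = 1 := by
    have h1 := hsplit (fun χ => (alphaT H Z χ : ℝ) * v χ)
    rw [hlin, htriv.1, hSt.1, hv1, Finset.sum_eq_zero hbig, Finset.sum_congr rfl
      (g := fun _ => -(v (μ ψ₀) : ℝ)) (fun χ hχ => by
        obtain ⟨ψ, hψ, rfl⟩ := Finset.mem_image.1 hχ
        rw [hαfam _ hχ, hcommon ψ hψ]; ring), Finset.sum_const, hfamcard, nsmul_eq_mul] at h1
    push_cast at h1
    apply mul_left_cancel₀ htR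
    linarith
  have hD1 : (deg (μ ψ₀) : ℝ) = 1 := by
    have h1 := hsplit (fun χ => (alphaT H Z χ : ℝ) * ((v χ : ℝ) ^ 2 / deg χ))
    rw [hquad, htriv.1, hSt.1, hv1, hd1, Finset.sum_eq_zero (s := R) (fun χ hχ => by
      rcases mul_eq_zero.1 (hbig χ hχ) with h0 | h0 <;> rw [h0] <;> simp),
      Finset.sum_congr rfl (g := fun _ => -(1 / (deg (μ ψ₀) : ℝ))) (fun χ hχ => by
        obtain ⟨ψ, hψ, rfl⟩ := Finset.mem_image.1 hχ
        rw [hαfam _ hχ, hcommon ψ hψ, hw1, hdegc ψ hψ]; ring), Finset.sum_const, hfamcard,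
      nsmul_eq_mul] at h1
    push_cast at h1
    have h2 : 1 / (deg (μ ψ₀) : ℝ) = 1 := mul_left_cancel₀ htR (by linarith)
    simpa using h2
  have hmem : μ ψ₀ ∈ fam := Finset.mem_image_of_mem μ hψ₀
  have hdvd : e ∣ deg (μ ψ₀) := by
    rw [hdeg, (hfam _ hmem).2.2.1, zero_add]
    refine dvd_add (dvd_mul_right e _) (Finset.dvd_sum fun θ hθ => ?_)
    obtain ⟨f, hfd, -⟩ := (D.deg_B hθ).2
    rw [hfd]
    exact (dvd_mul_right e f).mul_left _
  rw [show deg (μ ψ₀) = 1 by exact_mod_cast hD1, Nat.dvd_one] at hdvd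
  omega

end Cfsg.Agent.H28.ZT
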