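import Cfsg.Agent.H28.ZTCube
import Cfsg.Agent.H86.InducedIndicator
import Cfsg.Agent.H83.ClassConst
import Cfsg.Agent.S0161

/-!
General identities for Zassenhaus groups of even degree with kernel of odd order: square roots,
Frobenius-Schur indicators and pairs of involutions, all tested against class functions carried by
the kernel.
-/

set_option autoImplicit false

namespace Cfsg.Agent.H28.ZT

open Finset MulAction Zass
open scoped ComplexConjugate

universe u

variable {G : Type u} [Group G] [Fintype G]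

/-- The Frobenius-Schur indicator as an integer. -/
noncomputable def nu (χ : Cfsg.IrrCharacter G) : ℤ :=
  open Classical in
  if (Nat.card G : ℂ)⁻¹ * ∑ s : G, (χ : G → ℂ) (s * s) = 0 then 0
  else if (Nat.card G : ℂ)⁻¹ * ∑ s : G, (χ : G → ℂ) (s * s) = 1 then 1 else -1

theorem nu_spec (χ : Cfsg.IrrCharacter G) :
    (Nat.card G : ℂ)⁻¹ * ∑ s : G, (χ : G → ℂ) (s * s) = (nu χ : ℂ) ∧ -1 ≤ nu χ ∧ nu χ ≤ 1 ∧
      (nu χ ≠ 0 → ∀ g : G, conj ((χ : G → ℂ) g) = (χ : G → ℂ) g) := by
  classical
  rcases H86.indicator_cases χ.2 with ⟨h0, -⟩ | ⟨hr, h1 | h1⟩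
  · unfold nu
    rw [if_pos h0]
    exact ⟨by rw [h0, Int.cast_zero], by norm_num, by norm_num, fun h => absurd rfl h⟩
  · unfold nu
    rw [if_neg (by rw [h1]; exact one_ne_zero), if_pos h1]
    exact ⟨by rw [h1, Int.cast_one], by norm_num, le_rfl, fun _ g =>
      Complex.conj_eq_iff_im.2 (hr g)⟩
  · unfold nu
    rw [if_neg (by rw [h1]; norm_num), if_neg (by rw [h1]; norm_num)]
    exact ⟨by rw [h1]; norm_num, le_rfl, by norm_num, fun _ g =>
      Complex.conj_eq_iff_im.2 (hr g)⟩

open Classical in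
/-- Square roots of an element. -/
noncomputable def rootCount (g : G) : ℕ := (univ.filter fun s : G => s * s = g).card

theorem rootCount_eq (g : G) :
    (rootCount g : ℂ) = ∑ χ : Cfsg.IrrCharacter G, (nu χ : ℂ) * (χ : G → ℂ) g := by
  classical
  have hR : Cfsg.IsClassFunction G (fun g : G => (rootCount g : ℂ)) := by
    intro g x
    show (rootCount (x * g * x⁻¹) : ℂ) = rootCount g
    rw [Nat.cast_inj]
    refine Finset.card_equiv (MulAut.conj x⁻¹).toEquiv fun s => ?_
    simp only [Finset.mem_filter, Finset.mem_univ, true_and]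
    show s * s = x * g * x⁻¹ ↔ (MulAut.conj x⁻¹ s) * (MulAut.conj x⁻¹ s) = g
    rw [← map_mul, MulAut.conj_apply, inv_inv]
    constructor
    · intro h; rw [h]; group
    · intro h; rw [← h]; group
  have hexp := congrFun (CharBasic.classFunction_expansion hR) g
  rw [Finset.sum_apply] at hexp
  rw [hexp]
  refine Finset.sum_congr rfl fun χ _ => ?_
  simp only [Pi.smul_apply, smul_eq_mul]
  congr 1
  rw [CharBasic.classInner_def]
  have h : ∑ y : G, (rootCount y : ℂ) * conj ((χ : G → ℂ) y) =
      conj (∑ s : G, (χ : G → ℂ) (s * s)) := by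
    rw [map_sum]
    conv_rhs => rw [← Finset.sum_fiberwise (s := (univ : Finset G)) (g := fun s : G => s * s)]
    refine Finset.sum_congr rfl fun y _ => ?_
    rw [Finset.sum_congr rfl (g := fun _ => conj ((χ : G → ℂ) y)) (fun s hs => by
      rw [(Finset.mem_filter.1 hs).2]), Finset.sum_const, nsmul_eq_mul]
    rfl
  rw [h, show (Nat.card G : ℂ)⁻¹ * conj (∑ s : G, (χ : G → ℂ) (s * s)) =
    conj ((Nat.card G : ℂ)⁻¹ * ∑ s : G, (χ : G → ℂ) (s * s)) by
      rw [map_mul, map_inv₀, map_natCast], (nu_spec χ).1, map_intCast]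

/-- Character values at involutions are rational integers. -/
theorem exists_int_invol {χ : G → ℂ} (hχ : Cfsg.IsIrrCharacter G χ) {x : G} (hx : orderOf x = 2) :
    ∃ v : ℤ, χ x = v := by
  classical
  obtain ⟨d, hd, hd1⟩ := CharBasic.IsIrr.exists_degree hχ
  obtain ⟨m, hm⟩ := H83.sum_subgroup_eq (CharBasic.IsIrr.isCharacter hχ) (Subgroup.zpowers x)
  rw [Nat.card_zpowers, hx] at hm
  have hne : (⟨x, Subgroup.mem_zpowers x⟩ : Subgroup.zpowers x) ≠ 1 := fun h => by
    have h' : x = 1 := congrArg Subtype.val h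
    simp [h'] at hx
  have huniv : (univ : Finset (Subgroup.zpowers x)) = {1, ⟨x, Subgroup.mem_zpowers x⟩} := by
    symm
    refine Finset.eq_univ_of_card _ ?_
    rw [Finset.card_pair hne.symm, ← Nat.card_eq_fintype_card, Nat.card_zpowers, hx]
  rw [huniv, Finset.sum_pair hne.symm, OneMemClass.coe_one, hd1] at hm
  exact ⟨2 * m - d, by push_cast at hm ⊢; linear_combination hm⟩

variable {Ω : Type*} [MulAction G Ω] [Finite Ω] {a b : Ω} {H : Subgroup G}

open Classical in
theorem rootCount_ker (hH : IsKer a H) (hZ : Cfsg.IsZassenhausGroup G Ω)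
    (hodd : Odd (Nat.card H)) {u : G} (hu : u ∈ H) (hu1 : u ≠ 1) : rootCount u = 1 := by
  have hcop : (Nat.card H).Coprime 2 := Nat.coprime_two_right.2 hodd
  obtain ⟨w, hw⟩ := (powCoprime hcop).surjective ⟨u, hu⟩
  rw [rootCount, Finset.card_eq_one]
  refine ⟨w, Finset.eq_singleton_iff_unique_mem.2 ⟨?_, fun s hs => ?_⟩⟩
  · have h := congrArg Subtype.val hw
    simp only [powCoprime_apply, SubmonoidClass.coe_pow, pow_two] at h
    simpa using h
  · have hs' : s * s = u := (Finset.mem_filter.1 hs).2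
    have hsH : s ∈ H := hH.centralizer_le hZ hu hu1
      (Subgroup.mem_centralizer_singleton_iff.2 (by rw [← hs', mul_assoc]))
    have h : powCoprime hcop (⟨s, hsH⟩ : H) = powCoprime hcop w := by
      rw [hw]
      apply Subtype.ext
      simp only [powCoprime_apply, SubmonoidClass.coe_pow, pow_two]
      exact hs'
    exact congrArg Subtype.val ((powCoprime hcop).injective h)

/-- Involutions of a group of even degree are fixed-point-free. -/
theorem invol_free (hH : IsKer a H) (hZ : Cfsg.IsZassenhausGroup G Ω) (hab : a ≠ b)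
    (hodde : Odd (Nat.card ↥(stabilizer G a ⊓ stabilizer G b))) (hodd : Odd (Nat.card H))
    {x : G} (hx : orderOf x = 2) (c : Ω) : x • c ≠ c := by
  intro hc
  have h := invol_fixed hZ hab hodde hx
  rw [if_neg (by rw [← hH.card, Nat.not_odd_iff_even]; exact hodd.add_one),
    Set.ncard_eq_zero (Set.toFinite _)] at h
  exact Set.eq_empty_iff_forall_notMem.1 h c hc

open Classical in
theorem rootCount_one (hH : IsKer a H) (hZ : Cfsg.IsZassenhausGroup G Ω) (hab : a ≠ b)
    (hodde : Odd (Nat.card ↥(stabilizer G a ⊓ stabilizer G b))) (hinv : Inverted G a b)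
    (hodd : Odd (Nat.card H)) :
    rootCount (1 : G) = Nat.card ↥(stabilizer G a ⊓ stabilizer G b) * Nat.card H + 1 := by
  have h := invol_count hZ hab hodde hinv (Nat.card H) hH.card.symm
  rw [if_neg (Nat.not_even_iff_odd.2 hodd), Nat.card_eq_fintype_card, Fintype.card_subtype] at h
  rw [← h, rootCount]
  have e : (univ.filter fun s : G => s * s = 1) =
      insert 1 (univ.filter fun s : G => orderOf s = 2) := by
    ext s
    simp only [Finset.mem_filter, Finset.mem_univ, true_and, Finset.mem_insert]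
    constructor
    · intro hs
      by_cases hs1 : s = 1
      · exact Or.inl hs1
      · exact Or.inr (orderOf_eq_prime (hp := ⟨Nat.prime_two⟩) (by rw [pow_two]; exact hs) hs1)
    · rintro (rfl | hs)
      · exact one_mul 1
      · rw [← pow_two]; exact orderOf_dvd_iff_pow_eq_one.1 hs.dvd
  rw [e, Finset.card_insert_of_notMem (by simp)]

/-- No non-identity element of the kernel is a product of two involutions. -/
theorem pairs_empty (hH : IsKer a H)
    (hfree : ∀ x : G, orderOf x = 2 → ∀ c : Ω, x • c ≠ c) {x u : G} (hx : orderOf x = 2)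
    (hu : u ∈ H) (hu1 : u ≠ 1) :
    Nat.card {y : G // IsConj x y ∧ IsConj x (y⁻¹ * u)} = 0 := by
  refine Nat.card_eq_zero.2 (Or.inl ⟨fun ⟨y, hy, hyu⟩ => ?_⟩)
  have ho : ∀ z, IsConj x z → orderOf z = 2 := fun z hz => by
    obtain ⟨k, rfl⟩ := isConj_iff.1 hz
    rw [← MulAut.conj_apply, MulEquiv.orderOf_eq, hx]
  have hy2 := ho y hy
  have hw2 := ho _ hyu
  have hyy : y * y = 1 := by rw [← pow_two]; exact orderOf_dvd_iff_pow_eq_one.1 hy2.dvd
  have hww : (y⁻¹ * u) * (y⁻¹ * u) = 1 := by
    rw [← pow_two]; exact orderOf_dvd_iff_pow_eq_one.1 hw2.dvd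
  have hyi : y⁻¹ = y := inv_eq_of_mul_eq_one_right hyy
  rw [hyi] at hww
  have hconj : y * u * y⁻¹ = u⁻¹ := by
    rw [hyi]
    refine eq_inv_of_mul_eq_one_left ?_
    rw [mul_assoc]
    exact hww
  exact hfree y hy2 a (hH.smul_eq_of_conj_mem hu hu1 (by rw [hconj]; exact inv_mem hu))

variable [Fintype (stabilizer G a)]

omit [Finite Ω] in
/-- An induced class function carried by `H` vanishes at fixed-point-free elements. -/
theorem sum_inner_apply (φ : stabilizer G a → ℂ) {x : G} (hx : ∀ c : Ω, x • c ≠ c) :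
    ∑ χ : Cfsg.IrrCharacter G,
      conj (Cfsg.classInner (fun g : stabilizer G a => (χ : G → ℂ) g) φ) * (χ : G → ℂ) x = 0 := by
  have h := congrFun (CharBasic.classFunction_expansion
    (CharInduce.isClassFunction_indFun (stabilizer G a) φ)) x
  rw [CharInduce.indFun_eq_zero_of_forall_not_mem _ _ (fun y hy => hx (y • a) (by
    have h : (y⁻¹ * x * y) • a = a := hy
    rwa [mul_smul, mul_smul, inv_smul_eq_iff] at h)), Finset.sum_apply] at h
  rw [h]
  refine Finset.sum_congr rfl fun χ _ => ?_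
  rw [Pi.smul_apply, smul_eq_mul, CharInduce.classInner_indFun_left _ φ _
    (CharBasic.IsIrr.isClassFunction χ.2), CharBasic.classInner_conj_symm]

/-- Pairs of conjugate involutions against class functions carried by `H#`. -/
theorem sum_pairs (hH : IsKer a H) (hfree : ∀ x : G, orderOf x = 2 → ∀ c : Ω, x • c ≠ c)
    (φ : stabilizer G a → ℂ) (hsupp : ∀ g : stabilizer G a, (g : G) ∉ H → φ g = 0) (h1 : φ 1 = 0)
    {x : G} (hx : orderOf x = 2) :
    ∑ χ : Cfsg.IrrCharacter G,
      Cfsg.classInner (fun g : stabilizer G a => (χ : G → ℂ) g) φ *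
        ((χ : G → ℂ) x * (χ : G → ℂ) x / (χ : G → ℂ) 1) = 0 := by
  classical
  have hreal : ∀ χ : Cfsg.IrrCharacter G, conj ((χ : G → ℂ) x) = (χ : G → ℂ) x := fun χ => by
    rw [H83.irr_conj_apply χ.2, inv_eq_of_mul_eq_one_right]
    rw [← pow_two]; exact orderOf_dvd_iff_pow_eq_one.1 hx.dvd
  have hzero : ∀ g : stabilizer G a, conj (φ g) * ∑ χ : Cfsg.IrrCharacter G,
      (χ : G → ℂ) x * (χ : G → ℂ) x * (χ : G → ℂ) g / (χ : G → ℂ) 1 = 0 := by
    intro g
    by_cases hg : (g : G) ∈ H
    · rcases eq_or_ne g 1 with rfl | hg1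
      · rw [h1, map_zero, zero_mul]
      · have h := H83.card_pairs_mul_card x x (g : G)
        rw [pairs_empty hH hfree hx hg (fun h => hg1 (Subtype.ext h)), Nat.cast_zero,
          mul_zero] at h
        have hne : ((Subgroup.centralizer ({x} : Set G)).index : ℂ) *
            ((Subgroup.centralizer ({x} : Set G)).index : ℂ) ≠ 0 :=
          mul_ne_zero (Nat.cast_ne_zero.2 Subgroup.index_ne_zero_of_finite)
            (Nat.cast_ne_zero.2 Subgroup.index_ne_zero_of_finite)
        have h' := (mul_eq_zero.1 h.symm).resolve_left hne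
        simp only [hreal] at h'
        rw [h', mul_zero]
    · rw [hsupp g hg, map_zero, zero_mul]
  simp only [CharBasic.classInner_def, Finset.mul_sum, Finset.sum_mul]
  rw [Finset.sum_comm]
  refine Finset.sum_eq_zero fun g _ => ?_
  have h := hzero g
  rw [Finset.mul_sum] at h
  calc _ = (Nat.card (stabilizer G a) : ℂ)⁻¹ * ∑ χ : Cfsg.IrrCharacter G,
        conj (φ g) * ((χ : G → ℂ) x * (χ : G → ℂ) x * (χ : G → ℂ) g / (χ : G → ℂ) 1) := by
        rw [Finset.mul_sum]
        exact Finset.sum_congr rfl fun χ _ => by ring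
    _ = 0 := by rw [h, mul_zero]

omit [Finite Ω] [Fintype (stabilizer G a)] in
/-- Equal multiplicities of conjugate characters in a real character. -/
theorem nm_conj [Fintype (stabilizer G a)] (χ : Cfsg.IrrCharacter G)
    (hreal : ∀ g : G, conj ((χ : G → ℂ) g) = (χ : G → ℂ) g)
    (θ θ' : Cfsg.IrrCharacter (stabilizer G a))
    (hθ : ∀ g, (θ' : stabilizer G a → ℂ) g = conj ((θ : stabilizer G a → ℂ) g)) :
    nm χ θ' = nm χ θ := by
  have h : mult (fun g : stabilizer G a => (χ : G → ℂ) g) θ' =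
      conj (mult (fun g : stabilizer G a => (χ : G → ℂ) g) θ) := by
    simp only [mult, CharBasic.classInner_def, map_mul, map_sum, map_inv₀, map_natCast,
      Complex.conj_conj, hreal, hθ]
  rw [nm_spec, nm_spec, map_natCast, Nat.cast_inj] at h
  exact h

end Cfsg.Agent.H28.ZT
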