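import Cfsg.Agent.H28.ZassInvol
import Cfsg.Agent.CharBasic.Orth
import Cfsg.Agent.CharBasic.Complete
import Cfsg.Agent.CharInduce.Function
import Cfsg.Agent.CharInduce.Induce
import Cfsg.Agent.CharInduce.Ops

/-!
Characters induced from the point stabiliser of a Zassenhaus group.
-/

set_option autoImplicit false

namespace Cfsg.Agent.H28.Zass

open MulAction Finset
open scoped ComplexConjugate

universe u

variable {G : Type u} {Ω : Type*} [Group G] [MulAction G Ω] [Finite Ω] {a b : Ω} {H : Subgroup G}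

open Classical in
/-- A sum of a class function over `G_a = H E`. -/
theorem sum_stabilizer (hH : IsKer a H) (hZ : Cfsg.IsZassenhausGroup G Ω) (hab : a ≠ b)
    [Fintype (stabilizer G a)] [Fintype H] [Fintype ↥(stabilizer G a ⊓ stabilizer G b)]
    {M : Type*} [AddCommMonoid M] (f : stabilizer G a → M)
    (hf : ∀ g k : stabilizer G a, f (g * k * g⁻¹) = f k) :
    ∑ g, f g = ∑ u : H, f ⟨u, hH.le u.2⟩ + Nat.card H •
      ∑ x ∈ univ.filter (fun x : ↥(stabilizer G a ⊓ stabilizer G b) => x ≠ 1),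
        f ⟨x, (Subgroup.mem_inf.1 x.2).1⟩ := by
  have hfin := finite_of_zas hZ
  set E := stabilizer G a ⊓ stabilizer G b with hE
  set F := univ.filter (fun x : E => x ≠ 1) with hF
  let i : H → stabilizer G a := fun u => ⟨u, hH.le u.2⟩
  let j : H × E → stabilizer G a := fun p =>
    ⟨(p.1 : G) * p.2 * (p.1 : G)⁻¹,
      mul_mem (mul_mem (hH.le p.1.2) (Subgroup.mem_inf.1 p.2.2).1) (inv_mem (hH.le p.1.2))⟩
  have hi : Function.Injective i := fun u v h =>
    Subtype.ext (congrArg (fun g : stabilizer G a => (g : G)) h : (u : G) = v)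
  have hjfix : ∀ p : H × E, (j p : G) • ((p.1 : G) • b) = (p.1 : G) • b := fun p => by
    show ((p.1 : G) * p.2 * (p.1 : G)⁻¹) • _ = _
    rw [mul_smul, inv_smul_smul, mul_smul, (Subgroup.mem_inf.1 p.2.2).2]
  have hub : ∀ u : H, (u : G) • b ≠ a := fun u h =>
    hab.symm (MulAction.injective (u : G) (h.trans (hH.le u.2 : (u : G) • a = a).symm))
  have hj : Set.InjOn j ↑((univ : Finset H) ×ˢ F) := by
    rintro ⟨u, x⟩ hp ⟨v, y⟩ hq h
    simp only [coe_product, Set.mem_prod, coe_filter, hF, Set.mem_setOf_eq, mem_univ,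
      true_and] at hp hq
    have h' : (j (u, x) : G) = j (v, y) := congrArg Subtype.val h
    have huv : (u : G) • b = (v : G) • b := by
      by_contra hne
      have h1 := hjfix (u, x)
      have h2 := hjfix (v, y)
      rw [← h'] at h2
      have hone := H33.zas_eq_one hZ (hub u).symm hne (hub v).symm
        ((j (u, x)).2) h1 h2
      exact hp.2 (Subtype.ext (conj_eq_one_iff.1 hone))
    have : u = v := (hH.regular hZ hab.symm (hub v)).unique huv rfl
    subst this
    have : (x : G) = y := mul_left_cancel (mul_right_cancel h')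
    rw [Subtype.ext this]
  have hdisj : Disjoint (univ.image i) ((univ ×ˢ F).image j) := by
    rw [Finset.disjoint_left]
    intro g hg hg'
    obtain ⟨u, -, rfl⟩ := mem_image.1 hg
    obtain ⟨⟨v, x⟩, hp, hpe⟩ := mem_image.1 hg'
    have h1 := hjfix (v, x)
    rw [hpe] at h1
    have hu : (u : G) = 1 := hH.eq_one_of_fix u.2 (hub v) h1
    have h2 : (v : G) * x * (v : G)⁻¹ = u := congrArg Subtype.val hpe
    rw [hu, conj_eq_one_iff] at h2
    exact (mem_filter.1 (mem_product.1 hp).2).2 (Subtype.ext h2)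
  have hFcard : F.card = Nat.card E - 1 := by
    rw [hF, Finset.filter_ne', Finset.card_erase_of_mem (Finset.mem_univ _), Finset.card_univ,
      Nat.card_eq_fintype_card]
  have huniv : (univ.image i) ∪ ((univ ×ˢ F).image j) = univ := by
    apply Finset.eq_univ_of_card
    rw [Finset.card_union_of_disjoint hdisj, Finset.card_image_of_injective _ hi,
      Finset.card_image_of_injOn hj, Finset.card_product, hFcard, Finset.card_univ,
      ← Nat.card_eq_fintype_card, ← Nat.card_eq_fintype_card, hH.card_stabilizer hZ hab,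
      Nat.mul_sub, Nat.mul_one]
    have : Nat.card H * 1 ≤ Nat.card H * Nat.card E := Nat.mul_le_mul_left _ Nat.card_pos
    rw [hE] at this ⊢
    omega
  rw [← huniv, Finset.sum_union hdisj, Finset.sum_image (fun u _ v _ h => hi h),
    Finset.sum_image hj, Finset.sum_product]
  congr 1
  rw [Finset.sum_congr rfl (g := fun _ => ∑ x ∈ F, f ⟨x, (Subgroup.mem_inf.1 x.2).1⟩),
    Finset.sum_const, Finset.card_univ, ← Nat.card_eq_fintype_card]
  · refine congrArg _ (Finset.sum_congr ?_ fun x _ => rfl)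
    rw [hF]; ext x; simp
  intro u _
  refine Finset.sum_congr rfl fun x _ => ?_
  exact hf ⟨u, hH.le u.2⟩ ⟨x, (Subgroup.mem_inf.1 x.2).1⟩

/-- A linear character of `G_a` trivial on `H`, as a homomorphism with values in `ℂˣ`. -/
structure IsTorusChar (H : Subgroup G) (l : stabilizer G a →* ℂˣ) : Prop where
  ker : ∀ u : stabilizer G a, (u : G) ∈ H → l u = 1

variable {l : stabilizer G a →* ℂˣ}

theorem hom_apply_conj (l : stabilizer G a →* ℂˣ) (g k : stabilizer G a) :
    (l (g * k * g⁻¹) : ℂ) = l k := by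
  rw [map_mul, map_mul, map_inv, mul_comm (l g) (l k), mul_inv_cancel_right]

theorem conj_hom [Finite G] (l : stabilizer G a →* ℂˣ) (x : stabilizer G a) :
    conj (l x : ℂ) = (l x⁻¹ : ℂ) :=
  ((CharBasic.IsChar.inv_apply (CharInduce.isCharacter_hom l) x)).symm

variable [Fintype G]

open Classical in
theorem torus_ind_one (hH : IsKer a H) (hZ : Cfsg.IsZassenhausGroup G Ω) :
    Cfsg.indFun (stabilizer G a) (fun g => (l g : ℂ)) 1 = (Nat.card H : ℂ) + 1 := by
  have : IsPretransitive G Ω := isPretransitive_of_is_two_pretransitive (h2 := hZ.2.1)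
  rw [CharInduce.indFun_one, index_stabilizer_of_transitive, ← hH.card]
  simp

open Classical in
theorem torus_ind_ker (hH : IsKer a H) (hZ : Cfsg.IsZassenhausGroup G Ω)
    (hl : IsTorusChar H l) {u : G} (hu : u ∈ H) (hu1 : u ≠ 1) :
    Cfsg.indFun (stabilizer G a) (fun g => (l g : ℂ)) u = 1 := by
  rw [CharInduce.indFun_apply]
  have h : ∀ x : G, Cfsg.extendByZero (stabilizer G a) (fun g => (l g : ℂ)) (x⁻¹ * u * x) =
      if x ∈ stabilizer G a then 1 else 0 := by
    intro x
    by_cases hx : x ∈ stabilizer G a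
    · have hm : x⁻¹ * u * x ∈ H := by
        simpa using hH.conj_mem hZ (inv_mem hx : x⁻¹ ∈ stabilizer G a) hu
      rw [if_pos hx, CharInduce.extendByZero_of_mem _ (hH.le hm), hl.ker _ hm]
      simp
    · rw [if_neg hx, CharInduce.extendByZero_of_not_mem]
      intro hm
      have h1 : (x⁻¹ * u * x) • a = a := hm
      rw [mul_smul, mul_smul, inv_smul_eq_iff] at h1
      exact hx (hH.fix u hu hu1 _ h1)
  rw [Finset.sum_congr rfl (fun x _ => h x), Finset.sum_boole, Nat.card_eq_fintype_card,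
    Fintype.card_subtype]
  exact inv_mul_cancel₀ (Nat.cast_ne_zero.2 (Finset.card_ne_zero_of_mem (Finset.mem_filter.2
    ⟨Finset.mem_univ 1, one_mem (stabilizer G a)⟩)))

open Classical in
theorem torus_ind_two (hZ : Cfsg.IsZassenhausGroup G Ω) (hab : a ≠ b) (hinv : Inverted G a b)
    {x : G} (hx : x ∈ stabilizer G a ⊓ stabilizer G b) (hx1 : x ≠ 1) :
    Cfsg.indFun (stabilizer G a) (fun g => (l g : ℂ)) x =
      (l ⟨x, (Subgroup.mem_inf.1 hx).1⟩ : ℂ) + l (⟨x, (Subgroup.mem_inf.1 hx).1⟩⁻¹) := by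
  obtain ⟨s, hsa, hsb⟩ := H33.zas_map_pair hZ hab hab.symm
  obtain ⟨hxa, hxb⟩ := mem_two.1 hx
  rw [CharInduce.indFun_apply]
  set x' : (stabilizer G a) := ⟨x, (Subgroup.mem_inf.1 hx).1⟩ with hx'
  have hinvx : s⁻¹ * x * s = x⁻¹ := by
    have h1 := hinv s hsa hsb x⁻¹ (inv_mem hx)
    rw [inv_inv] at h1
    calc s⁻¹ * x * s = s⁻¹ * (s * x⁻¹ * s⁻¹) * s := by rw [h1]
      _ = x⁻¹ := by group
  have h : ∀ g : G, Cfsg.extendByZero (stabilizer G a) (fun g => (l g : ℂ)) (g⁻¹ * x * g) =
      (if g ∈ (stabilizer G a) then (l x' : ℂ) else 0) + (if s⁻¹ * g ∈ (stabilizer G a) then (l x'⁻¹ : ℂ) else 0) := by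
    intro g
    by_cases hg : g ∈ (stabilizer G a)
    · have hg' : s⁻¹ * g ∉ (stabilizer G a) := by
        intro h
        have h1 : (s⁻¹ * g) • a = a := h
        rw [mul_smul, (hg : g • a = a), inv_smul_eq_iff, hsa] at h1
        exact hab h1
      rw [if_pos hg, if_neg hg', add_zero,
        CharInduce.extendByZero_of_mem _ (mul_mem (mul_mem (inv_mem hg) x'.2) hg)]
      show (l ((⟨g, hg⟩ : (stabilizer G a))⁻¹ * x' * ⟨g, hg⟩) : ℂ) = _
      have := hom_apply_conj l (⟨g, hg⟩ : (stabilizer G a))⁻¹ x'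
      rwa [inv_inv] at this
    · by_cases hg' : s⁻¹ * g ∈ (stabilizer G a)
      · rw [if_neg hg, if_pos hg', zero_add]
        set k : (stabilizer G a) := ⟨s⁻¹ * g, hg'⟩
        have e : g⁻¹ * x * g = ((k⁻¹ * x'⁻¹ * k : (stabilizer G a)) : G) := by
          show g⁻¹ * x * g = (s⁻¹ * g)⁻¹ * x⁻¹ * (s⁻¹ * g)
          rw [← hinvx]; group
        rw [e, CharInduce.extendByZero_coe]
        have := hom_apply_conj l k⁻¹ x'⁻¹
        rwa [inv_inv] at this
      · rw [if_neg hg, if_neg hg', add_zero, CharInduce.extendByZero_of_not_mem]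
        intro hm
        have h1 : (g⁻¹ * x * g) • a = a := hm
        rw [mul_smul, mul_smul, inv_smul_eq_iff] at h1
        have h2 : g • a ∈ fixedBy Ω x := h1
        rw [H33.zas_fixed_of_pair hZ hx1 hab hxa hxb] at h2
        rcases h2 with h2 | h2
        · exact hg h2
        · exact hg' (show (s⁻¹ * g) • a = a by
            rw [mul_smul, h2, inv_smul_eq_iff, hsa])
  rw [Finset.sum_congr rfl (fun g _ => h g), Finset.sum_add_distrib]
  have hshift : ∑ g : G, (if s⁻¹ * g ∈ (stabilizer G a) then (l x'⁻¹ : ℂ) else 0) =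
      ∑ g : G, (if g ∈ (stabilizer G a) then (l x'⁻¹ : ℂ) else 0) :=
    Fintype.sum_equiv (Equiv.mulLeft s⁻¹) _ _ (fun g => rfl)
  rw [hshift, ← Finset.sum_filter, ← Finset.sum_filter, Finset.sum_const, Finset.sum_const,
    nsmul_eq_mul, nsmul_eq_mul, ← mul_add, ← mul_assoc, Nat.card_eq_fintype_card,
    Fintype.card_subtype, inv_mul_cancel₀ (Nat.cast_ne_zero.2 (Finset.card_ne_zero_of_mem
      (Finset.mem_filter.2 ⟨Finset.mem_univ 1, one_mem (stabilizer G a)⟩))), one_mul]

theorem torus_ind_free {g : G} (hg : ∀ c : Ω, g • c ≠ c) :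
    Cfsg.indFun (stabilizer G a) (fun k => (l k : ℂ)) g = 0 := by
  refine CharInduce.indFun_eq_zero_of_forall_not_mem _ _ fun x hx => hg (x • a) ?_
  have h : (x⁻¹ * g * x) • a = a := hx
  rw [mul_smul, mul_smul, inv_smul_eq_iff] at h
  exact h

theorem torus_ne_one_two (hH : IsKer a H) (hZ : Cfsg.IsZassenhausGroup G Ω) (hab : a ≠ b)
    (hl : IsTorusChar H l) (hl1 : l ≠ 1) :
    l.comp (Subgroup.inclusion (inf_le_left : stabilizer G a ⊓ stabilizer G b ≤ stabilizer G a))
      ≠ 1 := by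
  intro h
  apply hl1
  refine MonoidHom.ext fun g => ?_
  obtain ⟨u, hu, x, hx, he⟩ := hH.decomp hZ hab g.2
  have : g = ⟨u, hH.le hu⟩ * ⟨x, (Subgroup.mem_inf.1 hx).1⟩ := Subtype.ext he
  rw [this, map_mul, hl.ker ⟨u, hH.le hu⟩ hu, one_mul]
  exact DFunLike.congr_fun h ⟨x, hx⟩

open Classical in
theorem sum_sq_eq_zero {E : Type*} [Group E] [Fintype E] (hodd : Odd (Nat.card E)) {m : E →* ℂˣ}
    (hm : m ≠ 1) : ∑ x : E, (m x : ℂ) * m x = 0 := by
  have hm2 : ∃ x, m x * m x ≠ 1 := by
    by_contra h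
    push Not at h
    apply hm
    refine MonoidHom.ext fun x => ?_
    obtain ⟨r, hr⟩ := hodd
    have hx : m x ^ (2 * r + 1) = 1 := by rw [← hr, ← map_pow, pow_card_eq_one', map_one]
    rwa [pow_succ, pow_mul, pow_two, h x, one_pow, one_mul] at hx
  obtain ⟨y, hy⟩ := hm2
  have h1 : (m y : ℂ) * m y * ∑ x : E, (m x : ℂ) * m x = ∑ x : E, (m x : ℂ) * m x := by
    rw [Finset.mul_sum]
    refine Fintype.sum_equiv (Equiv.mulLeft y) _ _ fun x => ?_
    simp only [Equiv.coe_mulLeft, map_mul, Units.val_mul]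
    ring
  rw [mul_left_eq_self₀] at h1
  exact h1.resolve_left fun h => hy (Units.ext (by simpa using h))

theorem torus_ind_isIrr (hH : IsKer a H) (hZ : Cfsg.IsZassenhausGroup G Ω) (hab : a ≠ b)
    (hodd : Odd (Nat.card ↥(stabilizer G a ⊓ stabilizer G b))) (hinv : Inverted G a b)
    (hl : IsTorusChar H l) (hl1 : l ≠ 1) :
    Cfsg.IsIrrCharacter G (Cfsg.indFun (stabilizer G a) (fun g => (l g : ℂ))) := by
  classical
  set E := stabilizer G a ⊓ stabilizer G b with hE
  have := Fintype.ofFinite (stabilizer G a)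
  have := Fintype.ofFinite E
  have := Fintype.ofFinite H
  set F := Cfsg.indFun (stabilizer G a) (fun g => (l g : ℂ)) with hF
  have hchar : Cfsg.IsCharacter G F := CharInduce.IsChar.ind (stabilizer G a) (CharInduce.isCharacter_hom l)
  refine CharInduce.isIrr_of_norm_one hchar ?_
  have hFc := CharInduce.isClassFunction_indFun (stabilizer G a) (fun g => (l g : ℂ))
  rw [hF, CharInduce.classInner_indFun_left (stabilizer G a) _ _ hFc, ← hF, CharBasic.classInner_def,
    sum_stabilizer hH hZ hab (fun g : (stabilizer G a) => (l g : ℂ) * conj (F g)) ?_]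
  · have hsH : ∑ u : H, (l ⟨u, hH.le u.2⟩ : ℂ) * conj (F (u : G)) = 2 * (Nat.card H : ℂ) := by
      rw [← Finset.add_sum_erase _ _ (Finset.mem_univ (1 : H)),
        Finset.sum_congr rfl (g := fun _ => (1 : ℂ)), Finset.sum_const,
        Finset.card_erase_of_mem (Finset.mem_univ _), Finset.card_univ, nsmul_eq_mul, mul_one,
        hl.ker ⟨((1 : H) : G), _⟩ (one_mem H), Subgroup.coe_one, hF, torus_ind_one hH hZ,
        Nat.card_eq_fintype_card, Nat.cast_sub Fintype.card_pos]
      · simp only [map_add, map_natCast, map_one, Units.val_one, Nat.cast_one]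
        ring
      · intro u hu
        rw [hl.ker ⟨(u : G), hH.le u.2⟩ u.2, hF, torus_ind_ker hH hZ hl u.2
          (fun h => (Finset.mem_erase.1 hu).1 (Subtype.ext h))]
        simp
    have hsE : ∑ x ∈ univ.filter (fun x : E => x ≠ 1),
        (l ⟨x, (Subgroup.mem_inf.1 x.2).1⟩ : ℂ) * conj (F (x : G)) = (Nat.card E : ℂ) - 2 := by
      rw [Finset.sum_congr rfl (g := fun x : E => (1 : ℂ) +
        (l.comp (Subgroup.inclusion (inf_le_left : E ≤ (stabilizer G a))) x : ℂ) *
          l.comp (Subgroup.inclusion (inf_le_left : E ≤ (stabilizer G a))) x), Finset.sum_add_distrib,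
        Finset.filter_ne', Finset.sum_erase_eq_sub (Finset.mem_univ _),
        Finset.sum_erase_eq_sub (Finset.mem_univ _),
        sum_sq_eq_zero hodd (torus_ne_one_two hH hZ hab hl hl1), Finset.sum_const,
        Finset.card_univ, Nat.card_eq_fintype_card]
      · simp only [map_one, Units.val_one, nsmul_eq_mul]
        ring
      · intro x hx
        rw [hF, torus_ind_two hZ hab hinv x.2 (fun h => (Finset.mem_filter.1 hx).2 (Subtype.ext h)),
          map_add, conj_hom, conj_hom, inv_inv, mul_add]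
        congr 1
        rw [← Units.val_mul, ← map_mul, mul_inv_cancel, map_one, Units.val_one]
    rw [hsH, hsE, nsmul_eq_mul, hH.card_stabilizer hZ hab, ← hE]
    push_cast
    have h1 : (Nat.card H : ℂ) ≠ 0 := Nat.cast_ne_zero.2 Nat.card_pos.ne'
    have h2 : (Nat.card E : ℂ) ≠ 0 := Nat.cast_ne_zero.2 Nat.card_pos.ne'
    field_simp
    ring
  · intro g k
    have h : F ((g : G) * k * (g : G)⁻¹) = F k := hFc k g
    rw [hom_apply_conj]
    congr 2

end Cfsg.Agent.H28.Zass
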