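import Cfsg.Agent.H28.ZassInvol

/-!
Counting classes that avoid the kernel, by counting pairs of involutions.
-/

set_option autoImplicit false

namespace Cfsg.Agent.H28.Zass

open MulAction Finset

/-- Pairs of involutions with product in a prescribed union of classes are at most
`#classes * |G|`. -/
theorem invol_pairs_le_classes {G : Type*} [Group G] [Finite G] (S : Set (ConjClasses G))
    (T : Finset (G × G))
    (hT : ∀ p ∈ T, orderOf p.1 = 2 ∧ orderOf p.2 = 2 ∧ ConjClasses.mk (p.1 * p.2) ∈ S) :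
    T.card ≤ S.ncard * Nat.card G := by
  classical
  have hrep : ∀ g : G, ∃ t : G,
      t * Function.surjInv ConjClasses.mk_surjective (ConjClasses.mk g) * t⁻¹ = g := fun g =>
    isConj_iff.1 (ConjClasses.mk_eq_mk_iff_isConj.1
      (Function.surjInv_eq ConjClasses.mk_surjective (ConjClasses.mk g)))
  choose t ht using hrep
  have hx : ∀ g : G, ∃ x0 : G, ∀ p ∈ T, p.1 * p.2 = g → ∃ q ∈ T, q.1 * q.2 = g ∧ q.1 = x0 := by
    intro g
    by_cases h : ∃ q ∈ T, q.1 * q.2 = g
    · obtain ⟨q, hq, hqg⟩ := h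
      exact ⟨q.1, fun _ _ _ => ⟨q, hq, hqg, rfl⟩⟩
    · exact ⟨1, fun p hp hpg => (h ⟨p, hp, hpg⟩).elim⟩
  choose x0 hx0 using hx
  have hinv : ∀ p : G × G, orderOf p.1 = 2 → orderOf p.2 = 2 →
      p.1 * (p.1 * p.2) * p.1⁻¹ = (p.1 * p.2)⁻¹ := by
    intro p h1 h2
    have e1 : p.1 * p.1 = 1 := by rw [← pow_two, ← h1, pow_orderOf_eq_one]
    have e2 : p.2 * p.2 = 1 := by rw [← pow_two, ← h2, pow_orderOf_eq_one]
    rw [← mul_assoc, e1, one_mul, mul_inv_rev, inv_eq_of_mul_eq_one_right e1,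
      inv_eq_of_mul_eq_one_right e2]
  let f : {p // p ∈ T} → S × G := fun p =>
    (⟨ConjClasses.mk (p.1.1 * p.1.2), (hT p.1 p.2).2.2⟩,
      (x0 (p.1.1 * p.1.2))⁻¹ * p.1.1 * t (p.1.1 * p.1.2))
  have hf : Function.Injective f := by
    rintro ⟨p, hp⟩ ⟨q, hq⟩ h
    have hC : ConjClasses.mk (p.1 * p.2) = ConjClasses.mk (q.1 * q.2) :=
      congrArg (fun r : S × G => (r.1 : ConjClasses G)) h
    have hk : (x0 (p.1 * p.2))⁻¹ * p.1 * t (p.1 * p.2) =
        (x0 (q.1 * q.2))⁻¹ * q.1 * t (q.1 * q.2) :=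
      congrArg Prod.snd h
    have key : ∀ p ∈ T, ((x0 (p.1 * p.2))⁻¹ * p.1 * t (p.1 * p.2)) *
        Function.surjInv ConjClasses.mk_surjective (ConjClasses.mk (p.1 * p.2)) *
        ((x0 (p.1 * p.2))⁻¹ * p.1 * t (p.1 * p.2))⁻¹ = p.1 * p.2 := by
      intro p hp
      obtain ⟨h1, h2, -⟩ := hT p hp
      obtain ⟨r, hr, hrg, hrx⟩ := hx0 (p.1 * p.2) p hp rfl
      obtain ⟨r1, r2, -⟩ := hT r hr
      have hr' := hinv r r1 r2
      rw [hrg, hrx] at hr'
      have hp' := hinv p h1 h2
      set g := p.1 * p.2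
      set x := x0 g
      calc (x⁻¹ * p.1 * t g) * Function.surjInv ConjClasses.mk_surjective (ConjClasses.mk g) *
            (x⁻¹ * p.1 * t g)⁻¹
          = x⁻¹ * (p.1 * (t g * Function.surjInv ConjClasses.mk_surjective (ConjClasses.mk g) *
              (t g)⁻¹) * p.1⁻¹) * x := by group
        _ = x⁻¹ * g⁻¹ * x := by rw [ht g, hp']
        _ = g := by rw [← hr']; group
    have hg : p.1 * p.2 = q.1 * q.2 := by
      have h1 := key p hp
      rw [hk, hC, key q hq] at h1
      exact h1.symm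
    rw [← hg] at hk
    have hx' : p.1 = q.1 := mul_left_cancel (mul_right_cancel hk)
    rw [← hx'] at hg
    exact Subtype.ext (Prod.ext hx' (mul_left_cancel hg))
  have := Nat.card_le_card_of_injective f hf
  rwa [Nat.card_prod, Nat.card_eq_fintype_card, Fintype.card_coe, Nat.card_coe_set_eq] at this

variable {G Ω : Type*} [Group G] [MulAction G Ω] [Finite Ω] {a b : Ω}

/-- At least `(e+1)/2` classes consist of fixed-point-free elements. -/
theorem fpf_classes_ge (hZ : Cfsg.IsZassenhausGroup G Ω) (hab : a ≠ b)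
    (hodd : Odd (Nat.card ↥(stabilizer G a ⊓ stabilizer G b))) (hinv : Inverted G a b)
    (hlt : Nat.card ↥(stabilizer G a ⊓ stabilizer G b) + 1 < Nat.card Ω)
    (hG : Nat.card G = Nat.card Ω * ((Nat.card Ω - 1) *
      Nat.card ↥(stabilizer G a ⊓ stabilizer G b))) :
    Nat.card ↥(stabilizer G a ⊓ stabilizer G b) + 1 ≤
      2 * {C : ConjClasses G | ∀ g : G, ConjClasses.mk g = C → ∀ c : Ω, g • c ≠ c}.ncard := by
  classical
  have := finite_of_zas hZ
  have := Fintype.ofFinite G
  have := Fintype.ofFinite Ω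
  set e := Nat.card ↥(stabilizer G a ⊓ stabilizer G b) with hedef
  have h3 := H33.zas_three_le_card hZ
  obtain ⟨h, hh⟩ : ∃ h, Nat.card Ω = h + 1 := ⟨Nat.card Ω - 1, by omega⟩
  have hJ := invol_count hZ hab hodd hinv h hh
  set S : Set (ConjClasses G) :=
    {C : ConjClasses G | ∀ g : G, ConjClasses.mk g = C → ∀ c : Ω, g • c ≠ c}
  set F := S.ncard
  set I : Finset G := univ.filter fun x => orderOf x = 2 with hI
  have hIc : I.card = Nat.card {x : G // orderOf x = 2} := by
    rw [Nat.card_eq_fintype_card, Fintype.card_subtype]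
  have hΩc : (univ : Finset Ω).card = h + 1 := by
    rw [card_univ, ← Nat.card_eq_fintype_card, hh]
  set P := (I ×ˢ I).filter fun p => p.1 ≠ p.2
  have hP : P.card + I.card = I.card * I.card := by
    have : P = I.offDiag := by
      ext p; simp [P, Finset.mem_offDiag, and_assoc]
    rw [this, Finset.offDiag_card]
    exact Nat.sub_add_cancel (Nat.le_mul_self _)
  set A := P.filter fun p => ∃ c : Ω, p.1 • c = c ∧ p.2 • c = c
  set B := P.filter fun p => ∃ c : Ω, p.1 • c ≠ c ∧ p.1 • c = p.2 • c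
  set C := P.filter fun p => ∀ c : Ω, p.1 • c ≠ p.2 • c
  have hsplit : P.card ≤ A.card + B.card + C.card := by
    refine (card_le_card (fun p hp => ?_)).trans
      ((card_union_le (A ∪ B) C).trans (Nat.add_le_add_right (card_union_le A B) _))
    by_cases hC : ∀ c : Ω, p.1 • c ≠ p.2 • c
    · exact mem_union_right _ (mem_filter.2 ⟨hp, hC⟩)
    · push Not at hC
      obtain ⟨c, hc⟩ := hC
      by_cases hfix : p.1 • c = c
      · exact mem_union_left _ (mem_union_left _ (mem_filter.2 ⟨hp, c, hfix, hc ▸ hfix⟩))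
      · exact mem_union_left _ (mem_union_right _ (mem_filter.2 ⟨hp, c, hfix, hc⟩))
  have hpI : ∀ p ∈ P, orderOf p.1 = 2 ∧ orderOf p.2 = 2 ∧ p.1 ≠ p.2 := fun p hp => by
    simpa [P, hI, and_assoc] using hp
  have hA : A.card ≤ if Even h then (h + 1) * (e * e - e) else 0 := by
    split_ifs with hev
    · have hΩodd : Odd (Nat.card Ω) := by rw [hh]; exact Even.add_one hev
      have := card_mul_le_card_mul (fun (p : G × G) (c : Ω) => p.1 • c = c ∧ p.2 • c = c)
        (s := A) (t := univ) (m := 1) (n := e * e - e) ?_ ?_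
      · rwa [mul_one, hΩc] at this
      · intro p hp
        obtain ⟨c, hc⟩ := (mem_filter.1 hp).2
        exact card_pos.2 ⟨c, mem_filter.2 ⟨mem_univ _, hc⟩⟩
      · intro c _
        refine (card_le_card (t := (I.filter fun x => x • c = c).offDiag) fun p hp => ?_).trans ?_
        · obtain ⟨h1, h2⟩ := mem_filter.1 hp
          obtain ⟨i1, i2, i3⟩ := hpI p (mem_filter.1 h1).1
          simp [Finset.mem_offDiag, hI, i1, i2, i3, h2.1, h2.2]
        · have hc : (I.filter fun x => x • c = c).card = e := by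
            rw [hedef, ← invol_fix_card hZ hab hodd hinv hΩodd c, Nat.card_eq_fintype_card,
              Fintype.card_subtype, hI, filter_filter]
          rw [offDiag_card, hc]
    · refine le_of_eq (card_eq_zero.2 (filter_eq_empty_iff.2 ?_))
      rintro p hp ⟨c, hc, -⟩
      have hfix := invol_fixed hZ hab hodd (hpI p hp).1
      rw [if_neg (by rw [hh, Nat.odd_add_one, Nat.not_odd_iff_even]; exact hev),
        Set.ncard_eq_zero] at hfix
      exact Set.eq_empty_iff_forall_notMem.1 hfix c hc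
  have hB : B.card * 2 ≤ ((h + 1) * h) * (e * e - e) := by
    have := card_mul_le_card_mul
      (fun (p : G × G) (cd : Ω × Ω) => p.1 • cd.1 = cd.2 ∧ p.2 • cd.1 = cd.2)
      (s := B) (t := (univ : Finset Ω).offDiag) (m := 2) (n := e * e - e) ?_ ?_
    · rw [offDiag_card, hΩc] at this
      rwa [show (h + 1) * (h + 1) - (h + 1) = (h + 1) * h by
        rw [Nat.mul_succ, Nat.add_sub_cancel]] at this
    · intro p hp
      obtain ⟨hp1, c, hc, hcc⟩ := mem_filter.1 hp
      obtain ⟨i1, i2, -⟩ := hpI p hp1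
      refine one_lt_card.2 ⟨(c, p.1 • c), ?_, (p.1 • c, c), ?_, ?_⟩
      · exact mem_filter.2 ⟨Finset.mem_offDiag.2 ⟨mem_univ _, mem_univ _, hc.symm⟩, rfl, hcc.symm⟩
      · refine mem_filter.2 ⟨Finset.mem_offDiag.2 ⟨mem_univ _, mem_univ _, hc⟩,
          invol_smul_smul i1 c, ?_⟩
        rw [hcc, invol_smul_smul i2]
      · exact fun hcd => hc (Prod.ext_iff.1 hcd).1.symm
    · intro cd hcd
      obtain ⟨-, -, hne⟩ := Finset.mem_offDiag.1 hcd
      refine (card_le_card (t := (I.filter fun x => x • cd.1 = cd.2).offDiag) fun p hp => ?_).trans ?_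
      · obtain ⟨h1, h2⟩ := mem_filter.1 hp
        obtain ⟨i1, i2, i3⟩ := hpI p (mem_filter.1 h1).1
        simp [Finset.mem_offDiag, hI, i1, i2, i3, h2.1, h2.2]
      · have hc : (I.filter fun x => x • cd.1 = cd.2).card = e := by
          rw [hedef, ← invol_swap_card hZ hab hodd hinv hne, Nat.card_eq_fintype_card,
            Fintype.card_subtype, hI, filter_filter]
        rw [offDiag_card, hc]
  have hC : C.card ≤ F * Nat.card G := by
    refine invol_pairs_le_classes S C fun p hp => ?_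
    obtain ⟨hp1, hp2⟩ := mem_filter.1 hp
    obtain ⟨i1, i2, -⟩ := hpI p hp1
    refine ⟨i1, i2, fun g hg d hd => ?_⟩
    obtain ⟨k, hk⟩ := isConj_iff.1 (ConjClasses.mk_eq_mk_iff_isConj.1 hg)
    have h1 : (p.1 * p.2) • k • d = k • d := by
      rw [← hk, mul_smul, mul_smul, inv_smul_smul, hd]
    rw [mul_smul] at h1
    refine hp2 (k • d) ?_
    conv_lhs => rw [← h1]
    rw [invol_smul_smul i1]
  rw [hG, hh, Nat.add_sub_cancel] at hC
  rw [← hIc, ← hedef] at hJ
  have hlt' : e < h := by omega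
  have hee : e ≤ e * e := Nat.le_mul_self e
  obtain ⟨A', hA'⟩ : ∃ q, e * e = e + q := ⟨e * e - e, by omega⟩
  rw [hA', Nat.add_sub_cancel_left] at hA hB
  by_contra hcon
  push Not at hcon
  have hFe : 2 * F + 1 ≤ e := by
    obtain ⟨r, hr⟩ := hodd
    omega
  have he0 : 0 < e := by omega
  have hh0 : 0 < h := by omega
  split_ifs at hJ hA with hev
  all_goals rw [hJ] at hP
  · have : 0 < h * e * (h + 1) := by positivity
    nlinarith [hP, hsplit, hA, hB, hC, hA', Nat.mul_le_mul_left ((h + 1) * h * e) hFe]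
  · have h1 : (h + 1) * h * (e * e) = (h + 1) * h * (e + A') := by rw [hA']
    linarith [Nat.mul_le_mul_left ((h + 1) * h * e) hFe,
      Nat.mul_lt_mul_of_pos_left hlt' (Nat.mul_pos he0 hh0)]

/-- At least `(e-1)/2` classes meet the two-point stabiliser nontrivially. -/
theorem two_classes_ge (hZ : Cfsg.IsZassenhausGroup G Ω) (hab : a ≠ b)
    (hcyc : IsCyclic ↥(stabilizer G a ⊓ stabilizer G b)) (hinv : Inverted G a b) :
    Nat.card ↥(stabilizer G a ⊓ stabilizer G b) ≤ 2 *
      {C : ConjClasses G | ∃ y ∈ stabilizer G a ⊓ stabilizer G b, y ≠ 1 ∧ ConjClasses.mk y = C}.ncard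
        + 1 := by
  classical
  have := finite_of_zas hZ
  have := Fintype.ofFinite G
  set E := stabilizer G a ⊓ stabilizer G b
  set Y : Finset G := univ.filter fun y => y ∈ E ∧ y ≠ 1
  have hY : Y.card + 1 = Nat.card E := by
    have : (univ.filter fun y => y ∈ E) = insert 1 Y := by
      ext y; by_cases hy : y = 1 <;> simp [Y, hy]
    rw [Nat.card_eq_fintype_card, Fintype.card_subtype, this, card_insert_of_notMem (by simp [Y])]
  have himg : (Y.image ConjClasses.mk : Set (ConjClasses G)) =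
      {C : ConjClasses G | ∃ y ∈ E, y ≠ 1 ∧ ConjClasses.mk y = C} := by
    ext C; simp [Y, and_assoc]
  have hle : Y.card ≤ 2 * (Y.image ConjClasses.mk).card := by
    refine card_le_mul_card_image Y 2 fun C hC => ?_
    obtain ⟨y, hy, rfl⟩ := mem_image.1 hC
    have hy' : y ∈ E ∧ y ≠ 1 := by simpa [Y] using hy
    refine (card_le_card (t := {y, y⁻¹}) fun z hz => ?_).trans card_le_two
    obtain ⟨hzY, hzy⟩ := mem_filter.1 hz
    have hz' : z ∈ E ∧ z ≠ 1 := by simpa [Y] using hzY
    obtain ⟨k, hk⟩ := isConj_iff.1 (ConjClasses.mk_eq_mk_iff_isConj.1 hzy.symm)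
    rcases two_cases hZ hab hy'.1 hy'.2 (hk ▸ hz'.1) with ⟨h1, h2⟩ | ⟨h1, h2⟩
    · refine mem_insert.2 (Or.inl ?_)
      have hkE : k ∈ E := mem_two.2 ⟨h1, h2⟩
      have := congrArg Subtype.val (hcyc.isMulCommutative.is_comm.comm ⟨k, hkE⟩ ⟨y, hy'.1⟩)
      simp only [Subgroup.coe_mul] at this
      rw [← hk, this, mul_inv_cancel_right]
    · refine mem_insert.2 (Or.inr (mem_singleton.2 ?_))
      rw [← hk, hinv k h1 h2 y hy'.1]
  rw [← himg, Set.ncard_coe_finset]
  omega

end Cfsg.Agent.H28.Zass
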