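import Cfsg.Agent.H28.ZassTorus
import Cfsg.Agent.H28.ZassClasses
import Cfsg.Agent.H28.FrobCoherence
import Cfsg.Agent.H43.Galois

/-!
Feit's theorem on Zassenhaus groups with two-point stabiliser of odd order: the characters of the
point stabiliser that are not trivial on the kernel cannot be coherent.
-/

set_option autoImplicit false

namespace Cfsg.Agent.H28.Zass

open MulAction Finset
open scoped ComplexConjugate

universe u

variable {G : Type u} {Ω : Type*} [Group G] [Fintype G] [MulAction G Ω] [Finite Ω]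
  {a b : Ω} {H : Subgroup G}

theorem IsKer.normal_sub (hH : IsKer a H) (hZ : Cfsg.IsZassenhausGroup G Ω) :
    (H.subgroupOf (stabilizer G a)).Normal :=
  ⟨fun _ hu g => hH.conj_mem hZ g.2 hu⟩

theorem IsKer.isFrobKer (hH : IsKer a H) (hZ : Cfsg.IsZassenhausGroup G Ω) :
    Frob.IsFrobKer (H.subgroupOf (stabilizer G a)) := by
  intro u hu hu1 g hg
  exact hH.centralizer_le hZ hu (fun h => hu1 (Subtype.ext h))
    (Subgroup.mem_centralizer_singleton_iff.2
      (congrArg Subtype.val (Subgroup.mem_centralizer_singleton_iff.1 hg)))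

theorem IsKer.card_sub (hH : IsKer a H) :
    Nat.card (H.subgroupOf (stabilizer G a)) = Nat.card H :=
  Nat.card_congr (Subgroup.subgroupOfEquivOfLe hH.le).toEquiv

theorem IsKer.index_sub (hH : IsKer a H) (hZ : Cfsg.IsZassenhausGroup G Ω) (hab : a ≠ b) :
    (H.subgroupOf (stabilizer G a)).index =
      Nat.card ↥(stabilizer G a ⊓ stabilizer G b) := by
  have h := (H.subgroupOf (stabilizer G a)).card_mul_index
  rw [hH.card_sub, hH.card_stabilizer hZ hab] at h
  exact Nat.eq_of_mul_eq_mul_left Nat.card_pos h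

open Classical in
/-- Induction is an isometry on the virtual characters carried by `H#`. -/
theorem ind_isometry (hH : IsKer a H) (hZ : Cfsg.IsZassenhausGroup G Ω)
    (S : Set (stabilizer G a → ℂ))
    (hS : ∀ χ ∈ S, Cfsg.IsIrrCharacter (stabilizer G a) χ ∧
      ∀ g : stabilizer G a, (g : G) ∉ H → χ g = 0) :
    Cfsg.IsLinearIsometryOn (Cfsg.zspanOn S ({1}ᶜ : Set (stabilizer G a)))
        (Cfsg.indFun (stabilizer G a)) ∧
      ∀ α ∈ Cfsg.zspanOn S ({1}ᶜ : Set (stabilizer G a)),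
        Cfsg.indFun (stabilizer G a) α 1 = 0 := by
  have hspan : ∀ α ∈ Cfsg.zspan S, Cfsg.IsGeneralizedCharacter (stabilizer G a) α ∧
      ∀ g : stabilizer G a, (g : G) ∉ H → α g = 0 := by
    intro α hα
    refine Submodule.span_induction
      (p := fun α _ => Cfsg.IsGeneralizedCharacter (stabilizer G a) α ∧
        ∀ g : stabilizer G a, (g : G) ∉ H → α g = 0) ?_ ?_ ?_ ?_ hα
    · exact fun χ hχ => ⟨H43.gen_of_irr (hS χ hχ).1, (hS χ hχ).2⟩
    · exact ⟨H43.gen_zero, fun _ _ => rfl⟩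
    · exact fun x y _ _ hx hy => ⟨H43.gen_add hx.1 hy.1, fun g hg => by
        rw [Pi.add_apply, hx.2 g hg, hy.2 g hg, add_zero]⟩
    · exact fun k x _ hx => ⟨H43.gen_zsmul hx.1 k, fun g hg => by
        rw [Pi.smul_apply, hx.2 g hg, smul_zero]⟩
  have h1 : ∀ α ∈ Cfsg.zspanOn S ({1}ᶜ : Set (stabilizer G a)), α 1 = 0 :=
    fun α hα => hα.2 1 (by simp)
  refine ⟨⟨fun α _ β _ => CharInduce.indFun_add _ α β, fun α _ n => ?_, fun α hα β hβ => ?_,
    fun α hα => CharInduce.IsGen.ind _ (hspan α hα.1).1⟩, fun α hα => ?_⟩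
  · rw [← Int.cast_smul_eq_zsmul ℂ, CharInduce.indFun_smul, Int.cast_smul_eq_zsmul]
  · have hcl := CharInduce.IsGen.isClassFunction (hspan β hβ.1).1
    rw [CharInduce.classInner_indFun_left _ α _ (CharInduce.isClassFunction_indFun _ β)]
    simp only [CharBasic.classInner_def]
    congr 1
    refine Finset.sum_congr rfl fun g _ => ?_
    by_cases hg : (g : G) ∈ H
    · rcases eq_or_ne g 1 with rfl | hg1
      · rw [h1 α hα, zero_mul, zero_mul]
      congr 2
      have hg1' : (g : G) ≠ 1 := fun h => hg1 (Subtype.ext h)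
      rw [CharInduce.indFun_apply]
      have h : ∀ x : G, Cfsg.extendByZero (stabilizer G a) β (x⁻¹ * g * x) =
          if x ∈ stabilizer G a then β g else 0 := by
        intro x
        split_ifs with hx
        · rw [CharInduce.extendByZero_of_mem _ (mul_mem (mul_mem (inv_mem hx) g.2) hx)]
          have := hcl g (⟨x, hx⟩⁻¹ : stabilizer G a)
          rwa [inv_inv] at this
        · by_cases hm : x⁻¹ * (g : G) * x ∈ stabilizer G a
          · rw [CharInduce.extendByZero_of_mem _ hm]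
            refine (hspan β hβ.1).2 _ fun hmH => hx ?_
            have := hH.smul_eq_of_conj_mem hg hg1' (g := x⁻¹) (by rwa [inv_inv])
            exact (inv_smul_eq_iff.1 this).symm
          · rw [CharInduce.extendByZero_of_not_mem _ hm]
      rw [Finset.sum_congr rfl (fun x _ => h x), ← Finset.sum_filter, Finset.sum_const,
        nsmul_eq_mul, ← mul_assoc, Nat.card_eq_fintype_card, Fintype.card_subtype,
        inv_mul_cancel₀ (Nat.cast_ne_zero.2 (Finset.card_ne_zero_of_mem (Finset.mem_filter.2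
          ⟨Finset.mem_univ 1, one_mem (stabilizer G a)⟩))), one_mul]
    · rw [(hspan α hα.1).2 g hg, zero_mul, zero_mul]
  · rw [CharInduce.indFun_one, h1 α hα, mul_zero]

open Classical in
theorem stabilizer_classes_le (hH : IsKer a H) (hZ : Cfsg.IsZassenhausGroup G Ω) (hab : a ≠ b) :
    Nat.card (ConjClasses (stabilizer G a)) ≤
      {C : ConjClasses G | ∃ u ∈ H, u ≠ 1 ∧ ConjClasses.mk u = C}.ncard +
        Nat.card ↥(stabilizer G a ⊓ stabilizer G b) := by
  set M := {C : ConjClasses G | ∃ u ∈ H, u ≠ 1 ∧ ConjClasses.mk u = C}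
  choose r hr hr1 hrC using fun C : M => C.2
  let f : M ⊕ ↥(stabilizer G a ⊓ stabilizer G b) → ConjClasses (stabilizer G a) :=
    Sum.elim (fun C => ConjClasses.mk ⟨r C, hH.le (hr C)⟩)
      (fun x => ConjClasses.mk ⟨x, (mem_two.1 x.2).1⟩)
  have hf : Function.Surjective f := by
    intro C
    obtain ⟨g, rfl⟩ := C.exists_rep
    rcases stabilizer_cases hH hZ hab g.2 with hg | ⟨k, hk, hx⟩
    · rcases eq_or_ne g 1 with rfl | hg1
      · exact ⟨Sum.inr 1, rfl⟩
      have hg1' : (g : G) ≠ 1 := fun h => hg1 (Subtype.ext h)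
      let C : M := ⟨ConjClasses.mk (g : G), g, hg, hg1', rfl⟩
      obtain ⟨k, hk⟩ := isConj_iff.1 (ConjClasses.mk_eq_mk_iff_isConj.1 (hrC C))
      have hka : k • a = a := hH.smul_eq_of_conj_mem (hr C) (hr1 C) (by rw [hk]; exact hg)
      exact ⟨Sum.inl C, ConjClasses.mk_eq_mk_iff_isConj.2
        (isConj_iff.2 ⟨⟨k, hka⟩, Subtype.ext hk⟩)⟩
    · exact ⟨Sum.inr ⟨_, hx⟩, ConjClasses.mk_eq_mk_iff_isConj.2
        (isConj_iff.2 ⟨⟨k, hk⟩, Subtype.ext rfl⟩).symm⟩
  have h := Nat.card_le_card_of_surjective f hf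
  rwa [Nat.card_sum, Nat.card_coe_set_eq] at h

theorem classes_ge (hH : IsKer a H) (hZ : Cfsg.IsZassenhausGroup G Ω) (hab : a ≠ b)
    (hcyc : IsCyclic ↥(stabilizer G a ⊓ stabilizer G b))
    (hodd : Odd (Nat.card ↥(stabilizer G a ⊓ stabilizer G b))) (hinv : Inverted G a b)
    (hlt : Nat.card ↥(stabilizer G a ⊓ stabilizer G b) + 1 < Nat.card Ω) :
    {C : ConjClasses G | ∃ u ∈ H, u ≠ 1 ∧ ConjClasses.mk u = C}.ncard +
      Nat.card ↥(stabilizer G a ⊓ stabilizer G b) + 1 ≤ Nat.card (ConjClasses G) := by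
  classical
  have hG := hH.card_group hZ hab
  rw [show Nat.card H = Nat.card Ω - 1 by have := hH.card; omega] at hG
  have hF := fpf_classes_ge hZ hab hodd hinv hlt hG
  have hE := two_classes_ge hZ hab hcyc hinv
  set M := {C : ConjClasses G | ∃ u ∈ H, u ≠ 1 ∧ ConjClasses.mk u = C}
  set F := {C : ConjClasses G | ∀ g : G, ConjClasses.mk g = C → ∀ c : Ω, g • c ≠ c}
  set T := {C : ConjClasses G | ∃ y ∈ stabilizer G a ⊓ stabilizer G b,
    y ≠ 1 ∧ ConjClasses.mk y = C}
  have hMT : Disjoint M T := by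
    rw [Set.disjoint_left]
    rintro C ⟨u, hu, hu1, rfl⟩ ⟨y, hy, hy1, hyu⟩
    obtain ⟨k, hk⟩ := isConj_iff.1 (ConjClasses.mk_eq_mk_iff_isConj.1 hyu)
    obtain ⟨hya, hyb⟩ := mem_two.1 hy
    have h1 : k • a = a := hH.fix u hu hu1 _ (by
      rw [← hk, mul_smul, mul_smul, inv_smul_smul, hya])
    have h2 : k • b = a := hH.fix u hu hu1 _ (by
      rw [← hk, mul_smul, mul_smul, inv_smul_smul, hyb])
    exact hab (MulAction.injective k (h1.trans h2.symm))
  have hF' : Disjoint (M ∪ T) F := by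
    rw [Set.disjoint_left]
    rintro C (⟨u, hu, -, rfl⟩ | ⟨y, hy, -, rfl⟩) hC
    · exact hC u rfl a (hH.le hu)
    · exact hC y rfl a (mem_two.1 hy).1
  have hfin : (M ∪ T ∪ F).ncard + 1 ≤ Nat.card (ConjClasses G) := by
    rw [← Set.ncard_univ]
    refine Nat.succ_le_of_lt (Set.ncard_lt_ncard ((Set.subset_univ _).ssubset_of_ne fun h => ?_))
    have h1 : ConjClasses.mk (1 : G) ∈ M ∪ T ∪ F := h ▸ Set.mem_univ _
    rcases h1 with (⟨u, -, hu1, hu⟩ | ⟨y, -, hy1, hy⟩) | h1
    · exact hu1 (isConj_one_left.1 (ConjClasses.mk_eq_mk_iff_isConj.1 hu))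
    · exact hy1 (isConj_one_left.1 (ConjClasses.mk_eq_mk_iff_isConj.1 hy))
    · exact h1 1 rfl a (one_smul G a)
  rw [Set.ncard_union_eq hF', Set.ncard_union_eq hMT] at hfin
  omega

open Classical in
/-- An irreducible character of `G` vanishing on `E#`, orthogonal to the permutation character and
proportional to the degrees on `S`, does not exist when `2e < h - 1`. -/
theorem no_constant_char (hH : IsKer a H) (hZ : Cfsg.IsZassenhausGroup G Ω) (hab : a ≠ b)
    (hlt : 2 * Nat.card ↥(stabilizer G a ⊓ stabilizer G b) < Nat.card H - 1)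
    (χ : Cfsg.IrrCharacter G) (c : ℂ) (hc : ∀ u ∈ H, u ≠ 1 → (χ : G → ℂ) u = c)
    (hE : ∀ x ∈ stabilizer G a ⊓ stabilizer G b, x ≠ 1 → (χ : G → ℂ) x = 0)
    (hperm : Cfsg.classInner (fun g : stabilizer G a => (χ : G → ℂ) g) (fun _ => 1) = 0) : False := by
  have := Fintype.ofFinite H
  have := Fintype.ofFinite ↥(stabilizer G a ⊓ stabilizer G b)
  have hcl := CharBasic.IsIrr.isClassFunction χ.2
  obtain ⟨d, hdpos, hd, hddvd, -⟩ := CharBasic.IsIrr.degree_dvd χ.2
  rw [CharBasic.classInner_def] at hperm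
  simp only [map_one, mul_one, mul_eq_zero, inv_eq_zero, Nat.cast_eq_zero, Nat.card_pos.ne',
    false_or] at hperm
  rw [sum_stabilizer hH hZ hab (fun g : stabilizer G a => (χ : G → ℂ) g)
    (fun g k => hcl k g), Finset.sum_eq_zero (s := Finset.univ.filter
      (fun x : ↥(stabilizer G a ⊓ stabilizer G b) => x ≠ 1)) (fun x hx =>
      hE _ x.2 fun h => (Finset.mem_filter.1 hx).2 (Subtype.ext h)), smul_zero, add_zero,
    ← Finset.add_sum_erase _ _ (Finset.mem_univ (1 : H)),
    Finset.sum_congr (s₁ := Finset.univ.erase (1 : H))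
      (f := fun u : H => (χ : G → ℂ) u) rfl (g := fun _ => c) (fun u hu =>
      hc u u.2 fun h => (Finset.mem_erase.1 hu).1 (Subtype.ext h)),
    Finset.sum_const, Finset.card_erase_of_mem (Finset.mem_univ _), Finset.card_univ,
    ← Nat.card_eq_fintype_card, nsmul_eq_mul] at hperm
  rw [show (χ : G → ℂ) ((1 : H) : G) = (d : ℂ) from hd] at hperm
  set n := Nat.card H - 1 with hn
  have hn0 : (n : ℂ) ≠ 0 := Nat.cast_ne_zero.2 (by omega)
  have hint : IsIntegral ℤ c := by
    have : Nontrivial H := Finite.one_lt_card_iff_nontrivial.1 (by omega)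
    obtain ⟨u, hu⟩ := exists_ne (1 : H)
    rw [← hc u u.2 fun h => hu (Subtype.ext h)]
    exact CharBasic.IsChar.isIntegral (CharBasic.IsIrr.isCharacter χ.2) u
  obtain ⟨z, hz⟩ := H43.int_of_rat_integral hint (q := -(d : ℚ) / n) (by
    push_cast
    field_simp
    linear_combination hperm)
  rw [hz] at hperm
  have hdvd : n ∣ d := by
    have h1 : (d : ℤ) + n * z = 0 := by exact_mod_cast hperm
    exact Int.natCast_dvd_natCast.1 ⟨-z, by linear_combination h1⟩
  have h1 := hdvd.trans hddvd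
  rw [hH.card_group hZ hab, ← hH.card] at h1
  set e := Nat.card ↥(stabilizer G a ⊓ stabilizer G b) with he
  have hcop : n.Coprime (Nat.card H) := by
    rw [show Nat.card H = n + 1 by omega]
    simp
  have h2 : n ∣ (Nat.card H + 1) * e := by
    refine hcop.dvd_of_dvd_mul_left (m := Nat.card H) ?_
    calc n ∣ (Nat.card H + 1) * (Nat.card H * e) := h1
      _ = _ := by ring
  have h3 : n ∣ 2 * e := by
    rw [show (Nat.card H + 1) * e = n * e + 2 * e by
      rw [show Nat.card H + 1 = n + 2 by omega]; ring] at h2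
    exact (Nat.dvd_add_right (dvd_mul_right n e)).1 h2
  have hepos : 0 < e := Nat.card_pos
  have := Nat.le_of_dvd (by omega) h3
  omega

open Classical in
/-- Feit: the characters of `G_a` that are not trivial on `H` are not coherent. -/
theorem not_coherent (hH : IsKer a H) (hZ : Cfsg.IsZassenhausGroup G Ω) (hab : a ≠ b)
    (hcyc : IsCyclic ↥(stabilizer G a ⊓ stabilizer G b))
    (hodd : Odd (Nat.card ↥(stabilizer G a ⊓ stabilizer G b))) (hinv : Inverted G a b)
    (hlt : 2 * Nat.card ↥(stabilizer G a ⊓ stabilizer G b) < Nat.card H - 1) :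
    ¬ Cfsg.IsCoherent {θ : stabilizer G a → ℂ | Cfsg.IsIrrCharacter (stabilizer G a) θ ∧
        ∃ u ∈ H.subgroupOf (stabilizer G a), θ u ≠ θ 1}
      ({1}ᶜ : Set (stabilizer G a)) (Cfsg.indFun (stabilizer G a)) := by
  rintro ⟨⟨α₀, hα₀, hα₀ne⟩, τ₁, hτ₁, hagr⟩
  set e := Nat.card ↥(stabilizer G a ⊓ stabilizer G b) with he
  have hΩ := hH.card
  have hHne : 1 < Nat.card H := by omega
  obtain ⟨F, hFcard, hone, ⟨St, hStF, hSt⟩, hvan⟩ := exists_family hH hZ hab hcyc hodd hinv hHne
  set one : Cfsg.IrrCharacter G := ⟨_, CharBasic.isIrrCharacter_one⟩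
  set S := {θ : stabilizer G a → ℂ | Cfsg.IsIrrCharacter (stabilizer G a) θ ∧
        ∃ u ∈ H.subgroupOf (stabilizer G a), θ u ≠ θ 1} with hS
  let Sf : Finset (Cfsg.IrrCharacter (stabilizer G a)) :=
    Finset.univ.filter fun θ => ∃ u ∈ H.subgroupOf (stabilizer G a),
      (θ : stabilizer G a → ℂ) u ≠ (θ : stabilizer G a → ℂ) 1
  have hSf : ∀ θ, θ ∈ Sf ↔ (θ : stabilizer G a → ℂ) ∈ S := fun θ =>
    ⟨fun h => ⟨θ.2, (Finset.mem_filter.1 h).2⟩, fun h => Finset.mem_filter.2 ⟨Finset.mem_univ _, h.2⟩⟩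
  obtain ⟨θ₀, hθ₀⟩ : Sf.Nonempty := by
    by_contra hne
    apply hα₀ne
    have : S = ∅ := Set.eq_empty_iff_forall_notMem.2 fun θ hθ =>
      hne ⟨⟨θ, hθ.1⟩, (hSf _).2 hθ⟩
    have h := hα₀.1
    rw [this] at h
    simpa [Cfsg.zspan] using h
  have hsig : ∀ θ ∈ Sf, ∃ φ : Cfsg.IrrCharacter G,
      τ₁ θ = (φ : G → ℂ) ∨ τ₁ θ = -(φ : G → ℂ) := by
    intro θ hθ
    rcases H43.iso_signed hτ₁ (H43.zspan_mem ((hSf θ).1 hθ)) (CharBasic.classInner_irr_self θ.2)
      with h | h
    · exact ⟨⟨_, h⟩, Or.inl rfl⟩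
    · exact ⟨⟨_, h⟩, Or.inr (neg_neg _).symm⟩
  choose g hg using hsig
  -- every character outside the family is an image
  have hcover : ∀ χ : Cfsg.IrrCharacter G, χ ∈ F ∨ ∃ θ, ∃ hθ : θ ∈ Sf, g θ hθ = χ := by
    intro χ
    by_contra hcon
    push Not at hcon
    obtain ⟨hχF, hχg⟩ := hcon
    have hcl := CharBasic.IsIrr.isClassFunction χ.2
    have h0 : ∀ θ ∈ Sf, Cfsg.classInner (χ : G → ℂ) (τ₁ θ) = 0 := by
      intro θ hθ
      have h1 := CharBasic.classInner_irr_of_ne χ.2 (g θ hθ).2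
        (fun h => hχg θ hθ (Subtype.ext h.symm))
      rcases hg θ hθ with h | h
      · rw [h, h1]
      · rw [h, CharBasic.classInner_neg_right, h1, neg_zero]
    set res := fun k : stabilizer G a => (χ : G → ℂ) k with hres
    have hrcl : Cfsg.IsClassFunction (stabilizer G a) res := fun k l => hcl k l
    let m : Cfsg.IrrCharacter (stabilizer G a) → ℂ := fun φ => Cfsg.classInner res φ
    let d : Cfsg.IrrCharacter (stabilizer G a) → ℕ := fun φ =>
      Cfsg.charDegree (φ : stabilizer G a → ℂ)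
    have hd : ∀ φ : Cfsg.IrrCharacter (stabilizer G a), (φ : stabilizer G a → ℂ) 1 = (d φ : ℂ) := fun φ => (Frob.degree_spec φ.2).1
    have hprop : ∀ θ ∈ Sf, (d θ₀ : ℂ) * m θ = (d θ : ℂ) * m θ₀ := by
      intro θ hθ
      set α := (d θ₀ : ℤ) • (θ : stabilizer G a → ℂ) - (d θ : ℤ) • (θ₀ : stabilizer G a → ℂ)
      have h1 := H43.zspan_zsmul (H43.zspan_mem ((hSf θ).1 hθ)) (d θ₀ : ℤ)
      have h2 := H43.zspan_zsmul (H43.zspan_mem ((hSf θ₀).1 hθ₀)) (d θ : ℤ)
      have hα : α ∈ Cfsg.zspanOn S ({1}ᶜ : Set (stabilizer G a)) := by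
        rw [H43.zspanOn_compl_one]
        refine ⟨H43.zspan_sub h1 h2, ?_⟩
        simp [α, hd, mul_comm]
      have e1 := congrArg (Cfsg.classInner (χ : G → ℂ)) (hagr α hα)
      rw [CharInduce.classInner_indFun_right _ α _ hcl, H43.iso_sub hτ₁ h1 h2 hα.1,
        hτ₁.2.1 _ (H43.zspan_mem ((hSf θ).1 hθ)), hτ₁.2.1 _ (H43.zspan_mem ((hSf θ₀).1 hθ₀))] at e1
      simp only [α, CharBasic.classInner_sub_right, H43.classInner_zsmul_right, h0 θ hθ, h0 θ₀ hθ₀,
        mul_zero, sub_zero, Int.cast_natCast] at e1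
      exact sub_eq_zero.1 e1.symm
    have hd0 : (d θ₀ : ℂ) ≠ 0 := Nat.cast_ne_zero.2 (Frob.degree_spec θ₀.2).2.ne'
    set r := m θ₀ / d θ₀ with hr
    have hm : ∀ θ ∈ Sf, m θ = r * d θ := fun θ hθ => by
      rw [hr, div_mul_eq_mul_div, eq_div_iff hd0]
      linear_combination hprop θ hθ
    -- constant on `H#`
    let c := ∑ φ ∈ Finset.univ.filter (fun φ => φ ∉ Sf), (m φ - r * d φ) * d φ
    have hconst : ∀ u ∈ H, u ≠ 1 → (χ : G → ℂ) u = c := by
      intro u hu hu1
      set u' : stabilizer G a := ⟨u, hH.le hu⟩ with hu'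
      have hexp := congrFun (CharBasic.classFunction_expansion hrcl) u'
      rw [Finset.sum_apply] at hexp
      change (χ : G → ℂ) u = _ at hexp
      rw [hexp]
      simp only [Pi.smul_apply, smul_eq_mul]
      have hreg := CharBasic.sum_degree_mul_apply u'
      rw [if_neg (fun h => hu1 (congrArg Subtype.val h))] at hreg
      simp only [hd] at hreg
      have hout : ∀ φ ∈ Finset.univ.filter (fun φ => φ ∉ Sf),
          (φ : stabilizer G a → ℂ) u' = (d φ : ℂ) := by
        intro φ hφ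
        rw [← hd]
        by_contra hne
        exact (Finset.mem_filter.1 hφ).2 (Finset.mem_filter.2 ⟨Finset.mem_univ _, u', hu, hne⟩)
      have hsplit : ∀ f : Cfsg.IrrCharacter (stabilizer G a) → ℂ,
          ∑ φ, f φ = ∑ φ ∈ Sf, f φ + ∑ φ ∈ Finset.univ.filter (fun φ => φ ∉ Sf), f φ := fun f => by
        rw [← Finset.sum_filter_add_sum_filter_not Finset.univ (fun φ => φ ∈ Sf) f]
        congr 1
        rw [Finset.filter_univ_mem]
      rw [hsplit] at hreg ⊢
      show ∑ φ ∈ Sf, m φ * _ + _ = _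
      rw [Finset.sum_congr rfl (fun φ hφ => by rw [hm φ hφ, mul_assoc]), ← Finset.mul_sum,
        eq_neg_of_add_eq_zero_left hreg, mul_neg, Finset.mul_sum, ← sub_eq_neg_add,
        ← Finset.sum_sub_distrib]
      refine Finset.sum_congr rfl fun φ hφ => ?_
      show m φ * _ - _ = _
      rw [hout φ hφ]
      ring
    have hperm : Cfsg.classInner res (fun _ => 1) = 0 := by
      have htr : IsPretransitive G Ω := isPretransitive_of_is_two_pretransitive (h2 := hZ.2.1)
      rw [← CharInduce.classInner_indFun_right (stabilizer G a) _ _ hcl,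
        ← CharInduce.fixedBy_eq_indFun a,
        show (fun k : G => (Nat.card (fixedBy Ω k) : ℂ)) =
          (St : G → ℂ) + (one : G → ℂ) from funext fun k => by
            simp [hSt, one], CharBasic.classInner_add_right,
        CharBasic.classInner_irr_of_ne χ.2 St.2 (fun h => hχF (Subtype.ext h ▸ hStF)),
        CharBasic.classInner_irr_of_ne χ.2 one.2 (fun h => hχF (Subtype.ext h ▸ hone)), add_zero]
    exact no_constant_char hH hZ hab hlt χ c hconst (hvan χ hχF) hperm
  have hirrG : Nat.card (Cfsg.IrrCharacter G) ≤ F.card + Sf.card := by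
    rw [Nat.card_eq_fintype_card, ← Finset.card_univ]
    refine (Finset.card_le_card (t := F ∪ Sf.attach.image fun θ => g θ.1 θ.2) fun χ _ => ?_).trans
      ((Finset.card_union_le _ _).trans (Nat.add_le_add_left
        (Finset.card_image_le.trans_eq Finset.card_attach) _))
    rcases hcover χ with h | ⟨θ, hθ, h⟩
    · exact Finset.mem_union_left _ h
    · exact Finset.mem_union_right _
        (Finset.mem_image.2 ⟨⟨θ, hθ⟩, Finset.mem_attach _ _, h⟩)
  have hirrN : Sf.card + e ≤ Nat.card (Cfsg.IrrCharacter (stabilizer G a)) := by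
    choose L hLker hLres using fun m => exists_torus_lift hH hZ hab m
    have hce : Nat.card (↥(stabilizer G a ⊓ stabilizer G b) →* ℂˣ) = e := by
      letI : CommGroup ↥(stabilizer G a ⊓ stabilizer G b) := IsCyclic.commGroup
      haveI : NeZero (Monoid.exponent ↥(stabilizer G a ⊓ stabilizer G b) : ℂ) :=
        ⟨Nat.cast_ne_zero.mpr Monoid.exponent_ne_zero_of_finite⟩
      obtain ⟨f⟩ :=
        CommGroup.monoidHom_mulEquiv_of_hasEnoughRootsOfUnity ↥(stabilizer G a ⊓ stabilizer G b) ℂ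
      exact Nat.card_congr f.toEquiv
    let f : (↥(stabilizer G a ⊓ stabilizer G b) →* ℂˣ) ⊕ {θ // θ ∈ Sf} →
        Cfsg.IrrCharacter (stabilizer G a) :=
      Sum.elim (fun m => ⟨_, CharInduce.isIrrCharacter_hom (L m)⟩) Subtype.val
    have hnot : ∀ m (θ : {θ // θ ∈ Sf}), f (Sum.inl m) ≠ θ.1 := by
      intro m θ h
      obtain ⟨u, hu, hne⟩ := (Finset.mem_filter.1 θ.2).2
      apply hne
      rw [← h]
      show (L m u : ℂ) = (L m 1 : ℂ)
      rw [(hLker m).ker u hu, map_one]
    have hf : Function.Injective f := by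
      rintro (m | θ) (n | φ) h
      · refine congrArg Sum.inl (MonoidHom.ext fun x => ?_)
        rw [← hLres m x, ← hLres n x, Frob.hom_injective (congrArg Subtype.val h)]
      · exact absurd h (hnot m φ)
      · exact absurd h.symm (hnot n θ)
      · exact congrArg Sum.inr (Subtype.ext h)
    have h := Nat.card_le_card_of_injective f hf
    rw [Nat.card_sum, hce, Nat.card_eq_fintype_card (α := {θ // θ ∈ Sf}), Fintype.card_coe] at h
    omega
  rw [CharBasic.card_irrCharacter] at hirrG hirrN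
  have h1 := stabilizer_classes_le hH hZ hab
  have h2 := classes_ge hH hZ hab hcyc hodd hinv (by omega)
  have h3 : 1 < e := (Subgroup.one_lt_card_iff_ne_bot _).2 (two_pt_ne_bot hZ hab)
  rw [← he] at h1 h2
  omega

/-- Feit's conclusion: `H` is a non-abelian `p`-group with small commutator quotient. -/
theorem feit_odd (hH : IsKer a H) (hZ : Cfsg.IsZassenhausGroup G Ω) (hab : a ≠ b)
    (hcyc : IsCyclic ↥(stabilizer G a ⊓ stabilizer G b))
    (hodd : Odd (Nat.card ↥(stabilizer G a ⊓ stabilizer G b))) (hinv : Inverted G a b)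
    (hlt : 2 * Nat.card ↥(stabilizer G a ⊓ stabilizer G b) < Nat.card H - 1) :
    ∃ p : ℕ, p.Prime ∧ IsPGroup p H ∧ ¬ IsMulCommutative H ∧
      (commutator H).index ≤ 4 * Nat.card ↥(stabilizer G a ⊓ stabilizer G b) ^ 2 + 1 := by
  classical
  by_contra hne
  push Not at hne
  have := hH.normal_sub hZ
  set H' := H.subgroupOf (stabilizer G a)
  have hC := hH.isFrobKer hZ
  have hidx := hH.index_sub hZ hab
  have hcard := hH.card_sub
  have hE : 1 < Nat.card ↥(stabilizer G a ⊓ stabilizer G b) :=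
    (Subgroup.one_lt_card_iff_ne_bot _).2 (two_pt_ne_bot hZ hab)
  have htop : H' ≠ ⊤ := fun h => by
    rw [← Subgroup.index_eq_one, hidx] at h
    omega
  have hbot : H' ≠ ⊥ := fun h => by
    rw [← Subgroup.card_eq_one, hcard] at h
    omega
  obtain ⟨hiso, hiso1⟩ := ind_isometry hH hZ
    {θ : stabilizer G a → ℂ | Cfsg.IsIrrCharacter (stabilizer G a) θ ∧ ∃ u ∈ H', θ u ≠ θ 1}
    (fun θ hθ => ⟨hθ.1, fun g hg => by
      obtain ⟨σ, -, -, rfl⟩ := Frob.exists_ind_eq hC hθ.1 hθ.2
      exact CharInduce.indFun_eq_zero_of_normal H' σ hg⟩)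
  refine not_coherent hH hZ hab hcyc hodd hinv hlt (Frob.coherent hC htop hbot
    (by rw [hcard, hidx]; omega) _ hiso hiso1 fun p hp hpg hnab => ?_)
  have e' : H' ≃* H := Subgroup.subgroupOfEquivOfLe hH.le
  have := Fintype.ofFinite H
  have := Fintype.ofFinite H'
  rw [hidx]
  have hpH : IsPGroup p H := hpg.of_equiv e'
  have hnabH : ¬ IsMulCommutative H := fun h => hnab ⟨⟨fun u v => e'.injective (by
    rw [map_mul, map_mul, h.is_comm.comm])⟩⟩
  have hceq : (commutator H).index = (commutator H').index := by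
    rw [← Frob.card_hom_eq, ← Frob.card_hom_eq]
    exact Nat.card_congr
      { toFun := fun l => l.comp e'.toMonoidHom
        invFun := fun l => l.comp e'.symm.toMonoidHom
        left_inv := fun l => MonoidHom.ext fun x => by simp
        right_inv := fun l => MonoidHom.ext fun x => by simp }
  rw [← hceq]
  exact hne p hp hpH hnabH

end Cfsg.Agent.H28.Zass
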