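import Cfsg.Agent.H28.ZassHalf

/-!
Field structure on the points for a Zassenhaus group with abelian kernel of order `e + 1` or
`2e + 1`.
-/

set_option autoImplicit false

namespace Cfsg.Agent.H28.Zass

open MulAction

universe u

variable {G : Type u} {Ω : Type*} [Group G] [MulAction G Ω] [Finite Ω] {a b : Ω} {H : Subgroup G}

/-- Coordinates: the points other than `a` form a field, the kernel acts by translations and
the two-point stabiliser by multiplications. -/
structure Coord0 (a b : Ω) (K : Type*) [Field K] [Fintype K] (ι : K → Ω) (t : K → G)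
    (σ : ↥(stabilizer G a ⊓ stabilizer G b) → K) : Prop where
  inj : Function.Injective ι
  surj : ∀ c : Ω, c ≠ a → ∃ r, ι r = c
  ne : ∀ r, ι r ≠ a
  zero : ι 0 = b
  t_fix : ∀ c, t c • a = a
  t_apply : ∀ c r, t c • ι r = ι (c + r)
  mul_apply : ∀ (x : ↥(stabilizer G a ⊓ stabilizer G b)) (r : K), (x : G) • ι r = ι (σ x * r)
  inj_mul : Function.Injective σ
  pow_card : ∀ x, σ x ^ Nat.card ↥(stabilizer G a ⊓ stabilizer G b) = 1

/-- The coordinates when the two-point stabiliser gives exactly the nonzero squares. -/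
structure Coord (a b : Ω) (K : Type*) [Field K] [Fintype K] (ι : K → Ω) (t : K → G)
    (σ : ↥(stabilizer G a ⊓ stabilizer G b) → K) : Prop extends Coord0 a b K ι t σ where
  char_ne : ringChar K ≠ 2
  card : Fintype.card K = 2 * Nat.card ↥(stabilizer G a ⊓ stabilizer G b) + 1
  sq_iff : ∀ r : K, r ≠ 0 → (IsSquare r ↔ ∃ x, σ x = r)

theorem exists_field0 (hH : IsKer a H) (hZ : Cfsg.IsZassenhausGroup G Ω) (hab : a ≠ b)
    (hcomm : ∀ u ∈ H, ∀ v ∈ H, u * v = v * u)
    (hE : ∀ x ∈ stabilizer G a ⊓ stabilizer G b, ∀ y ∈ stabilizer G a ⊓ stabilizer G b,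
      x * y = y * x)
    (hlt : Nat.card H < 2 * (Nat.card ↥(stabilizer G a ⊓ stabilizer G b) + 1)) :
    ∃ (K : Type u) (_ : Field K) (_ : Fintype K) (ι : K → Ω) (t : K → G)
      (σ : ↥(stabilizer G a ⊓ stabilizer G b) → K), Coord0 a b K ι t σ ∧ Fintype.card K = Nat.card H := by
  classical
  have := finite_of_zas hZ
  set E := stabilizer G a ⊓ stabilizer G b with hEdef
  letI : CommGroup H :=
    { (inferInstance : Group H) with
      mul_comm := fun x y => Subtype.ext (hcomm _ x.2 _ y.2) }
  let val : Additive H → G := fun v => ((Additive.toMul v : H) : G)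
  have val_mem : ∀ v, val v ∈ H := fun v => (Additive.toMul v : H).2
  have val_add : ∀ v w, val (v + w) = val v * val w := fun v w => rfl
  have val_zero : val 0 = 1 := rfl
  have val_inj : Function.Injective val := Subtype.coe_injective.comp Additive.toMul.injective
  let ρ : ↥E → AddMonoid.End (Additive H) := fun x =>
    MonoidHom.toAdditive
      { toFun := fun u : H =>
          (⟨(x : G) * u * (x : G)⁻¹, hH.conj_mem hZ (mem_two.1 x.2).1 u.2⟩ : H)
        map_one' := Subtype.ext (by simp)
        map_mul' := fun u v => Subtype.ext (by simp only [Subgroup.coe_mul]; group) }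
  have hρ : ∀ x v, val (ρ x v) = (x : G) * val v * (x : G)⁻¹ := fun x v => rfl
  have hρmul : ∀ x y, ρ (x * y) = ρ x * ρ y := fun x y => AddMonoidHom.ext fun v => val_inj (by
    show val (ρ (x * y) v) = val (ρ x (ρ y v))
    simp only [hρ, Subgroup.coe_mul]
    group)
  have hρcomm : ∀ r ∈ Set.range ρ, ∀ s ∈ Set.range ρ, r * s = s * r := by
    rintro _ ⟨x, rfl⟩ _ ⟨y, rfl⟩
    rw [← hρmul, ← hρmul, show x * y = y * x from Subtype.ext (hE x x.2 y y.2)]
  have hfpf : ∀ v : Additive H, v ≠ 0 → Function.Injective fun x => ρ x v := by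
    intro v hv x y hxy
    by_contra hne
    have h1 : (x : G) * val v * (x : G)⁻¹ = (y : G) * val v * (y : G)⁻¹ := congrArg val hxy
    refine hv (val_inj (hH.fpf hZ hab (mul_mem (inv_mem y.2) x.2)
      (fun h => hne (Subtype.ext (inv_mul_eq_one.1 h).symm)) (val_mem v) ?_))
    calc (y : G)⁻¹ * x * val v * ((y : G)⁻¹ * x)⁻¹
        = (y : G)⁻¹ * ((x : G) * val v * (x : G)⁻¹) * y := by group
      _ = (y : G)⁻¹ * ((y : G) * val v * (y : G)⁻¹) * y := by rw [h1]
      _ = val v := by group
  have hHcard : Nat.card (Additive H) = Nat.card H := Nat.card_congr Additive.toMul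
  have hirr : ∀ W : AddSubgroup (Additive H), (∀ x, ∀ v ∈ W, ρ x v ∈ W) → W ≠ ⊥ → W = ⊤ := by
    intro W hW hne
    obtain ⟨v, hv, hv0⟩ := (AddSubgroup.bot_or_exists_ne_zero W).resolve_left hne
    have : Finite (Additive H) := inferInstanceAs (Finite H)
    have hle : Nat.card ↥E + 1 ≤ Nat.card W := by
      let f : Option ↥E → W := fun o => o.elim 0 fun x => ⟨ρ x v, hW x v hv⟩
      have hf : Function.Injective f := by
        have h0 : ∀ x, ρ x v ≠ 0 := by
          intro x h
          apply hv0
          apply val_inj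
          have := congrArg val h
          rw [hρ, val_zero] at this
          rw [val_zero]
          calc val v = (x : G)⁻¹ * ((x : G) * val v * (x : G)⁻¹) * x := by group
            _ = 1 := by rw [this]; group
        rintro (_ | x) (_ | y) h
        · rfl
        · exact absurd (congrArg Subtype.val h).symm (h0 y)
        · exact absurd (congrArg Subtype.val h) (h0 x)
        · exact congrArg some (hfpf v hv0 (congrArg Subtype.val h))
      have := Nat.card_le_card_of_injective f hf
      rwa [Finite.card_option] at this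
    obtain ⟨k, hk⟩ := AddSubgroup.card_addSubgroup_dvd_card W
    rw [hHcard] at hk
    refine AddSubgroup.eq_top_of_card_eq W ?_
    rw [hHcard]
    rcases k with _ | _ | k
    · have : 0 < Nat.card H := Nat.card_pos
      omega
    · omega
    · have := Nat.mul_le_mul hle (show 2 ≤ k + 2 by omega)
      nlinarith
  -- the ring
  let S := Subring.closure (Set.range ρ)
  have hS : ∀ r s : S, r * s = s * r := by
    have := Subring.isMulCommutative_closure hρcomm
    exact fun r s => this.is_comm.comm r s
  let σ : ↥E → S := fun x => ⟨ρ x, Subring.subset_closure ⟨x, rfl⟩⟩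
  obtain ⟨v0, hv0⟩ : ∃ v0 : Additive H, v0 ≠ 0 := by
    obtain ⟨u, hu, hu1⟩ := (Subgroup.bot_or_exists_ne_one H).resolve_left (hH.ne_bot hZ)
    exact ⟨Additive.ofMul ⟨u, hu⟩, fun h => hu1 (congrArg val h)⟩
  have happ : ∀ (r s : S) (v : Additive H), (r * s : S).1 v = r.1 (s.1 v) := fun r s v => rfl
  have hcommρ : ∀ (r : S) (x : ↥E) (v : Additive H), ρ x (r.1 v) = r.1 (ρ x v) := fun r x v => by
    have h := congrArg (fun z : S => z.1 v) (hS (σ x) r)
    simpa only [happ] using h
  have hinj : ∀ r : S, r ≠ 0 → Function.Injective r.1 := by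
    intro r hr
    let f : Additive H →+ Additive H := r.1
    show Function.Injective f
    refine (AddMonoidHom.ker_eq_bot_iff f).1 ?_
    by_contra hne
    have htop := hirr (AddMonoidHom.ker f) (fun x v hv => by
      rw [AddMonoidHom.mem_ker] at hv ⊢
      show r.1 (ρ x v) = 0
      rw [← hcommρ, show r.1 v = 0 from hv, map_zero]) hne
    refine hr (Subtype.ext (AddMonoidHom.ext fun v => ?_))
    have h := AddSubgroup.mem_top (G := Additive H) v
    rw [← htop, AddMonoidHom.mem_ker] at h
    exact h
  let ev : S →+ Additive H :=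
    { toFun := fun r => r.1 v0
      map_zero' := rfl
      map_add' := fun r s => rfl }
  have hev : ∀ r : S, ev r = r.1 v0 := fun r => rfl
  have hev_inj : Function.Injective ev := by
    rw [← AddMonoidHom.ker_eq_bot_iff, AddSubgroup.eq_bot_iff_forall]
    intro r hr
    by_contra hr0
    rw [AddMonoidHom.mem_ker, hev] at hr
    exact hv0 (hinj r hr0 (hr.trans (map_zero r.1).symm))
  have hev_surj : Function.Surjective ev := by
    rw [← AddMonoidHom.range_eq_top]
    refine hirr _ ?_ ?_
    · rintro x _ ⟨r, rfl⟩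
      exact ⟨σ x * r, rfl⟩
    · intro h
      have h1 : ev 1 ∈ ev.range := ⟨1, rfl⟩
      rw [h, AddSubgroup.mem_bot] at h1
      exact hv0 h1
  have : Finite (Additive H) := inferInstanceAs (Finite H)
  have : Finite S := Finite.of_injective ev hev_inj
  letI : CommRing S := { (inferInstance : Ring S) with mul_comm := hS }
  have : Nontrivial S := ⟨⟨0, 1, fun h => hv0 (congrArg ev h).symm⟩⟩
  have : NoZeroDivisors S := ⟨fun {r s} h => by
    by_contra hc
    rw [not_or] at hc
    refine hc.2 (hev_inj (hinj r hc.1 ?_))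
    rw [map_zero, map_zero, hev, ← happ, h]
    rfl⟩
  have : IsDomain S := NoZeroDivisors.to_isDomain S
  have hKcard : Nat.card S = Nat.card H :=
    (Nat.card_congr (Equiv.ofBijective ev ⟨hev_inj, hev_surj⟩)).trans hHcard
  letI : Fintype S := Fintype.ofFinite S
  letI : Field S := Fintype.fieldOfDomain S
  have hfc : Fintype.card S = Nat.card H := by
    rw [← Nat.card_eq_fintype_card, hKcard]
  let ι : S → Ω := fun r => val (ev r) • b
  have hmul : ∀ (x : ↥E) (r : S), (x : G) • ι r = ι (σ x * r) := by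
    intro x r
    show (x : G) • (val (ev r) • b) = val (ρ x (ev r)) • b
    rw [hρ, ← mul_smul]
    conv_rhs => rw [mul_smul, show (x : G)⁻¹ • b = b by
      rw [inv_smul_eq_iff]; exact (mem_two.1 x.2).2.symm]
  have hι : Function.Injective ι := by
    intro r s h
    refine hev_inj (val_inj ?_)
    have h' : ((val (ev s))⁻¹ * val (ev r)) • b = b := by
      rw [mul_smul, inv_smul_eq_iff]; exact h
    exact (inv_mul_eq_one.1 (hH.eq_one_of_fix (mul_mem (inv_mem (val_mem _)) (val_mem _))
      hab.symm h')).symm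
  have hσ : Function.Injective σ := fun x y h => hfpf v0 hv0 (congrArg (fun z : S => z.1 v0) h)
  have hσ0 : ∀ x, σ x ≠ 0 := fun x h => by
    have h1 := hmul x 1
    have h0 := hmul x 0
    rw [h, zero_mul] at h1 h0
    exact one_ne_zero (hι (smul_left_cancel _ (h1.trans h0.symm)))
  have hσmul : ∀ x y, σ (x * y) = σ x * σ y := fun x y => Subtype.ext (hρmul x y)
  have hσ1 : σ 1 = 1 := by
    have := hσmul 1 1
    rw [one_mul] at this
    exact (mul_eq_left₀ (hσ0 1)).1 this.symm
  have hσpow : ∀ x, σ x ^ Nat.card ↥E = 1 := by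
    intro x
    have key : ∀ n : ℕ, σ (x ^ n) = σ x ^ n := fun n => by
      induction n with
      | zero => simpa using hσ1
      | succ n ih => rw [pow_succ, pow_succ, hσmul, ih]
    rw [← key, pow_card_eq_one', hσ1]
  refine ⟨S, inferInstance, inferInstance, ι, fun c => val (ev c), σ,
    ⟨hι, ?_, ?_, ?_, ?_, ?_, hmul, hσ, hσpow⟩, hfc⟩
  · intro c hc
    obtain ⟨u, hu, -⟩ := hH.regular hZ hab.symm hc
    obtain ⟨r, hr⟩ := hev_surj (Additive.ofMul u)
    exact ⟨r, by show val (ev r) • b = c; rw [hr]; exact hu⟩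
  · intro r h
    have hfa : val (ev r) • a = a := hH.le (val_mem _)
    exact hab (smul_left_cancel _ (hfa.trans h.symm))
  · show val (ev 0) • b = b
    rw [map_zero, val_zero, one_smul]
  · exact fun c => hH.le (val_mem _)
  · intro c r
    show val (ev c) • val (ev r) • b = val (ev (c + r)) • b
    rw [map_add, val_add, mul_smul]

theorem exists_field (hH : IsKer a H) (hZ : Cfsg.IsZassenhausGroup G Ω) (hab : a ≠ b)
    (hcomm : ∀ u ∈ H, ∀ v ∈ H, u * v = v * u)
    (hhalf : 2 * Nat.card ↥(stabilizer G a ⊓ stabilizer G b) + 1 = Nat.card H) :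
    ∃ (K : Type u) (_ : Field K) (_ : Fintype K) (ι : K → Ω) (t : K → G)
      (σ : ↥(stabilizer G a ⊓ stabilizer G b) → K), Coord a b K ι t σ := by
  classical
  have := finite_of_zas hZ
  obtain ⟨hE, -, -⟩ := half_inverted hH hZ hab hcomm hhalf
  obtain ⟨S, _, _, ι, t, σ, hC, hfc⟩ := exists_field0 hH hZ hab hcomm hE (by omega)
  have hchar : ringChar S ≠ 2 := fun h => by
    have := FiniteField.even_card_iff_char_two.1 h
    omega
  have hdiv : Fintype.card S / 2 = Nat.card ↥(stabilizer G a ⊓ stabilizer G b) := by omega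
  have hσ := hC.inj_mul
  have hσpow := hC.pow_card
  refine ⟨S, inferInstance, inferInstance, ι, t, σ, { hC with char_ne := hchar, card := by omega, sq_iff := ?_ }⟩
  · intro r hr
    rw [FiniteField.isSquare_iff hchar hr, hdiv]
    refine ⟨fun h => ?_, fun ⟨x, hx⟩ => hx ▸ hσpow x⟩
    have := Fintype.ofFinite ↥(stabilizer G a ⊓ stabilizer G b)
    have hsub : Finset.univ.image σ ⊆ (Polynomial.nthRoots (Nat.card ↥(stabilizer G a ⊓ stabilizer G b)) (1 : S)).toFinset := by
      intro z hz
      obtain ⟨x, -, rfl⟩ := Finset.mem_image.1 hz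
      rw [Multiset.mem_toFinset, Polynomial.mem_nthRoots Nat.card_pos]
      exact hσpow x
    have heq := Finset.eq_of_subset_of_card_le hsub (by
      rw [Finset.card_image_of_injective _ hσ, Finset.card_univ, ← Nat.card_eq_fintype_card]
      exact (Multiset.toFinset_card_le _).trans (Polynomial.card_nthRoots _ _))
    have hr' : r ∈ (Polynomial.nthRoots (Nat.card ↥(stabilizer G a ⊓ stabilizer G b)) (1 : S)).toFinset := by
      rw [Multiset.mem_toFinset, Polynomial.mem_nthRoots Nat.card_pos]; exact h
    rw [← heq] at hr'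
    obtain ⟨x, -, hx⟩ := Finset.mem_image.1 hr'
    exact ⟨x, hx⟩

variable {K : Type*} [Field K] [Fintype K] {ι : K → Ω} {t : K → G}
  {σ : ↥(stabilizer G a ⊓ stabilizer G b) → K}

omit [Finite Ω] in
theorem Coord0.map_inv (hC : Coord0 a b K ι t σ) (x : ↥(stabilizer G a ⊓ stabilizer G b)) :
    σ x⁻¹ = (σ x)⁻¹ := by
  have h := hC.mul_apply x⁻¹ (σ x * 1)
  rw [← hC.mul_apply x 1, Subgroup.coe_inv, inv_smul_smul] at h
  have := hC.inj h
  rw [mul_one] at this
  exact eq_inv_of_mul_eq_one_left this.symm

/-- All elements of a finite field are sums of two squares. -/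
theorem exists_sq_add_sq_eq (hK : ringChar K ≠ 2) (x : K) : ∃ p q : K, p * p + q * q = x := by
  obtain ⟨p, q, h⟩ := FiniteField.exists_root_sum_quadratic (R := K)
    (f := Polynomial.X ^ 2) (g := Polynomial.X ^ 2 - Polynomial.C x) (Polynomial.degree_X_pow _)
    (Polynomial.degree_X_pow_sub_C (by norm_num) _) (FiniteField.odd_card_of_char_ne_two hK)
  refine ⟨p, q, ?_⟩
  simp only [Polynomial.eval_pow, Polynomial.eval_X, Polynomial.eval_sub, Polynomial.eval_C] at h
  linear_combination h

/-- Some nonsquare plus one is a nonzero square, if minus one is a square. -/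
theorem exists_nonsquare_succ (hK : ringChar K ≠ 2) (hm : IsSquare (-1 : K)) :
    ∃ v : K, ¬ IsSquare v ∧ v + 1 ≠ 0 ∧ IsSquare (v + 1) := by
  by_contra hc
  push Not at hc
  obtain ⟨n, hn⟩ := FiniteField.exists_nonsquare hK
  have hstep : ∀ v, ¬ IsSquare v → ∀ p : K, ¬ IsSquare (v + p * p) := by
    intro v hv p
    by_cases hp : p = 0
    · simpa [hp] using hv
    · have hp2 : p * p ≠ 0 := mul_ne_zero hp hp
      have h1 : ¬ IsSquare (v / (p * p)) := fun h => by
        apply hv
        have := h.mul (IsSquare.mul_self p)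
        rwa [div_mul_cancel₀ _ hp2] at this
      have h2 : v / (p * p) + 1 ≠ 0 := fun h => h1 (by rwa [eq_neg_of_add_eq_zero_left h])
      intro h
      refine hc _ h1 h2 ?_
      have h3 : (v + p * p) / (p * p) = v / (p * p) + 1 := by rw [add_div, div_self hp2]
      rw [← h3, div_eq_mul_inv]
      exact h.mul (IsSquare.mul_self p).inv
  obtain ⟨p, q, hpq⟩ := exists_sq_add_sq_eq hK (-n)
  exact hstep _ (hstep n hn p) q (by rw [add_assoc, hpq, add_neg_cancel]; exact IsSquare.zero)

end Cfsg.Agent.H28.Zass
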