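import Cfsg.Agent.H28.ZassReduce

/-!
Two-point stabilisers of order `(h-1)/2` with abelian kernel: inverted by every swap, all swaps
are involutions.
-/

set_option autoImplicit false

namespace Cfsg.Agent.H28.Zass

open MulAction Finset

universe u

variable {G : Type u} {Ω : Type*} [Group G] [MulAction G Ω] [Finite Ω] {a b : Ω} {H : Subgroup G}

/-- An involution of `E` inverts an abelian kernel; so there is only one. -/
theorem invol_two_unique (hH : IsKer a H) (hZ : Cfsg.IsZassenhausGroup G Ω) (hab : a ≠ b)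
    (hcomm : ∀ u ∈ H, ∀ v ∈ H, u * v = v * u) {z z' : G}
    (hz : z ∈ stabilizer G a ⊓ stabilizer G b) (hzo : orderOf z = 2)
    (hz' : z' ∈ stabilizer G a ⊓ stabilizer G b) (hzo' : orderOf z' = 2) : z = z' := by
  have key : ∀ z, z ∈ stabilizer G a ⊓ stabilizer G b → orderOf z = 2 → ∀ u ∈ H,
      z * u * z⁻¹ = u⁻¹ := by
    intro z hz hzo u hu
    have hz1 : z ≠ 1 := fun h => by simp [h] at hzo
    have hzz : z * z = 1 := by rw [← pow_two, ← hzo, pow_orderOf_eq_one]
    have hzi : z⁻¹ = z := inv_eq_of_mul_eq_one_right hzz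
    have hv := hH.conj_mem hZ (mem_two.1 hz).1 hu
    have hw : u * (z * u * z⁻¹) ∈ H := mul_mem hu hv
    have hfix : z * (u * (z * u * z⁻¹)) * z⁻¹ = u * (z * u * z⁻¹) := by
      rw [hcomm u hu _ hv]
      simp only [hzi]
      have hv' : z * u * z ∈ H := by rwa [hzi] at hv
      calc z * (z * u * z * u) * z = (z * z) * u * z * u * z := by group
        _ = _ := by rw [hzz, one_mul, ← hcomm u hu _ hv']; group
    exact (mul_eq_one_iff_inv_eq.1 (hH.fpf hZ hab hz hz1 hw hfix)).symm
  have := finite_of_zas hZ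
  obtain ⟨u, hu, hu1⟩ := (Subgroup.bot_or_exists_ne_one H).resolve_left (hH.ne_bot hZ)
  by_contra hne
  refine hu1 (hH.fpf hZ hab (mul_mem (inv_mem hz') hz) (fun h => hne (inv_mul_eq_one.1 h).symm) hu ?_)
  calc z'⁻¹ * z * u * (z'⁻¹ * z)⁻¹ = z'⁻¹ * (z * u * z⁻¹) * z' := by group
    _ = z'⁻¹ * (z' * u * z'⁻¹) * z' := by rw [key z hz hzo u hu, key z' hz' hzo' u hu]
    _ = u := by group

theorem swap_set_card [Fintype G] [DecidableEq Ω] (hZ : Cfsg.IsZassenhausGroup G Ω) (hab : a ≠ b) :
    (Finset.univ.filter fun x : G => x • a = b ∧ x • b = a).card =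
      Nat.card ↥(stabilizer G a ⊓ stabilizer G b) := by
  obtain ⟨s, hsa, hsb⟩ := H33.zas_map_pair hZ hab hab.symm
  rw [← Fintype.card_subtype, ← Nat.card_eq_fintype_card]
  refine Nat.card_congr (((Equiv.mulLeft s⁻¹).subtypeEquiv fun x => ?_))
  show _ ↔ s⁻¹ * x ∈ stabilizer G a ⊓ stabilizer G b
  rw [mem_two, mul_smul, mul_smul, inv_smul_eq_iff, inv_smul_eq_iff, hsa, hsb]

/-- In the half case with `e` even, every swap is an involution with two fixed points. -/
theorem half_even_swap (hH : IsKer a H) (hZ : Cfsg.IsZassenhausGroup G Ω) (hab : a ≠ b)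
    (hcomm : ∀ u ∈ H, ∀ v ∈ H, u * v = v * u)
    (hhalf : 2 * Nat.card ↥(stabilizer G a ⊓ stabilizer G b) + 1 = Nat.card H)
    (heven : Even (Nat.card ↥(stabilizer G a ⊓ stabilizer G b))) {s : G} (hsa : s • a = b)
    (hsb : s • b = a) : orderOf s = 2 ∧ ∃ c : Ω, s • c = c := by
  classical
  have := finite_of_zas hZ
  have := Fintype.ofFinite G
  have := Fintype.ofFinite Ω
  have : Fact (Nat.Prime 2) := ⟨Nat.prime_two⟩
  set e := Nat.card ↥(stabilizer G a ⊓ stabilizer G b) with he
  have hΩ : Fintype.card Ω = 2 * e + 2 := by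
    rw [← Nat.card_eq_fintype_card, ← hH.card]; omega
  obtain ⟨⟨z, hz⟩, hzo⟩ := exists_prime_orderOf_dvd_card' 2 (even_iff_two_dvd.1 heven)
  rw [Subgroup.orderOf_mk] at hzo
  set J := Finset.univ.filter fun x : G =>
    orderOf x = 2 ∧ ∃ c d : Ω, c ≠ d ∧ x • c = c ∧ x • d = d with hJ
  have hJmem : ∀ x, x ∈ J ↔ orderOf x = 2 ∧ ∃ c d : Ω, c ≠ d ∧ x • c = c ∧ x • d = d :=
    fun x => by simp [hJ]
  have hne1 : ∀ x ∈ J, x ≠ 1 := fun x hx h => by
    have := ((hJmem x).1 hx).1
    rw [h, orderOf_one] at this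
    omega
  set P := (Finset.univ : Finset Ω).offDiag with hP
  have hPc : P.card = (2 * e + 2) * (2 * e + 1) := by
    rw [hP, Finset.offDiag_card, Finset.card_univ, hΩ,
      show (2 * e + 2) * (2 * e + 2) = (2 * e + 2) * (2 * e + 1) + (2 * e + 2) by ring,
      Nat.add_sub_cancel]
  -- `2 |J| = |P|`
  have hJP : J.card * 2 = P.card * 1 := by
    refine Finset.card_mul_eq_card_mul
      (fun (x : G) (q : Ω × Ω) => x • q.1 = q.1 ∧ x • q.2 = q.2) (fun x hx => ?_) (fun q hq => ?_)
    · obtain ⟨-, c, d, hcd, hc, hd⟩ := (hJmem x).1 hx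
      have hfix := H33.zas_fixed_of_pair hZ (hne1 x hx) hcd hc hd
      have : P.bipartiteAbove (fun (x : G) (q : Ω × Ω) => x • q.1 = q.1 ∧ x • q.2 = q.2) x =
          {(c, d), (d, c)} := by
        ext ⟨p, q⟩
        have hp : x • p = p ↔ p = c ∨ p = d := by
          rw [← MulAction.mem_fixedBy, hfix]; simp
        have hq : x • q = q ↔ q = c ∨ q = d := by
          rw [← MulAction.mem_fixedBy, hfix]; simp
        simp only [Finset.mem_bipartiteAbove, hP, Finset.mem_offDiag, Finset.mem_univ, true_and,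
          hp, hq, Finset.mem_insert, Finset.mem_singleton, Prod.mk.injEq]
        constructor
        · rintro ⟨hne, rfl | rfl, rfl | rfl⟩ <;> simp_all
        · rintro (⟨rfl, rfl⟩ | ⟨rfl, rfl⟩)
          · exact ⟨hcd, Or.inl rfl, Or.inr rfl⟩
          · exact ⟨hcd.symm, Or.inr rfl, Or.inl rfl⟩
      rw [this, Finset.card_pair fun h => hcd (Prod.ext_iff.1 h).1]
    · obtain ⟨c, d⟩ := q
      have hcd : c ≠ d := (Finset.mem_offDiag.1 hq).2.2
      obtain ⟨k, hkc, hkd⟩ := H33.zas_map_pair hZ hab hcd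
      obtain ⟨hza, hzb⟩ := mem_two.1 hz
      refine Finset.card_eq_one.2 ⟨k * z * k⁻¹, ?_⟩
      have hc' : (k * z * k⁻¹) • c = c := by rw [← hkc, mul_smul, mul_smul, inv_smul_smul, hza]
      have hd' : (k * z * k⁻¹) • d = d := by rw [← hkd, mul_smul, mul_smul, inv_smul_smul, hzb]
      have ho : orderOf (k * z * k⁻¹) = 2 := by
        rw [show k * z * k⁻¹ = MulAut.conj k z from rfl, MulEquiv.orderOf_eq, hzo]
      ext x
      simp only [Finset.mem_bipartiteBelow, Finset.mem_singleton, hJmem]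
      refine ⟨fun hx => ?_, fun h => by rw [h]; exact ⟨⟨ho, c, d, hcd, hc', hd'⟩, hc', hd'⟩⟩
      have hm : k⁻¹ * x * k ∈ stabilizer G a ⊓ stabilizer G b := mem_two.2
        ⟨by rw [mul_smul, mul_smul, hkc, hx.2.1, inv_smul_eq_iff, hkc],
         by rw [mul_smul, mul_smul, hkd, hx.2.2, inv_smul_eq_iff, hkd]⟩
      have ho' : orderOf (k⁻¹ * x * k) = 2 := by
        rw [show k⁻¹ * x * k = MulAut.conj k⁻¹ x by simp [MulAut.conj_apply], MulEquiv.orderOf_eq,
          hx.1.1]
      rw [← invol_two_unique hH hZ hab hcomm hm ho' hz hzo]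
      group
  -- every moved pair carries the same number of elements of `J`
  set cnt := (J.filter fun x => x • a = b).card with hcnt
  have hJmove : J.card * (2 * e) = P.card * cnt := by
    refine Finset.card_mul_eq_card_mul (fun (x : G) (q : Ω × Ω) => x • q.1 = q.2)
      (fun x hx => ?_) (fun q hq => ?_)
    · obtain ⟨-, c, d, hcd, hc, hd⟩ := (hJmem x).1 hx
      have hfix := H33.zas_fixed_of_pair hZ (hne1 x hx) hcd hc hd
      have : P.bipartiteAbove (fun (x : G) (q : Ω × Ω) => x • q.1 = q.2) x =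
          (Finset.univ \ {c, d}).image fun p => (p, x • p) := by
        ext ⟨p, q⟩
        have hp : x • p = p ↔ p = c ∨ p = d := by
          rw [← MulAction.mem_fixedBy, hfix]; simp
        simp only [Finset.mem_bipartiteAbove, hP, Finset.mem_offDiag, Finset.mem_univ, true_and,
          Finset.mem_image, Finset.mem_sdiff, Finset.mem_insert, Finset.mem_singleton, Prod.mk.injEq]
        constructor
        · rintro ⟨hne, rfl⟩
          exact ⟨p, fun h => hne (hp.2 h).symm, rfl, rfl⟩
        · rintro ⟨p', hp', rfl, rfl⟩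
          exact ⟨fun h => hp' (hp.1 h.symm), rfl⟩
      rw [this, Finset.card_image_of_injective _ (fun p q h => (Prod.ext_iff.1 h).1),
        Finset.card_univ_sdiff, hΩ, Finset.card_pair hcd, Nat.add_sub_cancel]
    · obtain ⟨c, d⟩ := q
      obtain ⟨k, hkc, hkd⟩ := H33.zas_map_pair hZ hab (Finset.mem_offDiag.1 hq).2.2
      rw [hcnt]
      refine (Finset.card_equiv (MulAut.conj k).toEquiv fun x => ?_).symm
      simp only [Finset.mem_filter, Finset.mem_bipartiteBelow, hJmem, MulEquiv.toEquiv_eq_coe,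
        EquivLike.coe_coe, MulEquiv.orderOf_eq]
      rw [MulAut.conj_apply]
      refine and_congr (and_congr_right fun _ => ?_) ?_
      · constructor
        · rintro ⟨p, q, hpq, hp, hq'⟩
          refine ⟨k • p, k • q, fun h => hpq (MulAction.injective k h), ?_, ?_⟩
          · rw [mul_smul, mul_smul, inv_smul_smul, hp]
          · rw [mul_smul, mul_smul, inv_smul_smul, hq']
        · rintro ⟨p, q, hpq, hp, hq'⟩
          refine ⟨k⁻¹ • p, k⁻¹ • q, fun h => hpq (MulAction.injective k⁻¹ h), ?_, ?_⟩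
          · rw [mul_smul, mul_smul] at hp; exact eq_inv_smul_iff.2 hp
          · rw [mul_smul, mul_smul] at hq'; exact eq_inv_smul_iff.2 hq'
      · show _ ↔ (k * x * k⁻¹) • c = d
        have hkc' : k • a = c := hkc
        have hkd' : k • b = d := hkd
        rw [← hkc', ← hkd', mul_smul, mul_smul, inv_smul_smul]
        exact ⟨fun h => by rw [h], fun h => MulAction.injective k h⟩
  have hcnt_eq : cnt = e := by
    have hpos : 0 < P.card := by rw [hPc]; positivity
    have h1 : P.card * cnt = P.card * e := by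
      rw [← hJmove, ← mul_assoc, hJP, mul_one]
    exact Nat.eq_of_mul_eq_mul_left hpos h1
  have hsub : (J.filter fun x => x • a = b) ⊆
      Finset.univ.filter fun x : G => x • a = b ∧ x • b = a := fun x hx => by
    obtain ⟨hxJ, hxab⟩ := Finset.mem_filter.1 hx
    exact Finset.mem_filter.2 ⟨Finset.mem_univ _, hxab,
      by rw [← hxab, invol_smul_smul ((hJmem x).1 hxJ).1]⟩
  have heq := Finset.eq_of_subset_of_card_le hsub
    (le_of_eq ((swap_set_card hZ hab).trans hcnt_eq.symm))
  have hs : s ∈ J.filter fun x => x • a = b := by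
    rw [heq]; exact Finset.mem_filter.2 ⟨Finset.mem_univ _, hsa, hsb⟩
  obtain ⟨ho, c, d, -, hc, -⟩ := (hJmem s).1 (Finset.mem_filter.1 hs).1
  exact ⟨ho, c, hc⟩

/-- In the half case `E` is inverted by every swap and every swap is an involution. -/
theorem half_inverted (hH : IsKer a H) (hZ : Cfsg.IsZassenhausGroup G Ω) (hab : a ≠ b)
    (hcomm : ∀ u ∈ H, ∀ v ∈ H, u * v = v * u)
    (hhalf : 2 * Nat.card ↥(stabilizer G a ⊓ stabilizer G b) + 1 = Nat.card H) :
    (∀ x ∈ stabilizer G a ⊓ stabilizer G b, ∀ y ∈ stabilizer G a ⊓ stabilizer G b, x * y = y * x) ∧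
      Inverted G a b ∧ ∀ s : G, s • a = b → s • b = a → orderOf s = 2 := by
  rcases Nat.even_or_odd (Nat.card ↥(stabilizer G a ⊓ stabilizer G b)) with he | ho
  · have hsw : ∀ s : G, s • a = b → s • b = a → s * s = 1 := fun s h1 h2 => by
      rw [← pow_two, ← (half_even_swap hH hZ hab hcomm hhalf he h1 h2).1, pow_orderOf_eq_one]
    have hinv : Inverted G a b := fun s hsa hsb x hx => by
      obtain ⟨hxa, hxb⟩ := mem_two.1 hx
      have h1 := hsw s hsa hsb
      have h2 := hsw (s * x) (by rw [mul_smul, hxa, hsa]) (by rw [mul_smul, hxb, hsb])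
      rw [eq_inv_iff_mul_eq_one, inv_eq_of_mul_eq_one_right h1]
      calc s * x * s * x = (s * x) * (s * x) := by group
        _ = 1 := h2
    refine ⟨fun x hx y hy => ?_, hinv, fun s h1 h2 => (half_even_swap hH hZ hab hcomm hhalf he h1 h2).1⟩
    obtain ⟨s, hsa, hsb⟩ := H33.zas_map_pair hZ hab hab.symm
    have h : s * (x * y) * s⁻¹ = x⁻¹ * y⁻¹ := by
      rw [show s * (x * y) * s⁻¹ = (s * x * s⁻¹) * (s * y * s⁻¹) by group, hinv s hsa hsb x hx,
        hinv s hsa hsb y hy]
    rw [hinv s hsa hsb _ (mul_mem hx hy), mul_inv_rev] at h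
    have := congrArg Inv.inv h
    simpa using this
  · have := simple_of_half hH hZ hab hcomm hhalf
    obtain ⟨hcyc, -, hinv⟩ := inverted_of_simple hZ hab ho
    exact ⟨fun x hx y hy => congrArg Subtype.val
      (hcyc.isMulCommutative.is_comm.comm ⟨x, hx⟩ ⟨y, hy⟩), hinv,
      fun s h1 h2 => swap_orderOf hab ho hinv h1 h2⟩

end Cfsg.Agent.H28.Zass
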