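import Cfsg.Agent.H28.ZassTwoPoint

/-!
Involutions of a Zassenhaus group whose two-point stabiliser has odd order and is inverted by
every interchanging element.
-/

set_option autoImplicit false

namespace Cfsg.Agent.H28.Zass

open MulAction Finset

variable {G Ω : Type*} [Group G] [MulAction G Ω] [Finite Ω] {a b : Ω}

/-- `E` is inverted by every element interchanging `a` and `b`. -/
def Inverted (G : Type*) [Group G] {Ω : Type*} [MulAction G Ω] (a b : Ω) : Prop :=
  ∀ s : G, s • a = b → s • b = a → ∀ x ∈ stabilizer G a ⊓ stabilizer G b, s * x * s⁻¹ = x⁻¹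

theorem inverted_of_simple [IsSimpleGroup G] (hZ : Cfsg.IsZassenhausGroup G Ω) (hab : a ≠ b)
    (hodd : Odd (Nat.card ↥(stabilizer G a ⊓ stabilizer G b))) :
    IsCyclic ↥(stabilizer G a ⊓ stabilizer G b) ∧
      Subgroup.centralizer ((stabilizer G a ⊓ stabilizer G b : Subgroup G) : Set G) =
        stabilizer G a ⊓ stabilizer G b ∧ Inverted G a b :=
  two_structure hZ hab hodd (no_complement_of_simple hZ hab hodd)

theorem card_two (hZ : Cfsg.IsZassenhausGroup G Ω) {a b c d : Ω} (hab : a ≠ b) (hcd : c ≠ d) :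
    Nat.card ↥(stabilizer G c ⊓ stabilizer G d) = Nat.card ↥(stabilizer G a ⊓ stabilizer G b) := by
  obtain ⟨k, hka, hkb⟩ := H33.zas_map_pair hZ hab hcd
  have : (stabilizer G a ⊓ stabilizer G b).map (MulAut.conj k).toMonoidHom =
      stabilizer G c ⊓ stabilizer G d := by
    ext g
    constructor
    · rintro ⟨x, hx, rfl⟩
      obtain ⟨hxa, hxb⟩ := mem_two.1 hx
      refine mem_two.2 ⟨?_, ?_⟩
      · show (k * x * k⁻¹) • c = c
        rw [← hka, mul_smul, mul_smul, inv_smul_smul, hxa]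
      · show (k * x * k⁻¹) • d = d
        rw [← hkb, mul_smul, mul_smul, inv_smul_smul, hxb]
    · intro hg
      obtain ⟨hgc, hgd⟩ := mem_two.1 hg
      refine ⟨k⁻¹ * g * k, mem_two.2 ⟨?_, ?_⟩, ?_⟩
      · rw [mul_smul, mul_smul, hka, hgc, inv_smul_eq_iff, hka]
      · rw [mul_smul, mul_smul, hkb, hgd, inv_smul_eq_iff, hkb]
      · show k * (k⁻¹ * g * k) * k⁻¹ = g
        group
  rw [← this, Subgroup.card_map_of_injective (MulAut.conj k).injective]

theorem eq_one_of_sq_of_odd (hodd : Odd (Nat.card ↥(stabilizer G a ⊓ stabilizer G b))) {x : G}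
    (hx : x ∈ stabilizer G a ⊓ stabilizer G b) (h : x ^ 2 = 1) : x = 1 := by
  have h7 : orderOf x ∣ Nat.gcd 2 (Nat.card ↥(stabilizer G a ⊓ stabilizer G b)) :=
    Nat.dvd_gcd (orderOf_dvd_of_pow_eq_one h) (Subgroup.orderOf_dvd_natCard _ hx)
  rwa [(Nat.coprime_two_left.2 hodd).gcd_eq_one, Nat.dvd_one, orderOf_eq_one_iff] at h7

/-- Every interchanging element is an involution. -/
theorem swap_orderOf (hab : a ≠ b) (hodd : Odd (Nat.card ↥(stabilizer G a ⊓ stabilizer G b)))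
    (hinv : Inverted G a b) {s : G} (hsa : s • a = b) (hsb : s • b = a) : orderOf s = 2 := by
  have hs2 : s * s ∈ stabilizer G a ⊓ stabilizer G b :=
    mem_two.2 ⟨by rw [mul_smul, hsa, hsb], by rw [mul_smul, hsb, hsa]⟩
  have h := hinv s hsa hsb (s * s) hs2
  have h2 : (s * s) ^ 2 = 1 := by
    rw [pow_two]
    have : s * (s * s) * s⁻¹ = s * s := by group
    rw [this] at h
    exact eq_inv_iff_mul_eq_one.1 h
  refine orderOf_eq_prime (hp := ⟨Nat.prime_two⟩) ?_ ?_
  · rw [pow_two]; exact eq_one_of_sq_of_odd hodd hs2 h2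
  · intro h1
    rw [h1, one_smul] at hsa
    exact hab hsa

theorem exists_moved (hZ : Cfsg.IsZassenhausGroup G Ω) {x : G} (hx : x ≠ 1) :
    ∃ c : Ω, x • c ≠ c := by
  have := hZ.1
  by_contra h
  push Not at h
  exact hx (eq_of_smul_eq_smul fun c : Ω => by rw [h c, one_smul])

theorem invol_smul_smul {x : G} (hx : orderOf x = 2) (c : Ω) : x • x • c = c := by
  rw [smul_smul, ← pow_two, ← hx, pow_orderOf_eq_one, one_smul]

theorem swap_conj (hab : a ≠ b) (hodd : Odd (Nat.card ↥(stabilizer G a ⊓ stabilizer G b)))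
    (hinv : Inverted G a b) {s t : G} (hsa : s • a = b) (hsb : s • b = a) (hta : t • a = b)
    (htb : t • b = a) : IsConj s t := by
  have hy : s⁻¹ * t ∈ stabilizer G a ⊓ stabilizer G b :=
    mem_two.2 ⟨by rw [mul_smul, hta, inv_smul_eq_iff, hsa], by rw [mul_smul, htb, inv_smul_eq_iff, hsb]⟩
  obtain ⟨r, hr⟩ := hodd
  set y := s⁻¹ * t with hydef
  have hz : (y ^ (r + 1)) ^ 2 = y := by
    have h1 : y ^ (2 * r + 1) = 1 := by
      rw [← orderOf_dvd_iff_pow_eq_one, ← hr]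
      exact Subgroup.orderOf_dvd_natCard _ hy
    rw [← pow_mul, show (r + 1) * 2 = (2 * r + 1) + 1 by ring, pow_succ, h1, one_mul]
  set z := y ^ (r + 1) with hzdef
  have hzE : z ∈ stabilizer G a ⊓ stabilizer G b := pow_mem hy _
  rw [isConj_iff]
  refine ⟨z⁻¹, ?_⟩
  have hs1 := swap_orderOf hab ⟨r, hr⟩ hinv hsa hsb
  have hss : s * s = 1 := by rw [← pow_two, ← hs1, pow_orderOf_eq_one]
  have h := hinv s hsa hsb z⁻¹ (inv_mem hzE)
  rw [inv_inv] at h
  calc z⁻¹ * s * z⁻¹⁻¹ = (s * s) * z⁻¹ * s * z := by rw [hss]; group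
    _ = s * (s * z⁻¹ * s⁻¹) * (s * s) * z := by group
    _ = s * z * z := by rw [hss, h]; group
    _ = t := by rw [mul_assoc, ← pow_two, hz, hydef]; group

theorem invol_conj (hZ : Cfsg.IsZassenhausGroup G Ω) (hab : a ≠ b)
    (hodd : Odd (Nat.card ↥(stabilizer G a ⊓ stabilizer G b))) (hinv : Inverted G a b) {x y : G}
    (hx : orderOf x = 2) (hy : orderOf y = 2) : IsConj x y := by
  have key : ∀ x : G, orderOf x = 2 → ∃ s : G, s • a = b ∧ s • b = a ∧ IsConj x s := by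
    intro x hx
    have hx1 : x ≠ 1 := fun h => by simp [h] at hx
    obtain ⟨c, hc⟩ := exists_moved hZ hx1
    obtain ⟨k, hkc, hkd⟩ := H33.zas_map_pair hZ (Ne.symm hc) hab
    refine ⟨k * x * k⁻¹, ?_, ?_, isConj_iff.2 ⟨k, rfl⟩⟩
    · rw [← hkc, mul_smul, mul_smul, inv_smul_smul, hkd]
    · rw [← hkd, mul_smul, mul_smul, inv_smul_smul, invol_smul_smul hx, hkc]
  obtain ⟨s, hsa, hsb, hxs⟩ := key x hx
  obtain ⟨t, hta, htb, hyt⟩ := key y hy
  exact hxs.trans ((swap_conj hab hodd hinv hsa hsb hta htb).trans hyt.symm)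

theorem invol_swap_card (hZ : Cfsg.IsZassenhausGroup G Ω) (hab : a ≠ b)
    (hodd : Odd (Nat.card ↥(stabilizer G a ⊓ stabilizer G b))) (hinv : Inverted G a b) {c d : Ω}
    (hcd : c ≠ d) :
    Nat.card {x : G // orderOf x = 2 ∧ x • c = d} =
      Nat.card ↥(stabilizer G a ⊓ stabilizer G b) := by
  obtain ⟨k, hkc, hkd⟩ := H33.zas_map_pair hZ hab hcd
  obtain ⟨s, hsa, hsb⟩ := H33.zas_map_pair hZ hab hab.symm
  have hmap : ∀ y : ↥(stabilizer G a ⊓ stabilizer G b),
      orderOf (k * (s * y) * k⁻¹) = 2 ∧ (k * (s * y) * k⁻¹) • c = d := by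
    intro y
    obtain ⟨hya, hyb⟩ := mem_two.1 y.2
    refine ⟨?_, ?_⟩
    · rw [show k * (s * (y : G)) * k⁻¹ = MulAut.conj k (s * y) from rfl, MulEquiv.orderOf_eq]
      exact swap_orderOf hab hodd hinv (by rw [mul_smul, hya, hsa]) (by rw [mul_smul, hyb, hsb])
    · rw [mul_smul, mul_smul, ← hkc, inv_smul_smul, mul_smul, hya, hsa, hkd]
  refine (Nat.card_congr (Equiv.ofBijective (fun y => ⟨_, hmap y⟩) ⟨?_, ?_⟩)).symm
  · intro y y' h
    simpa using congrArg Subtype.val h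
  · rintro ⟨x, hx, hxc⟩
    have hxd : x • d = c := by rw [← hxc, invol_smul_smul hx]
    refine ⟨⟨s⁻¹ * (k⁻¹ * x * k), mem_two.2 ⟨?_, ?_⟩⟩, Subtype.ext ?_⟩
    · rw [mul_smul, mul_smul, mul_smul, hkc, hxc, inv_smul_eq_iff.2 hkd.symm, inv_smul_eq_iff, hsa]
    · rw [mul_smul, mul_smul, mul_smul, hkd, hxd, inv_smul_eq_iff.2 hkc.symm, inv_smul_eq_iff, hsb]
    · show k * (s * (s⁻¹ * (k⁻¹ * x * k))) * k⁻¹ = x
      group

theorem invol_fixed (hZ : Cfsg.IsZassenhausGroup G Ω) (hab : a ≠ b)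
    (hodd : Odd (Nat.card ↥(stabilizer G a ⊓ stabilizer G b))) {x : G} (hx : orderOf x = 2) :
    (fixedBy Ω x).ncard = if Odd (Nat.card Ω) then 1 else 0 := by
  have := finite_of_zas hZ
  have hx1 : x ≠ 1 := fun h => by simp [h] at hx
  have hle : (fixedBy Ω x).ncard ≤ 2 := by
    rw [← Nat.card_coe_set_eq]; exact H33.zas_ncard_fixedBy_le hZ hx1
  have hne2 : (fixedBy Ω x).ncard ≠ 2 := by
    intro h2
    obtain ⟨c, d, hcd, he⟩ := Set.ncard_eq_two.1 h2
    have hc : c ∈ fixedBy Ω x := by rw [he]; exact Or.inl rfl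
    have hd : d ∈ fixedBy Ω x := by rw [he]; exact Or.inr rfl
    exact hx1 (eq_one_of_sq_of_odd (a := c) (b := d) (by rwa [card_two hZ hab hcd])
      (mem_two.2 ⟨hc, hd⟩) (hx ▸ pow_orderOf_eq_one x))
  have hp : IsPGroup 2 (Subgroup.zpowers x) :=
    IsPGroup.of_card (n := 1) (by rw [Nat.card_zpowers, hx, pow_one])
  have : Fact (Nat.Prime 2) := ⟨Nat.prime_two⟩
  have h := hp.card_modEq_card_fixedPoints Ω
  have e : fixedPoints (Subgroup.zpowers x) Ω = fixedBy Ω x := by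
    ext w
    refine ⟨fun hw => hw ⟨x, Subgroup.mem_zpowers x⟩, fun hw k => ?_⟩
    exact (Subgroup.zpowers_le.2 (show x ∈ stabilizer G w from hw)) k.2
  rw [e, Nat.card_coe_set_eq] at h
  unfold Nat.ModEq at h
  split_ifs with ho
  · rw [Nat.odd_iff] at ho; omega
  · rw [Nat.not_odd_iff] at ho; omega

theorem invol_card_mul (hZ : Cfsg.IsZassenhausGroup G Ω) (hab : a ≠ b)
    (hodd : Odd (Nat.card ↥(stabilizer G a ⊓ stabilizer G b))) (hinv : Inverted G a b) :
    Nat.card {x : G // orderOf x = 2} * (Nat.card Ω - if Odd (Nat.card Ω) then 1 else 0) =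
      Nat.card Ω * (Nat.card Ω - 1) * Nat.card ↥(stabilizer G a ⊓ stabilizer G b) := by
  classical
  have := finite_of_zas hZ
  have := Fintype.ofFinite G
  have := Fintype.ofFinite Ω
  have h1 : Nat.card (Σ x : {x : G // orderOf x = 2}, {c : Ω // x.1 • c ≠ c}) =
      Nat.card {x : G // orderOf x = 2} * (Nat.card Ω - if Odd (Nat.card Ω) then 1 else 0) := by
    rw [Nat.card_sigma, Finset.sum_congr rfl (g := fun _ =>
      Nat.card Ω - if Odd (Nat.card Ω) then 1 else 0), Finset.sum_const, Finset.card_univ,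
      smul_eq_mul, ← Nat.card_eq_fintype_card]
    intro x _
    rw [← invol_fixed hZ hab hodd x.2, Nat.card_eq_fintype_card, Fintype.card_subtype_compl,
      ← Nat.card_coe_set_eq (fixedBy Ω (x : G)), Nat.card_eq_fintype_card,
      Nat.card_eq_fintype_card]
    rfl
  let f : (Σ x : {x : G // orderOf x = 2}, {c : Ω // x.1 • c ≠ c}) →
      Σ p : {p : Ω × Ω // p.1 ≠ p.2}, {x : G // orderOf x = 2 ∧ x • p.1.1 = p.1.2} :=
    fun t => ⟨⟨(t.2.1, t.1.1 • t.2.1), fun h => t.2.2 h.symm⟩, ⟨t.1.1, t.1.2, rfl⟩⟩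
  have hf : Function.Bijective f := by
    constructor
    · rintro ⟨⟨x, hx⟩, ⟨c, hc⟩⟩ ⟨⟨y, hy⟩, ⟨d, hd⟩⟩ h
      have h' := congrArg (fun t => ((t.1 : Ω × Ω).1, (t.2 : G))) h
      simp only [f, Prod.mk.injEq] at h'
      obtain ⟨rfl, rfl⟩ := h'
      rfl
    · rintro ⟨⟨⟨c, d⟩, hcd⟩, ⟨x, hx, hxc⟩⟩
      simp only at hxc
      subst hxc
      exact ⟨⟨⟨x, hx⟩, ⟨c, fun h => hcd h.symm⟩⟩, rfl⟩
  rw [← h1, Nat.card_eq_of_bijective f hf, Nat.card_sigma,
    Finset.sum_congr rfl (g := fun _ => Nat.card ↥(stabilizer G a ⊓ stabilizer G b)),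
    Finset.sum_const, Finset.card_univ, smul_eq_mul]
  · congr 1
    have hoff := Finset.offDiag_card (s := (Finset.univ : Finset Ω))
    rw [Finset.card_univ, ← Nat.card_eq_fintype_card] at hoff
    rw [Nat.mul_sub, Nat.mul_one, ← hoff, Fintype.card_subtype]
    congr 1; ext p; simp [Finset.mem_offDiag]
  · intro p _
    exact invol_swap_card hZ hab hodd hinv p.2

theorem invol_count (hZ : Cfsg.IsZassenhausGroup G Ω) (hab : a ≠ b)
    (hodd : Odd (Nat.card ↥(stabilizer G a ⊓ stabilizer G b))) (hinv : Inverted G a b) (h : ℕ)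
    (hh : Nat.card Ω = h + 1) :
    Nat.card {x : G // orderOf x = 2} =
      if Even h then Nat.card ↥(stabilizer G a ⊓ stabilizer G b) * (h + 1)
      else Nat.card ↥(stabilizer G a ⊓ stabilizer G b) * h := by
  have h3 := H33.zas_three_le_card hZ
  have hm := invol_card_mul hZ hab hodd hinv
  rw [hh] at hm h3
  simp only [Nat.odd_add_one, Nat.not_odd_iff_even, Nat.add_sub_cancel] at hm
  split_ifs with he
  · rw [if_pos he, Nat.add_sub_cancel] at hm
    apply Nat.eq_of_mul_eq_mul_right (show 0 < h by omega)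
    rw [hm]; ring
  · rw [if_neg he, Nat.sub_zero] at hm
    apply Nat.eq_of_mul_eq_mul_right (show 0 < h + 1 by omega)
    rw [hm]; ring

/-- Involutions fixing a given point, for odd degree: exactly `|E|` of them, all in the kernel. -/
theorem invol_fix_card (hZ : Cfsg.IsZassenhausGroup G Ω) (hab : a ≠ b)
    (hodd : Odd (Nat.card ↥(stabilizer G a ⊓ stabilizer G b))) (hinv : Inverted G a b)
    (hΩ : Odd (Nat.card Ω)) (c : Ω) :
    Nat.card {x : G // orderOf x = 2 ∧ x • c = c} =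
      Nat.card ↥(stabilizer G a ⊓ stabilizer G b) := by
  classical
  have := finite_of_zas hZ
  have := Fintype.ofFinite G
  have := Fintype.ofFinite Ω
  have heq : ∀ d : Ω, Nat.card {x : G // orderOf x = 2 ∧ x • d = d} =
      Nat.card {x : G // orderOf x = 2 ∧ x • c = c} := by
    intro d
    have htr : IsPretransitive G Ω := isPretransitive_of_is_two_pretransitive (h2 := hZ.2.1)
    obtain ⟨k, hk⟩ := htr.exists_smul_eq d c
    refine Nat.card_congr ((MulAut.conj k).toEquiv.subtypeEquiv fun x => ?_)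
    show _ ↔ orderOf (MulAut.conj k x) = 2 ∧ (k * x * k⁻¹) • c = c
    rw [MulEquiv.orderOf_eq, ← hk, mul_smul, mul_smul, inv_smul_smul]
    exact and_congr_right fun _ => ⟨fun h => by rw [h], fun h => MulAction.injective k h⟩
  have h1 : Nat.card (Σ x : {x : G // orderOf x = 2}, {d : Ω // x.1 • d = d}) =
      Nat.card {x : G // orderOf x = 2} := by
    rw [Nat.card_sigma, Finset.sum_congr rfl (g := fun _ => 1), Finset.sum_const, Finset.card_univ,
      smul_eq_mul, mul_one, Nat.card_eq_fintype_card]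
    intro x _
    have h2 := invol_fixed hZ hab hodd x.2
    rw [if_pos hΩ, ← Nat.card_coe_set_eq] at h2
    exact h2
  let f : (Σ d : Ω, {x : G // orderOf x = 2 ∧ x • d = d}) ≃
      Σ x : {x : G // orderOf x = 2}, {d : Ω // x.1 • d = d} :=
    { toFun := fun t => ⟨⟨t.2.1, t.2.2.1⟩, ⟨t.1, t.2.2.2⟩⟩
      invFun := fun t => ⟨t.2.1, ⟨t.1.1, t.1.2, t.2.2⟩⟩ }
  have h2 := (Nat.card_congr f).trans h1
  rw [Nat.card_sigma, Finset.sum_congr rfl (fun d _ => heq d), Finset.sum_const, Finset.card_univ,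
    smul_eq_mul, ← Nat.card_eq_fintype_card] at h2
  have h3 := H33.zas_three_le_card hZ
  obtain ⟨h, hh⟩ : ∃ h, Nat.card Ω = h + 1 := ⟨Nat.card Ω - 1, by omega⟩
  have heven : Even h := by
    rw [hh, Nat.odd_add_one, Nat.not_odd_iff_even] at hΩ; exact hΩ
  rw [invol_count hZ hab hodd hinv h hh, if_pos heven, ← hh, mul_comm _ (Nat.card Ω)] at h2
  exact Nat.eq_of_mul_eq_mul_left (by omega) h2

end Cfsg.Agent.H28.Zass
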