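import Cfsg.Agent.H28.ZassFeit
import Cfsg.Agent.S0339
import Cfsg.Agent.S0741

/-!
A Zassenhaus group has a simple normal subgroup containing every kernel; consequences for
abelian kernels.
-/

set_option autoImplicit false

namespace Cfsg.Agent.H28.Zass

open MulAction

universe u

variable {G : Type u} {Ω : Type*} [Group G] [MulAction G Ω] [Finite Ω] {a b : Ω} {H : Subgroup G}

/-- The kernel lies in every non-trivial normal subgroup. -/
theorem IsKer.le_normal (hH : IsKer a H) (hZ : Cfsg.IsZassenhausGroup G Ω) (N : Subgroup G)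
    [N.Normal] (hN : N ≠ ⊥) : H ≤ N := by
  have := finite_of_zas hZ
  have hZN := S0339.result hZ N hN
  obtain ⟨K, hK, -⟩ := exists_ker hZN a
  have hle : K.map N.subtype ≤ H := by
    rintro _ ⟨k, hk, rfl⟩
    refine (hH.mem_iff hZ).2 ⟨hK.le hk, or_iff_not_imp_left.2 fun h c hc => ?_⟩
    exact hK.fix k hk (fun h1 => h (congrArg Subtype.val h1)) c hc
  have hcard : Nat.card (K.map N.subtype) = Nat.card H := by
    rw [Subgroup.card_map_of_injective N.subtype_injective]
    have h1 := hK.card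
    have h2 := hH.card
    omega
  rw [← Subgroup.eq_of_le_of_card_ge hle hcard.ge]
  exact Subgroup.map_subtype_le K

theorem IsKer.sub (hH : IsKer a H) (N : Subgroup G) (hle : H ≤ N) : IsKer a (H.subgroupOf N) where
  le := fun _ hu => hH.le hu
  card := by
    rw [Nat.card_congr (Subgroup.subgroupOfEquivOfLe hle).toEquiv]
    exact hH.card
  fix := fun u hu hu1 c hc => hH.fix u hu (fun h => hu1 (Subtype.ext h)) c hc

/-- There is a simple normal subgroup containing the kernels of all points. -/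
theorem exists_simple_normal (hZ : Cfsg.IsZassenhausGroup G Ω) :
    ∃ M : Subgroup G, M.Normal ∧ M ≠ ⊥ ∧ IsSimpleGroup M ∧ Cfsg.IsZassenhausGroup M Ω ∧
      ∀ (c : Ω) (K : Subgroup G), IsKer c K → K ≤ M := by
  have := finite_of_zas hZ
  obtain ⟨g, hg, a, b, -, -, -⟩ := hZ.2.2.2.1
  let S : Set G := {u | ∃ (c : Ω) (K : Subgroup G), IsKer c K ∧ u ∈ K}
  let M := Subgroup.closure S
  have hconj : ∀ (k u : G), u ∈ S → k * u * k⁻¹ ∈ S := by
    rintro k u ⟨c, K, hK, hu⟩
    obtain ⟨K', hK', hmem⟩ := exists_ker hZ (k • c)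
    refine ⟨k • c, K', hK', (hmem _).2 ⟨?_, ?_⟩⟩
    · rw [mul_smul, mul_smul, inv_smul_smul, (hK.le hu : u • c = c)]
    · refine or_iff_not_imp_left.2 fun h d hd => ?_
      rw [← inv_smul_eq_iff]
      refine hK.fix u hu (fun h1 => h (by rw [h1]; group)) _ ?_
      rw [mul_smul, mul_smul] at hd
      exact eq_inv_smul_iff.2 hd
  have hMn : M.Normal := by
    constructor
    intro u hu k
    have : M.map (MulAut.conj k).toMonoidHom ≤ M := by
      rw [MonoidHom.map_closure]
      refine Subgroup.closure_le _ |>.2 ?_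
      rintro _ ⟨v, hv, rfl⟩
      exact Subgroup.subset_closure (hconj k v hv)
    exact this ⟨u, hu, rfl⟩
  have hker : ∀ (c : Ω) (K : Subgroup G), IsKer c K → K ≤ M :=
    fun c K hK u hu => Subgroup.subset_closure ⟨c, K, hK, hu⟩
  have hM : M ≠ ⊥ := by
    obtain ⟨K, hK, -⟩ := exists_ker hZ a
    exact fun h => hK.ne_bot hZ (le_bot_iff.1 (h ▸ hker a K hK))
  have hZM := S0339.result hZ M hM
  refine ⟨M, hMn, hM, ?_, hZM, hker⟩
  have : Nontrivial M := (Subgroup.nontrivial_iff_ne_bot M).2 hM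
  refine ⟨fun T hT => or_iff_not_imp_left.2 fun hTne => ?_⟩
  have := hT
  refine eq_top_iff.2 fun x _ => ?_
  have hle : M ≤ T.map M.subtype := by
    refine (Subgroup.closure_le _).2 ?_
    rintro u ⟨c, K, hK, hu⟩
    have h := (hK.sub M (hker c K hK)).le_normal hZM T hTne
    exact ⟨⟨u, hker c K hK hu⟩, h hu, rfl⟩
  obtain ⟨t, ht, hte⟩ := hle x.2
  rwa [← (Subtype.ext hte : t = x)]

theorem two_pt_sub_le [Finite G] (N : Subgroup G) :
    Nat.card ↥(stabilizer N a ⊓ stabilizer N b) ≤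
      Nat.card ↥(stabilizer G a ⊓ stabilizer G b) :=
  Nat.card_le_card_of_injective
    (fun x => ⟨((x : N) : G), Subgroup.mem_inf.2
      ⟨(Subgroup.mem_inf.1 x.2).1, (Subgroup.mem_inf.1 x.2).2⟩⟩)
    (fun x y h => Subtype.ext (Subtype.ext (by simpa using h)))

/-- For an abelian kernel, `h - 1 ≤ 2e`. -/
theorem simple_kernel_small [IsSimpleGroup G] (hH : IsKer a H)
    (hZ : Cfsg.IsZassenhausGroup G Ω) (hab : a ≠ b) (hcomm : ∀ u ∈ H, ∀ v ∈ H, u * v = v * u) :
    Nat.card H - 1 ≤ 2 * Nat.card ↥(stabilizer G a ⊓ stabilizer G b) := by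
  classical
  have := finite_of_zas hZ
  have := Fintype.ofFinite G
  have := Fintype.ofFinite Ω
  have hcard := hH.card
  rcases Nat.even_or_odd (Nat.card ↥(stabilizer G a ⊓ stabilizer G b)) with he | ho
  · have h := S0741.result hZ hab he
    rw [← Nat.card_eq_fintype_card] at h
    omega
  · by_contra hlt
    obtain ⟨hcyc, -, hinv⟩ := inverted_of_simple hZ hab ho
    obtain ⟨p, -, -, hnab, -⟩ := feit_odd hH hZ hab hcyc ho hinv (by omega)
    exact hnab ⟨⟨fun u v => Subtype.ext (hcomm u u.2 v v.2)⟩⟩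

theorem kernel_small (hH : IsKer a H) (hZ : Cfsg.IsZassenhausGroup G Ω) (hab : a ≠ b)
    (hcomm : ∀ u ∈ H, ∀ v ∈ H, u * v = v * u) :
    Nat.card H - 1 ≤ 2 * Nat.card ↥(stabilizer G a ⊓ stabilizer G b) := by
  have := finite_of_zas hZ
  obtain ⟨M, -, -, hMs, hZM, hker⟩ := exists_simple_normal hZ
  have hle := hker a H hH
  have h := simple_kernel_small (hH.sub M hle) hZM hab
    (fun u hu v hv => Subtype.ext (hcomm u hu v hv))
  rw [Nat.card_congr (Subgroup.subgroupOfEquivOfLe hle).toEquiv] at h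
  have := two_pt_sub_le (a := a) (b := b) M
  omega

/-- If the kernel is abelian and `2e + 1 = h` the group is simple. -/
theorem simple_of_half (hH : IsKer a H) (hZ : Cfsg.IsZassenhausGroup G Ω) (hab : a ≠ b)
    (hcomm : ∀ u ∈ H, ∀ v ∈ H, u * v = v * u)
    (hhalf : 2 * Nat.card ↥(stabilizer G a ⊓ stabilizer G b) + 1 = Nat.card H) :
    IsSimpleGroup G := by
  have := finite_of_zas hZ
  obtain ⟨M, -, -, hMs, hZM, hker⟩ := exists_simple_normal hZ
  have hle := hker a H hH
  have hHM := hH.sub M hle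
  have h := simple_kernel_small hHM hZM hab (fun u hu v hv => Subtype.ext (hcomm u hu v hv))
  have hc := Nat.card_congr (Subgroup.subgroupOfEquivOfLe hle).toEquiv
  rw [hc] at h
  have h2 := two_pt_sub_le (a := a) (b := b) M
  have h3 := hHM.card_group hZM hab
  have h4 := hH.card_group hZ hab
  rw [hc, show Nat.card ↥(stabilizer M a ⊓ stabilizer M b) =
    Nat.card ↥(stabilizer G a ⊓ stabilizer G b) by omega, ← h4] at h3
  have hM : M = ⊤ := Subgroup.eq_top_of_card_eq M h3
  exact (MulEquiv.isSimpleGroup_congr ((MulEquiv.subgroupCongr hM).trans Subgroup.topEquiv)).1 hMs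

end Cfsg.Agent.H28.Zass
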