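import Cfsg.Agent.H28.ZassKernel
import Cfsg.Agent.S0341

/-!
The two-point stabiliser `E` of a Zassenhaus group: trivial intersection, its normaliser, and its
structure when of odd order and no prime dividing it has a normal complement.
-/

set_option autoImplicit false

namespace Cfsg.Agent.H28.Zass

open MulAction
open scoped commutatorElement

variable {G Ω : Type*} [Group G] [MulAction G Ω] [Finite Ω] {a b : Ω}

theorem mem_two {g : G} : g ∈ stabilizer G a ⊓ stabilizer G b ↔ g • a = a ∧ g • b = b :=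
  Subgroup.mem_inf

/-- `g` fixes or interchanges `a` and `b` if it conjugates a non-identity element of `E` into `E`. -/
theorem two_cases (hZ : Cfsg.IsZassenhausGroup G Ω) (hab : a ≠ b) {g x : G}
    (hx : x ∈ stabilizer G a ⊓ stabilizer G b) (hx1 : x ≠ 1)
    (h : g * x * g⁻¹ ∈ stabilizer G a ⊓ stabilizer G b) :
    (g • a = a ∧ g • b = b) ∨ (g • a = b ∧ g • b = a) := by
  obtain ⟨hxa, hxb⟩ := mem_two.1 hx
  obtain ⟨h1, h2⟩ := mem_two.1 h
  have hy1 : g * x * g⁻¹ ≠ 1 := fun h' => hx1 (conj_eq_one_iff.1 h')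
  have hfix := H33.zas_fixed_of_pair hZ hy1 hab h1 h2
  have ha : g • a ∈ fixedBy Ω (g * x * g⁻¹) := by
    show (g * x * g⁻¹) • g • a = g • a
    rw [mul_smul, mul_smul, inv_smul_smul, hxa]
  have hb : g • b ∈ fixedBy Ω (g * x * g⁻¹) := by
    show (g * x * g⁻¹) • g • b = g • b
    rw [mul_smul, mul_smul, inv_smul_smul, hxb]
  rw [hfix] at ha hb
  have hne : g • a ≠ g • b := fun h' => hab (MulAction.injective g h')
  simp only [Set.mem_insert_iff, Set.mem_singleton_iff] at ha hb
  rcases ha with ha | ha <;> rcases hb with hb | hb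
  · exact absurd (ha.trans hb.symm) hne
  · exact Or.inl ⟨ha, hb⟩
  · exact Or.inr ⟨ha, hb⟩
  · exact absurd (ha.trans hb.symm) hne

theorem two_conj_mem {g x : G}
    (hg : (g • a = a ∧ g • b = b) ∨ (g • a = b ∧ g • b = a))
    (hx : x ∈ stabilizer G a ⊓ stabilizer G b) :
    g * x * g⁻¹ ∈ stabilizer G a ⊓ stabilizer G b := by
  obtain ⟨hxa, hxb⟩ := mem_two.1 hx
  rcases hg with ⟨h1, h2⟩ | ⟨h1, h2⟩
  · refine mem_two.2 ⟨?_, ?_⟩
    · rw [mul_smul, mul_smul, inv_smul_eq_iff.2 h1.symm, hxa, h1]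
    · rw [mul_smul, mul_smul, inv_smul_eq_iff.2 h2.symm, hxb, h2]
  · refine mem_two.2 ⟨?_, ?_⟩
    · rw [mul_smul, mul_smul, inv_smul_eq_iff.2 h2.symm, hxb, h2]
    · rw [mul_smul, mul_smul, inv_smul_eq_iff.2 h1.symm, hxa, h1]

theorem mem_normalizer_two_iff (hZ : Cfsg.IsZassenhausGroup G Ω) (hab : a ≠ b) {g : G} :
    g ∈ Subgroup.normalizer ((stabilizer G a ⊓ stabilizer G b : Subgroup G) : Set G) ↔
      (g • a = a ∧ g • b = b) ∨ (g • a = b ∧ g • b = a) := by
  constructor
  · intro hg
    obtain ⟨x, hx, hx1⟩ :=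
      (Subgroup.bot_or_exists_ne_one _).resolve_left (two_pt_ne_bot hZ hab)
    exact two_cases hZ hab hx hx1 ((Subgroup.mem_normalizer_iff.1 hg x).1 hx)
  · intro hg
    have hg' : (g⁻¹ • a = a ∧ g⁻¹ • b = b) ∨ (g⁻¹ • a = b ∧ g⁻¹ • b = a) := by
      rcases hg with ⟨h1, h2⟩ | ⟨h1, h2⟩
      · exact Or.inl ⟨inv_smul_eq_iff.2 h1.symm, inv_smul_eq_iff.2 h2.symm⟩
      · exact Or.inr ⟨inv_smul_eq_iff.2 h2.symm, inv_smul_eq_iff.2 h1.symm⟩
    rw [Subgroup.mem_normalizer_iff]
    intro x
    refine ⟨fun hx => two_conj_mem hg hx, fun hx => ?_⟩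
    have := two_conj_mem hg' hx
    simpa [mul_assoc] using this

theorem index_normalizer_two (hZ : Cfsg.IsZassenhausGroup G Ω) (hab : a ≠ b) :
    ((stabilizer G a ⊓ stabilizer G b : Subgroup G).subgroupOf
      (Subgroup.normalizer ((stabilizer G a ⊓ stabilizer G b : Subgroup G) : Set G))).index = 2 := by
  obtain ⟨s, hsa, hsb⟩ := H33.zas_map_pair hZ hab hab.symm
  rw [Subgroup.index_eq_two_iff]
  refine ⟨⟨s, (mem_normalizer_two_iff hZ hab).2 (Or.inr ⟨hsa, hsb⟩)⟩, fun g => ?_⟩
  simp only [Subgroup.mem_subgroupOf, Subgroup.coe_mul]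
  rcases (mem_normalizer_two_iff hZ hab).1 g.2 with ⟨h1, h2⟩ | ⟨h1, h2⟩
  · refine Or.inr ⟨mem_two.2 ⟨h1, h2⟩, fun h => ?_⟩
    obtain ⟨h3, -⟩ := mem_two.1 h
    rw [mul_smul, hsa, h2] at h3
    exact hab h3.symm
  · refine Or.inl ⟨mem_two.2 ⟨?_, ?_⟩, fun h => hab ((mem_two.1 h).1.symm.trans h1)⟩
    · rw [mul_smul, hsa, h2]
    · rw [mul_smul, hsb, h1]

theorem coprime_card_group (hZ : Cfsg.IsZassenhausGroup G Ω) (hab : a ≠ b)
    (hodd : Odd (Nat.card ↥(stabilizer G a ⊓ stabilizer G b))) :
    (Nat.card ↥(stabilizer G a ⊓ stabilizer G b)).Coprime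
      (stabilizer G a ⊓ stabilizer G b).index := by
  have := finite_of_zas hZ
  obtain ⟨H, hH, -⟩ := exists_ker hZ a
  have hd := two_pt_dvd hH hZ hab
  have hG := hH.card_group hZ hab
  have hi := (stabilizer G a ⊓ stabilizer G b).card_mul_index
  set e := Nat.card ↥(stabilizer G a ⊓ stabilizer G b) with he
  have hpos : 0 < e := Nat.card_pos
  have hidx : (stabilizer G a ⊓ stabilizer G b).index = Nat.card Ω * Nat.card H := by
    apply Nat.eq_of_mul_eq_mul_left hpos
    rw [hi, hG]; ring
  rw [hidx, Nat.coprime_mul_iff_right]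
  refine ⟨?_, hH.coprime hZ hab⟩
  rw [← hH.card]
  have hh : 0 < Nat.card H := Nat.card_pos
  apply Nat.coprime_of_dvd
  intro q hq hqe hqh
  have h1 : q ∣ Nat.card H - 1 := hqe.trans hd
  have h2 : q ∣ 2 := by
    have := Nat.dvd_sub hqh h1
    rwa [show Nat.card H + 1 - (Nat.card H - 1) = 2 by omega] at this
  have := (Nat.prime_dvd_prime_iff_eq hq Nat.prime_two).1 h2
  subst this
  exact Nat.not_even_iff_odd.2 hodd (even_iff_two_dvd.2 hqe)

theorem two_isZGroup (hZ : Cfsg.IsZassenhausGroup G Ω) (hab : a ≠ b)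
    (hodd : Odd (Nat.card ↥(stabilizer G a ⊓ stabilizer G b))) :
    IsZGroup ↥(stabilizer G a ⊓ stabilizer G b) := by
  have := finite_of_zas hZ
  obtain ⟨H, hH, -⟩ := exists_ker hZ a
  have : Nontrivial H := (Subgroup.nontrivial_iff_ne_bot H).2 (hH.ne_bot hZ)
  have : Nontrivial ↥(stabilizer G a ⊓ stabilizer G b) :=
    (Subgroup.nontrivial_iff_ne_bot _).2 (two_pt_ne_bot hZ hab)
  refine S0341.isZGroup_of_fpf
    (H.normalizerMonoidHom.comp (Subgroup.inclusion
      (le_trans inf_le_left (hH.le_normalizer hZ)))) ?_ hodd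
  intro x hx u hu
  exact Subtype.ext (hH.fpf hZ hab x.2 (fun h => hx (Subtype.ext h)) u.2 (congrArg Subtype.val hu))

theorem pow_eq_inv_of_sq {A : Type*} [Group A] [Finite A] {q : ℕ} (hq : q.Prime) (hq2 : q ≠ 2)
    (hA : IsPGroup q A) {y : A} (f : A →* A) {k : ℤ} (hk : f y = y ^ k) (hf2 : f (f y) = y)
    (hne : f y ≠ y) : f y = y⁻¹ := by
  have := Fact.mk hq
  obtain ⟨n, hn⟩ := (hA.of_injective (Subgroup.subtype (Subgroup.zpowers y))
    (Subgroup.subtype_injective _)).exists_card_eq
  rw [Nat.card_zpowers] at hn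
  rw [hk] at hf2 hne ⊢
  rw [map_zpow, hk, ← zpow_mul] at hf2
  have hdvd : ((q : ℤ) ^ n) ∣ (k - 1) * (k + 1) := by
    have h : y ^ ((k - 1) * (k + 1)) = 1 := by
      rw [show (k - 1) * (k + 1) = k * k - 1 by ring, zpow_sub, hf2]
      simp
    rw [← orderOf_dvd_iff_zpow_eq_one, hn] at h
    exact_mod_cast h
  have hprime : Prime (q : ℤ) := Nat.prime_iff_prime_int.1 hq
  by_cases hd : (q : ℤ) ∣ k - 1
  · exfalso
    have hnd : ¬ (q : ℤ) ∣ k + 1 := fun h => by
      have h2 : (q : ℤ) ∣ 2 := by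
        have := dvd_sub h hd
        rwa [show k + 1 - (k - 1) = 2 by ring] at this
      have h3 : q ∣ 2 := by exact_mod_cast h2
      exact hq2 ((Nat.prime_dvd_prime_iff_eq hq Nat.prime_two).1 h3)
    have h1 := hprime.pow_dvd_of_dvd_mul_right n hnd hdvd
    apply hne
    have h2 : y ^ (k - 1) = 1 := by
      rw [← orderOf_dvd_iff_zpow_eq_one, hn]; exact_mod_cast h1
    rw [zpow_sub, zpow_one, mul_inv_eq_one] at h2
    exact h2
  · have h1 := hprime.pow_dvd_of_dvd_mul_left n hd hdvd
    have h2 : y ^ (k + 1) = 1 := by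
      rw [← orderOf_dvd_iff_zpow_eq_one, hn]; exact_mod_cast h1
    rw [zpow_add, zpow_one] at h2
    exact eq_inv_of_mul_eq_one_left h2

theorem two_structure (hZ : Cfsg.IsZassenhausGroup G Ω) (hab : a ≠ b)
    (hodd : Odd (Nat.card ↥(stabilizer G a ⊓ stabilizer G b)))
    (hnc : ∀ q : ℕ, q.Prime → q ∣ Nat.card ↥(stabilizer G a ⊓ stabilizer G b) →
      ¬ ∃ N : Subgroup G, N.Normal ∧ N.index = q ^ (Nat.card G).factorization q) :
    IsCyclic ↥(stabilizer G a ⊓ stabilizer G b) ∧
      Subgroup.centralizer ((stabilizer G a ⊓ stabilizer G b : Subgroup G) : Set G) =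
        stabilizer G a ⊓ stabilizer G b ∧
      ∀ s : G, s • a = b → s • b = a → ∀ x ∈ stabilizer G a ⊓ stabilizer G b,
        s * x * s⁻¹ = x⁻¹ := by
  have := finite_of_zas hZ
  set E := stabilizer G a ⊓ stabilizer G b with hE
  have hcop := coprime_card_group hZ hab hodd
  have := two_isZGroup hZ hab hodd
  rw [← hE] at this
  set A := commutator E with hA
  have hAcop := IsZGroup.coprime_commutator_index E
  have hAcyc : IsCyclic A := IsZGroup.isCyclic_commutator E
  -- the action of an interchanging element on the abelian quotient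
  have hinv : ∀ s : G, ∀ hs : (s • a = b ∧ s • b = a), ∀ x : E,
      (⟨s * x * s⁻¹, two_conj_mem (Or.inr hs) x.2⟩ * x : E) ∈ A := by
    intro s hs
    have hsN : s ∈ Subgroup.normalizer (E : Set G) :=
      (mem_normalizer_two_iff hZ hab).2 (Or.inr hs)
    set φ : E →* E := (E.normalizerMonoidHom ⟨s, hsN⟩).toMonoidHom with hφ
    let M : Subgroup E :=
      { carrier := {x | φ x * x ∈ A}
        one_mem' := by simp
        mul_mem' := fun {x y} hx hy => by
          show φ (x * y) * (x * y) ∈ A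
          have h1 : φ (x * y) * (x * y) =
              ((φ x * φ y) * x * (φ y)⁻¹ * (φ x * x)⁻¹ * (φ x * x)) * (φ y * y) := by
            rw [map_mul]; group
          have h2 : φ x * φ y * x * (φ y)⁻¹ * (φ x * x)⁻¹ = φ x * ⁅φ y, x⁆ * (φ x)⁻¹ := by
            rw [commutatorElement_def]; group
          rw [h1, h2]
          exact mul_mem (mul_mem ((inferInstance : A.Normal).conj_mem _
            (Subgroup.commutator_mem_commutator (Subgroup.mem_top _) (Subgroup.mem_top _)) _) hx) hy
        inv_mem' := fun {x} hx => by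
          show φ x⁻¹ * x⁻¹ ∈ A
          have h1 : φ x⁻¹ * x⁻¹ = ⁅(φ x)⁻¹, x⁻¹⁆ * (x⁻¹ * (φ x)⁻¹) := by
            rw [commutatorElement_def, map_inv]; group
          rw [h1]
          refine mul_mem (Subgroup.commutator_mem_commutator (Subgroup.mem_top _)
            (Subgroup.mem_top _)) ?_
          have hx' : φ x * x ∈ A := hx
          have := inv_mem hx'
          rwa [mul_inv_rev] at this }
    have hAM : A ≤ M := by
      intro x hx
      show φ x * x ∈ A
      refine mul_mem ?_ hx
      have h1 : A.map φ ≤ A := by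
        rw [hA, commutator_def, Subgroup.map_commutator]
        exact Subgroup.commutator_mono le_top le_top
      exact h1 ⟨x, hx, rfl⟩
    have hMtop : M = ⊤ := by
      by_contra hM
      obtain ⟨q, hq, hqd⟩ := Nat.exists_prime_and_dvd (n := M.index)
        (fun h => hM (Subgroup.index_eq_one.1 h))
      have := Fact.mk hq
      have hqA : ¬ q ∣ Nat.card A := by
        intro h
        have h1 : q ∣ A.index := hqd.trans (Subgroup.index_dvd_of_le hAM)
        have h2 : q ∣ Nat.gcd (Nat.card A) A.index := Nat.dvd_gcd h h1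
        rw [hAcop.gcd_eq_one] at h2
        exact hq.not_dvd_one h2
      let Q : Sylow q E := default
      suffices hQM : (Q : Subgroup E) ≤ M from
        Q.not_dvd_index (hqd.trans (Subgroup.index_dvd_of_le hQM))
      have hqE : q ∣ Nat.card E := hqd.trans M.index_dvd_card
      have hq2 : q ≠ 2 := fun h => Nat.not_even_iff_odd.2 hodd (even_iff_two_dvd.2 (h ▸ hqE))
      -- `Q` is a Sylow subgroup of `G`
      set R : Subgroup G := (Q : Subgroup E).map E.subtype with hR
      have hRp : IsPGroup q R := Q.2.map _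
      have hRcard : Nat.card R = q ^ (Nat.card G).factorization q := by
        rw [hR, Subgroup.card_map_of_injective E.subtype_injective, Q.card_eq_multiplicity,
          ← E.card_mul_index,
          Nat.factorization_mul (Nat.card_pos).ne' Subgroup.index_ne_zero_of_finite]
        congr 1
        rw [Finsupp.add_apply, Nat.factorization_eq_zero_of_not_dvd (n := E.index) (fun h => ?_),
          add_zero]
        have h2 : q ∣ Nat.gcd (Nat.card E) E.index := Nat.dvd_gcd hqE h
        rw [hcop.gcd_eq_one] at h2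
        exact hq.not_dvd_one h2
      let P : Sylow q G := Sylow.ofCard R hRcard
      have hPR : (P : Subgroup G) = R := rfl
      have hRne : R ≠ ⊥ := by
        intro h
        have h1 := hRcard
        rw [h, Subgroup.card_bot, eq_comm] at h1
        have h2 : 0 < (Nat.card G).factorization q :=
          hq.factorization_pos_of_dvd Nat.card_pos.ne'
            (hqE.trans E.card_subgroup_dvd_card)
        have := Nat.one_lt_pow h2.ne' hq.one_lt
        omega
      -- some element of `N(Q)` interchanges `a, b` and inverts `Q`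
      obtain ⟨g, hgN, hgC⟩ : ∃ g ∈ Subgroup.normalizer (R : Set G),
          g ∉ Subgroup.centralizer (R : Set G) := by
        by_contra hcon
        push Not at hcon
        have hP : Subgroup.normalizer ((P : Subgroup G) : Set G) ≤
            Subgroup.centralizer ((P : Subgroup G) : Set G) := hcon
        have hk := MonoidHom.ker_transferSylow_isComplement' P hP
        refine hnc q hq hqE ⟨(MonoidHom.transferSylow P hP).ker, inferInstance, ?_⟩
        rw [hk.symm.index_eq_card, hPR, hRcard]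
      obtain ⟨r, hr, hr1⟩ := (Subgroup.bot_or_exists_ne_one R).resolve_left hRne
      have hRE : R ≤ E := Subgroup.map_subtype_le _
      have hgab : (g • a = a ∧ g • b = b) ∨ (g • a = b ∧ g • b = a) :=
        two_cases hZ hab (hRE hr) hr1 (hRE ((Subgroup.mem_normalizer_iff.1 hgN r).1 hr))
      -- elements of `Q` are rigid modulo `A`
      have hQA : ∀ z : E, z ∈ (Q : Subgroup E) → z ∈ A → z = 1 := by
        intro z hz hzA
        obtain ⟨k, hk⟩ := Q.2 ⟨z, hz⟩
        have hk' : z ^ q ^ k = 1 := congrArg Subtype.val hk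
        have h1 : orderOf z ∣ Nat.gcd (q ^ k) (Nat.card A) :=
          Nat.dvd_gcd (orderOf_dvd_of_pow_eq_one hk')
            (Subgroup.orderOf_dvd_natCard A hzA)
        rw [(Nat.Coprime.pow_left k ((hq.coprime_iff_not_dvd).2 hqA)).gcd_eq_one,
          Nat.dvd_one, orderOf_eq_one_iff] at h1
        exact h1
      have hgE : g ∉ E := by
        intro hgE'
        apply hgC
        rw [Subgroup.mem_centralizer_iff]
        rintro _ ⟨z, hz, rfl⟩
        obtain ⟨z', hz', he'⟩ := (Subgroup.mem_normalizer_iff.1 hgN z).1 ⟨z, hz, rfl⟩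
        have hz'' : z' = ⟨g, hgE'⟩ * z * ⟨g, hgE'⟩⁻¹ := Subtype.ext he'
        have h1 : z' * z⁻¹ ∈ A := by
          rw [hz'']
          have := Subgroup.commutator_mem_commutator (G := E) (H₁ := ⊤) (H₂ := ⊤)
            (Subgroup.mem_top (⟨g, hgE'⟩ : E)) (Subgroup.mem_top z)
          rwa [commutatorElement_def] at this
        have h2 : z' = z := mul_inv_eq_one.1 (hQA _ (mul_mem hz' (inv_mem hz)) h1)
        have h3 : g * (z : G) * g⁻¹ = z := by
          show (g * (z : G) * g⁻¹) = _
          have := congrArg Subtype.val hz''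
          rw [h2] at this
          exact this.symm
        show (z : G) * g = g * z
        exact (mul_inv_eq_iff_eq_mul.1 h3).symm
      have hgsw : g • a = b ∧ g • b = a := hgab.resolve_left fun h => hgE (mem_two.2 h)
      -- `g` inverts `R`
      have hRcyc : IsCyclic R := by
        have : IsCyclic (Q : Subgroup E) := inferInstanceAs (IsCyclic Q)
        exact isCyclic_of_surjective
          ((Q : Subgroup E).equivMapOfInjective E.subtype E.subtype_injective)
          (MulEquiv.surjective _)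
      set c : R →* R := (R.normalizerMonoidHom ⟨g, hgN⟩).toMonoidHom with hc
      have hcval : ∀ z : R, (c z : G) = g * z * g⁻¹ := fun z => rfl
      have hg2 : g * g ∈ E := mem_two.2 ⟨by rw [mul_smul, hgsw.1, hgsw.2],
        by rw [mul_smul, hgsw.2, hgsw.1]⟩
      have hgg : ∀ z ∈ R, (g * g) * z * (g * g)⁻¹ = z := by
        rintro _ ⟨z, hz, rfl⟩
        obtain ⟨z', hz', he'⟩ : ((g * g) * (z : G) * (g * g)⁻¹) ∈ R :=
          (Subgroup.mem_normalizer_iff.1 (mul_mem hgN hgN) z).1 ⟨z, hz, rfl⟩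
        have hz'' : z' = ⟨g * g, hg2⟩ * z * ⟨g * g, hg2⟩⁻¹ := Subtype.ext he'
        have h1 : z' * z⁻¹ ∈ A := by
          rw [hz'']
          have := Subgroup.commutator_mem_commutator (G := E) (H₁ := ⊤) (H₂ := ⊤)
            (Subgroup.mem_top (⟨g * g, hg2⟩ : E)) (Subgroup.mem_top z)
          rwa [commutatorElement_def] at this
        have h2 : z' = z := mul_inv_eq_one.1 (hQA _ (mul_mem hz' (inv_mem hz)) h1)
        exact he'.symm.trans (congrArg Subtype.val h2)
      obtain ⟨y, hy⟩ := hRcyc.exists_generator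
      obtain ⟨k, hk⟩ := Subgroup.mem_zpowers_iff.1 (hy (c y))
      have hcy : c y = y⁻¹ := by
        refine pow_eq_inv_of_sq hq hq2 hRp c hk.symm ?_ ?_
        · refine Subtype.ext ?_
          rw [hcval, hcval]
          have e : g * (g * (y : G) * g⁻¹) * g⁻¹ = g * g * (y : G) * (g * g)⁻¹ := by group
          exact e.trans (hgg y y.2)
        · intro hfix
          apply hgC
          rw [Subgroup.mem_centralizer_iff]
          intro z hz
          obtain ⟨m, hm⟩ := Subgroup.mem_zpowers_iff.1 (hy ⟨z, hz⟩)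
          have hz' : c ⟨z, hz⟩ = ⟨z, hz⟩ := by rw [← hm, map_zpow, hfix]
          have h3 : g * z * g⁻¹ = z := congrArg Subtype.val hz'
          exact (mul_inv_eq_iff_eq_mul.1 h3).symm
      have hginv : ∀ z ∈ R, g * z * g⁻¹ = z⁻¹ := by
        intro z hz
        obtain ⟨m, hm⟩ := Subgroup.mem_zpowers_iff.1 (hy ⟨z, hz⟩)
        have hz' : c ⟨z, hz⟩ = (⟨z, hz⟩ : R)⁻¹ := by rw [← hm, map_zpow, hcy, inv_zpow]
        exact congrArg Subtype.val hz'
      -- transfer to `s`
      intro z hz
      show φ z * z ∈ A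
      have hw : s * g⁻¹ ∈ E := mem_two.2 ⟨by rw [mul_smul, inv_smul_eq_iff.2 hgsw.2.symm, hs.2],
        by rw [mul_smul, inv_smul_eq_iff.2 hgsw.1.symm, hs.1]⟩
      have h1 : φ z = ⟨s * g⁻¹, hw⟩ * z⁻¹ * (⟨s * g⁻¹, hw⟩ : E)⁻¹ := by
        refine Subtype.ext ?_
        show s * (z : G) * s⁻¹ = (s * g⁻¹) * (z : G)⁻¹ * (s * g⁻¹)⁻¹
        rw [← hginv z ⟨z, hz, rfl⟩]; group
      rw [h1]
      have h2 := Subgroup.commutator_mem_commutator (G := E) (H₁ := ⊤) (H₂ := ⊤)
        (Subgroup.mem_top (⟨s * g⁻¹, hw⟩ : E)) (Subgroup.mem_top z⁻¹)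
      rwa [commutatorElement_def, inv_inv] at h2
    intro x
    have h1 : x ∈ M := hMtop ▸ Subgroup.mem_top x
    exact h1
  obtain ⟨s, hsa, hsb⟩ := H33.zas_map_pair hZ hab hab.symm
  have hsN : s ∈ Subgroup.normalizer (E : Set G) :=
    (mem_normalizer_two_iff hZ hab).2 (Or.inr ⟨hsa, hsb⟩)
  -- `A` is central
  have hAcen : A ≤ Subgroup.center E := by
    let ρ : Subgroup.normalizer (E : Set G) →* MulAut A :=
      { toFun := fun n =>
          Frobenius.restrictEquiv (E.normalizerMonoidHom n) A (by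
            have : A.Characteristic := by rw [hA]; infer_instance
            exact Subgroup.characteristic_iff_map_eq.1 this _)
        map_one' := by
          refine MulEquiv.ext fun x => Subtype.ext ?_
          show E.normalizerMonoidHom 1 (x : E) = (x : E)
          rw [map_one]; rfl
        map_mul' := fun n m => by
          refine MulEquiv.ext fun x => Subtype.ext ?_
          show E.normalizerMonoidHom (n * m) (x : E) =
            E.normalizerMonoidHom n (E.normalizerMonoidHom m (x : E))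
          rw [map_mul]; rfl }
    have hcommAut : ∀ f g : MulAut A, f * g = g * f := by
      intro f g
      obtain ⟨i, hi⟩ := MonoidHom.map_cyclic (f.toMonoidHom)
      obtain ⟨j, hj⟩ := MonoidHom.map_cyclic (g.toMonoidHom)
      simp only [MulEquiv.toMonoidHom_eq_coe, MonoidHom.coe_coe] at hi hj
      refine MulEquiv.ext fun x => ?_
      rw [MulAut.mul_apply, MulAut.mul_apply, hi, hi, hj, hj, ← zpow_mul, ← zpow_mul, mul_comm i j]
    intro x hx
    rw [Subgroup.mem_center_iff]
    intro y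
    let y' : Subgroup.normalizer (E : Set G) := ⟨y, Subgroup.le_normalizer y.2⟩
    let s' : Subgroup.normalizer (E : Set G) := ⟨s, hsN⟩
    have hz := hinv s ⟨hsa, hsb⟩ y
    set z : E := ⟨s * y * s⁻¹, two_conj_mem (Or.inr ⟨hsa, hsb⟩) y.2⟩ * y with hzdef
    have hρA : ρ ⟨z, Subgroup.le_normalizer z.2⟩ = 1 := by
      refine MulEquiv.ext fun w => Subtype.ext ?_
      show z * (w : E) * z⁻¹ = (w : E)
      have hzw : (⟨z, hz⟩ : A) * w = w * ⟨z, hz⟩ := by
        letI := IsCyclic.commGroup (α := A)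
        exact mul_comm _ _
      rw [mul_inv_eq_iff_eq_mul]
      exact congrArg Subtype.val hzw
    have hdec : (⟨z, Subgroup.le_normalizer z.2⟩ : Subgroup.normalizer (E : Set G)) =
        s' * y' * s'⁻¹ * y' := Subtype.ext rfl
    rw [hdec, map_mul, map_mul, map_mul, hcommAut (ρ s') (ρ y'), mul_assoc (ρ y'), ← map_mul ρ s',
      mul_inv_cancel, map_one, mul_one, ← pow_two] at hρA
    have ho1 : orderOf (ρ y') ∣ Nat.gcd 2 (Nat.card E) := by
      refine Nat.dvd_gcd (orderOf_dvd_of_pow_eq_one hρA) ?_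
      have h1 : orderOf (ρ y') ∣ orderOf y' := orderOf_map_dvd ρ y'
      refine h1.trans ?_
      rw [← Subgroup.orderOf_coe]
      exact (Subgroup.orderOf_coe y).symm ▸ orderOf_dvd_natCard y
    rw [(Nat.coprime_two_left.2 hodd).gcd_eq_one, Nat.dvd_one, orderOf_eq_one_iff] at ho1
    have h3 := congrArg (fun f : MulAut A => ((f ⟨x, hx⟩ : A) : E)) ho1
    simp only [MulAut.one_apply] at h3
    exact mul_inv_eq_iff_eq_mul.1 h3
  have hcomm : ∀ x y : E, x * y = y * x := by
    have : IsCyclic (Abelianization E) := IsZGroup.isCyclic_abelianization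
    exact commutative_of_cyclic_center_quotient (Abelianization.of (G := E))
      (by rw [Abelianization.ker_of]; exact hAcen)
  have hAbot : A = ⊥ := by
    rw [hA, commutator_def, Subgroup.commutator_eq_bot_iff_le_centralizer]
    intro x _
    rw [Subgroup.mem_centralizer_iff]
    exact fun y _ => hcomm y x
  have hEnil : Group.IsNilpotent E := by
    letI : CommGroup E := { (inferInstance : Group E) with mul_comm := hcomm }
    infer_instance
  have hinv' : ∀ s : G, s • a = b → s • b = a → ∀ x ∈ E, s * x * s⁻¹ = x⁻¹ := by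
    intro s h1 h2 x hx
    have h3 := hinv s ⟨h1, h2⟩ ⟨x, hx⟩
    rw [hAbot, Subgroup.mem_bot] at h3
    have h4 : s * x * s⁻¹ * x = 1 := congrArg Subtype.val h3
    exact eq_inv_of_mul_eq_one_left h4
  refine ⟨inferInstance, le_antisymm (fun g hg => ?_) ?_, hinv'⟩
  · obtain ⟨x, hx, hx1⟩ :=
      (Subgroup.bot_or_exists_ne_one _).resolve_left (two_pt_ne_bot hZ hab)
    have hgx : g * x * g⁻¹ = x :=
      mul_inv_eq_iff_eq_mul.2 ((Subgroup.mem_centralizer_iff.1 hg x hx).symm)
    rcases two_cases hZ hab hx hx1 (by rw [hgx]; exact hx) with h | h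
    · exact mem_two.2 h
    · exfalso
      have h5 := hinv' g h.1 h.2 x hx
      rw [hgx] at h5
      have h6 : x ^ 2 = 1 := by rw [pow_two]; exact eq_inv_iff_mul_eq_one.1 h5
      have h7 : orderOf x ∣ Nat.gcd 2 (Nat.card E) :=
        Nat.dvd_gcd (orderOf_dvd_of_pow_eq_one h6) (Subgroup.orderOf_dvd_natCard E hx)
      rw [(Nat.coprime_two_left.2 hodd).gcd_eq_one, Nat.dvd_one, orderOf_eq_one_iff] at h7
      exact hx1 h7
  · intro g hg
    rw [Subgroup.mem_centralizer_iff]
    exact fun x hx => congrArg Subtype.val (hcomm ⟨x, hx⟩ ⟨g, hg⟩)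

/-- A non-trivial simple Zassenhaus group has no normal complement at a prime dividing `|E|`. -/
theorem no_complement_of_simple [IsSimpleGroup G] (hZ : Cfsg.IsZassenhausGroup G Ω) (hab : a ≠ b)
    (hodd : Odd (Nat.card ↥(stabilizer G a ⊓ stabilizer G b))) (q : ℕ) (hq : q.Prime)
    (hqd : q ∣ Nat.card ↥(stabilizer G a ⊓ stabilizer G b)) :
    ¬ ∃ N : Subgroup G, N.Normal ∧ N.index = q ^ (Nat.card G).factorization q := by
  have := finite_of_zas hZ
  rintro ⟨N, hN, hi⟩
  have h2 : 0 < (Nat.card G).factorization q :=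
    hq.factorization_pos_of_dvd Nat.card_pos.ne'
      (hqd.trans (Subgroup.card_subgroup_dvd_card _))
  rcases IsSimpleGroup.eq_bot_or_eq_top_of_normal N hN with rfl | rfl
  · rw [Subgroup.index_bot] at hi
    obtain ⟨H, hH, -⟩ := exists_ker hZ a
    have hG := hH.card_group hZ hab
    have h2dvd : 2 ∣ Nat.card G := by
      rw [hG]
      rcases Nat.even_or_odd (Nat.card H) with h | h
      · exact (h.two_dvd.trans (dvd_mul_right _ _)).trans (dvd_mul_left _ _)
      · exact ((h.add_one).two_dvd.trans (hH.card ▸ dvd_refl _)).trans (dvd_mul_right _ _)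
    rw [hi] at h2dvd
    have h3 := Nat.prime_two.dvd_of_dvd_pow h2dvd
    rw [Nat.prime_dvd_prime_iff_eq Nat.prime_two hq] at h3
    subst h3
    exact Nat.not_even_iff_odd.2 hodd (even_iff_two_dvd.2 hqd)
  · rw [Subgroup.index_top] at hi
    have := Nat.one_lt_pow h2.ne' hq.one_lt
    omega

end Cfsg.Agent.H28.Zass
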